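import Cfsg.Agent.Cit.TypeDet.Group
import Cfsg.Agent.Cit.CorTwo

/-!
# (F0): `N_G(D(S))` is transitive on the `G`-conjugate members of `Om(S)`
-/

set_option autoImplicit false

namespace Cfsg.Agent.Cit.TypeDet

open Subgroup

variable {G : Type*} [Group G] [Finite G] {Om : Set (Subgroup G)}

/-- **(F0)** -/
theorem exists_normalizer_cj (h : Hyp Om) (S : Sylow 2 G) {K L : Subgroup G}
    (hK : K ∈ OmS Om (S : Subgroup G)) (hL : L ∈ OmS Om (S : Subgroup G)) {g : G}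
    (hg : cj g K = L) : ∃ n ∈ normalizer (DD Om (S : Subgroup G) : Set G), cj n K = L := by
  have : Fact (Nat.Prime 2) := ⟨Nat.prime_two⟩
  -- the second Sylow subgroup
  set S' : Sylow 2 G := g • S with hS'
  have hS'g : (S' : Subgroup G) = cj g (S : Subgroup G) := by rw [hS']; rfl
  have hLS' : L ∈ OmS Om (S' : Subgroup G) := by
    rw [hS'g, ← hg]; exact cj_mem_OmS h.conj g hK
  have h1 : DD Om (S : Subgroup G) ≤ normalizer (L : Set G) := h.DD_le_normalizer S.isPGroup' hL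
  have h2 : DD Om (S' : Subgroup G) ≤ normalizer (L : Set G) := h.DD_le_normalizer S'.isPGroup' hLS'
  have hD1 : IsPGroup 2 (DD Om (S : Subgroup G)) := S.isPGroup'.to_le DD_le
  have hD2 : IsPGroup 2 (DD Om (S' : Subgroup G)) := S'.isPGroup'.to_le DD_le
  obtain ⟨T, hT, hT1⟩ := exists_syl_ge hD1 h1
  obtain ⟨T', hT', hT1'⟩ := exists_syl_ge hD2 h2
  obtain ⟨k, hk, hkT⟩ := hT'.exists_conj hT
  -- `S'' = k g S`
  set S'' : Sylow 2 G := k • S' with hS''
  have hS''g : (S'' : Subgroup G) = cj k (S' : Subgroup G) := by rw [hS'']; rfl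
  have h3 : DD Om (S'' : Subgroup G) = cj k (DD Om (S' : Subgroup G)) := by
    rw [hS''g, cj_DD h.conj]
  have h4 : DD Om (S'' : Subgroup G) ≤ T := by
    rw [h3, ← hkT]; exact cj_mono k hT1'
  have h5 : DD Om T = DD Om (S'' : Subgroup G) := h.DD_eq S'' hT.2.1 h4
  have h6 : DD Om T = DD Om (S : Subgroup G) := h.DD_eq S hT.2.1 hT1
  refine ⟨k * g, ?_, ?_⟩
  · rw [mem_normalizer_iff_cj, cj_mul, cj_DD h.conj g, ← hS'g, ← h3, ← h5, h6]
  · rw [cj_mul, hg]
    exact mem_normalizer_iff_cj.mp hk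

/-- the members of `Om(S)` as an indexed family -/
def fam (Om : Set (Subgroup G)) (S : Subgroup G) : ↥(OmS Om S) → Subgroup G := fun K => K.1

/-- `N_G(D(S))` permutes `Om(S)` -/
theorem cj_mem_OmS_of_normalizer (h : Hyp Om) (S : Sylow 2 G) {n : G}
    (hn : n ∈ normalizer (DD Om (S : Subgroup G) : Set G)) {K : Subgroup G}
    (hK : K ∈ OmS Om (S : Subgroup G)) : cj n K ∈ OmS Om (S : Subgroup G) := by
  rw [← OmS_DD S.isPGroup'] at hK ⊢
  exact cj_mem_OmS' h.conj hn hK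

/-- the permutation of `Om(S)` induced by an element of `N_G(D(S))` -/
noncomputable def permOf (h : Hyp Om) (S : Sylow 2 G) {n : G}
    (hn : n ∈ normalizer (DD Om (S : Subgroup G) : Set G)) :
    Equiv.Perm ↥(OmS Om (S : Subgroup G)) where
  toFun K := ⟨cj n K.1, cj_mem_OmS_of_normalizer h S hn K.2⟩
  invFun K := ⟨cj n⁻¹ K.1, cj_mem_OmS_of_normalizer h S (inv_mem hn) K.2⟩
  left_inv K := Subtype.ext (cj_inv_cj n K.1)
  right_inv K := Subtype.ext (cj_cj_inv n K.1)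

/-- **transitivity of the automorphisms of the frame `Om(S)`** (one class) -/
theorem trans_aut (h : Hyp Om) (hone : ∀ K ∈ Om, ∀ L ∈ Om, ∃ g, cj g K = L) (S : Sylow 2 G)
    [Fintype ↥(OmS Om (S : Subgroup G))]
    (hK : ∀ i : ↥(OmS Om (S : Subgroup G)), i.1 ∈ Om)
    (hc : ∀ i j : ↥(OmS Om (S : Subgroup G)), i ≠ j → cm i.1 j.1)
    (k l : ↥(OmS Om (S : Subgroup G))) :
    ∃ σ : Equiv.Perm ↥(OmS Om (S : Subgroup G)),
      (data Om (fun i : ↥(OmS Om (S : Subgroup G)) => i.1) hK hc).IsAut σ ∧ σ k = l := by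
  obtain ⟨g, hg⟩ := hone k.1 (hK k) l.1 (hK l)
  obtain ⟨n, hn, hnk⟩ := exists_normalizer_cj h S k.2 l.2 hg
  refine ⟨permOf h S hn, ?_, Subtype.ext hnk⟩
  exact isAut hK hc h.conj (fun i g => h.zz_cj (hK i) g) (g := n) (fun i => rfl)

end Cfsg.Agent.Cit.TypeDet
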