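import Cfsg.Agent.Cit.TypeDet.Red
import Cfsg.Agent.Cit.TypeDet.Trans
import Cfsg.Agent.Cit.WeakCl

/-!
# The frames `Om(S)`, `S` a Sylow 2-subgroup
-/

set_option autoImplicit false
set_option linter.unusedSectionVars false

namespace Cfsg.Agent.Cit.TypeDet

open Subgroup

variable {G : Type*} [Group G] [Finite G] {Om : Set (Subgroup G)}

/-- the product of pairwise commuting 2-groups is a 2-group -/
theorem isPGroup_iSup_of_cm {κ : Type*} (Q : κ → Subgroup G) (hQ : ∀ i, IsPGroup 2 (Q i))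
    (hc : ∀ i j, i ≠ j → cm (Q i) (Q j)) (T : Set κ) (hT : T.Finite) :
    IsPGroup 2 (⨆ i ∈ T, Q i : Subgroup G) := by
  induction T, hT using Set.Finite.induction_on with
  | empty =>
    rw [iSup_emptyset]
    exact IsPGroup.of_bot
  | @insert a T ha hT ih =>
    rw [iSup_insert]
    have h1 : Q a ≤ normalizer ((⨆ i ∈ T, Q i : Subgroup G) : Set G) := by
      refine (cm_iff_le_centralizer.mp ?_).trans (centralizer_le_normalizer _)
      refine cm_symm (cm_iSup fun i => cm_iSup fun hi => hc i a (fun e => ha (e ▸ hi)))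
    exact IsPGroup.to_sup_of_normal_right' (hQ a) ih h1

/-- the family of the sets `Om(S)` -/
def sylFrames (Om : Set (Subgroup G)) : Set (Set (Subgroup G)) :=
  {F | ∃ S : Sylow 2 G, F = OmS Om (S : Subgroup G)}

theorem exists_sylow_of_comm {C : Set (Subgroup G)} (hC : C ⊆ Om)
    (hcc : ∀ K ∈ C, ∀ L ∈ C, K ≠ L → cm K L) : ∃ S : Sylow 2 G, C ⊆ OmS Om (S : Subgroup G) := by
  have : Fact (Nat.Prime 2) := ⟨Nat.prime_two⟩
  choose Q hQ using fun K : Subgroup G => Hyp.exists_syl K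
  have h1 : IsPGroup 2 (⨆ K ∈ (Set.univ : Set ↥C), Q K.1 : Subgroup G) := by
    refine isPGroup_iSup_of_cm (fun K : ↥C => Q K.1) (fun K => (hQ K.1).2.1) ?_ _
      (Set.toFinite _)
    intro K L hKL
    exact cm_mono (hQ K.1).1 (hQ L.1).1 (hcc K.1 K.2 L.1 L.2 (fun e => hKL (Subtype.ext e)))
  obtain ⟨S, hS⟩ := h1.exists_le_sylow
  refine ⟨S, fun K hK => ?_⟩
  refine mem_OmS_of_le (hC hK) (hQ K) (le_trans ?_ hS)
  exact le_iSup₂_of_le (⟨K, hK⟩ : ↥C) (Set.mem_univ _) le_rfl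

theorem frames_of (h : Hyp Om) (hone : ∀ K ∈ Om, ∀ L ∈ Om, ∃ g, cj g K = L)
    (hcm : ∀ S : Sylow 2 G, ∀ K ∈ OmS Om (S : Subgroup G), ∀ L ∈ OmS Om (S : Subgroup G),
      K ≠ L → cm K L) (hna : ∀ K ∈ Om, ¬ cm K K) : Red.Frames Om (sylFrames Om) where
  conj := h.conj
  frm := by
    rintro F ⟨S, rfl⟩
    refine ⟨fun K hK => hK.1, hcm S, ?_⟩
    intro L hL
    by_contra hcon
    push Not at hcon
    have hLS : L ∉ OmS Om (S : Subgroup G) := fun h' => hna L hL (hcon L h')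
    obtain ⟨S', hS'⟩ := exists_sylow_of_comm (C := insert L (OmS Om (S : Subgroup G)))
      (by
        rintro K (hK | hK)
        · rw [hK]; exact hL
        · exact hK.1)
      (by
        rintro K (hK | hK) M (hM | hM) hKM
        · exact absurd (hK.trans hM.symm) hKM
        · rw [hK]; exact hcon M hM
        · rw [hM]; exact cm_symm (hcon K hK)
        · exact hcm S K hK M hM hKM)
    obtain ⟨g, hg⟩ := Cit.exists_cj_sylow S S'
    have h1 : (OmS Om (S' : Subgroup G)).ncard = (OmS Om (S : Subgroup G)).ncard := by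
      rw [← hg, ncard_OmS_cj h.conj]
    have h2 := Set.ncard_le_ncard hS' (Set.toFinite _)
    rw [Set.ncard_insert_of_notMem hLS (Set.toFinite _)] at h2
    omega
  trans := by
    rintro F ⟨S, rfl⟩ F' ⟨S', rfl⟩ K hK L hL
    obtain ⟨g, hg⟩ := Cit.exists_cj_sylow S S'
    have hK' : cj g K ∈ OmS Om (S' : Subgroup G) := by
      rw [← hg]; exact cj_mem_OmS h.conj g hK
    obtain ⟨x, hx⟩ := hone _ hK'.1 L hL.1
    obtain ⟨n, hn, hnL⟩ := exists_normalizer_cj h S' hK' hL hx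
    refine ⟨n * g, ?_, by rw [cj_mul]; exact hnL⟩
    have h1 : cj g '' OmS Om (S : Subgroup G) = OmS Om (S' : Subgroup G) := by
      rw [← hg, OmS_cj h.conj]
    have h2 : cj n '' OmS Om (S' : Subgroup G) = OmS Om (S' : Subgroup G) := by
      apply Set.Subset.antisymm
      · rintro _ ⟨M, hM, rfl⟩
        exact cj_mem_OmS_of_normalizer h S' hn hM
      · intro M hM
        exact ⟨cj n⁻¹ M, cj_mem_OmS_of_normalizer h S' (inv_mem hn) hM, cj_cj_inv n M⟩
    rw [← h2, ← h1, Set.image_image]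
    simp only [cj_mul]
  ex := by
    intro C hC hcc
    obtain ⟨S, hS⟩ := exists_sylow_of_comm hC hcc
    exact ⟨_, ⟨S, rfl⟩, hS⟩

end Cfsg.Agent.Cit.TypeDet
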