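import Cfsg.Agent.Cit.TypeDet.Group

/-!
# Kinds are computed inside the piece

`B` a subset of the frame, `D = YA Om K B`: the inclusion of `B` is a `Hom` from the data of the frame
`(K_i)_{i ∈ B}` of `D` (with respect to `OmIn Om D = {L ∈ Om | L ≤ D}`) to the data of the whole frame, so
`Kinds univ` for `D` gives `Kinds B`.
-/

set_option autoImplicit false

namespace Cfsg.Agent.Cit.TypeDet

open Subgroup Finset Classical Relation

variable {G : Type*} [Group G]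

/-- the members of `Om` contained in `D` -/
def OmIn (Om : Set (Subgroup G)) (D : Subgroup G) : Set (Subgroup G) := {L | L ∈ Om ∧ L ≤ D}

variable {ι : Type*} [Fintype ι] {Om : Set (Subgroup G)} {K : ι → Subgroup G}

/-- the embedding of `B` -/
def emb (B : Finset ι) : ↥B ↪ ι := Function.Embedding.subtype (fun i => i ∈ B)

omit [Fintype ι] in
theorem mem_map_emb_iff {B : Finset ι} {A : Finset ↥B} {k : ι} :
    k ∈ A.map (emb B) ↔ ∃ h : k ∈ B, (⟨k, h⟩ : ↥B) ∈ A := by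
  simp [emb]

omit [Fintype ι] in
theorem map_emb_subset (B : Finset ι) (A : Finset ↥B) : A.map (emb B) ⊆ B := by
  intro k hk
  exact (mem_map_emb_iff.mp hk).1

omit [Fintype ι] in
theorem univ_map_emb (B : Finset ι) : (univ : Finset ↥B).map (emb B) = B := by
  ext k
  rw [mem_map_emb_iff]
  simp

omit [Fintype ι] in
/-- `OmA` is computed in the piece -/
theorem OmA_map_emb {B : Finset ι} (A : Finset ↥B) :
    OmA Om K (A.map (emb B)) = OmA (OmIn Om (YA Om K B)) (fun i : ↥B => K i.1) A := by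
  ext L
  rw [mem_OmA_iff (map_emb_subset B A)]
  constructor
  · rintro ⟨h1, h2, h3⟩
    refine ⟨⟨h1, h2⟩, fun k hk => h3 k.1 k.2 (fun h => hk ?_)⟩
    obtain ⟨_, h'⟩ := mem_map_emb_iff.mp h
    exact h'
  · rintro ⟨⟨h1, h2⟩, h3⟩
    refine ⟨h1, h2, fun k hk hkA => h3 ⟨k, hk⟩ (fun h => hkA ?_)⟩
    exact mem_map_emb_iff.mpr ⟨hk, h⟩

omit [Fintype ι] in
theorem YA_map_emb {B : Finset ι} (A : Finset ↥B) :
    YA Om K (A.map (emb B)) = YA (OmIn Om (YA Om K B)) (fun i : ↥B => K i.1) A := by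
  rw [YA, YA, OmA_map_emb]

omit [Fintype ι] in
theorem OmIn_mem (hK : ∀ i, K i ∈ Om) (hc : ∀ i j, i ≠ j → cm (K i) (K j)) (B : Finset ι) (i : ↥B) :
    K i.1 ∈ OmIn Om (YA Om K B) := ⟨hK _, le_YA (mem_OmA hK hc i.2)⟩

/-- the inclusion of the frame of a piece -/
theorem hom_piece (hK : ∀ i, K i ∈ Om) (hc : ∀ i j, i ≠ j → cm (K i) (K j))
    (B : Finset ι) :
    Data.Hom (data (OmIn Om (YA Om K B)) (fun i : ↥B => K i.1) (OmIn_mem hK hc B)
      (fun i j hij => hc i.1 j.1 (fun e => hij (Subtype.ext e))))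
      (data Om K hK hc) (emb B) := by
  have hm : ∀ (A : Finset ↥B) (i : ↥B), emb B i ∈ A.map (emb B) ↔ i ∈ A :=
    fun A i => Data.mem_map_emb _
  refine ⟨?_, fun a b c d => Iff.rfl, fun a b => Iff.rfl, ?_, ?_⟩
  · intro A i j
    change (emb B i ∈ A.map (emb B) ∧ emb B j ∈ A.map (emb B) ∧
      chn (OmA Om K (A.map (emb B))) (K i.1) (K j.1)) ↔ (i ∈ A ∧ j ∈ A ∧
      chn (OmA (OmIn Om (YA Om K B)) (fun i : ↥B => K i.1) A) (K i.1) (K j.1))
    rw [hm, hm, OmA_map_emb]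
  · intro a
    change (∀ L ∈ OmA Om K {emb B a}, L = K a.1) ↔
      ∀ L ∈ OmA (OmIn Om (YA Om K B)) (fun i : ↥B => K i.1) {a}, L = K a.1
    have hs : ({emb B a} : Finset ι) = ({a} : Finset ↥B).map (emb B) := by simp
    rw [hs, OmA_map_emb]
  · intro A k
    change (∀ x ∈ YA Om K (A.map (emb B)), x * zz (K k.1) = zz (K k.1) * x) ↔
      ∀ x ∈ YA (OmIn Om (YA Om K B)) (fun i : ↥B => K i.1) A, x * zz (K k.1) = zz (K k.1) * x
    rw [YA_map_emb]

/-- **kinds are computed in the piece** -/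
theorem kinds_of_piece (hK : ∀ i, K i ∈ Om) (hc : ∀ i j, i ≠ j → cm (K i) (K j))
    (B : Finset ι)
    (h : (data (OmIn Om (YA Om K B)) (fun i : ↥B => K i.1) (OmIn_mem hK hc B)
      (fun i j hij => hc i.1 j.1 (fun e => hij (Subtype.ext e)))).Kinds univ) :
    (data Om K hK hc).Kinds B := by
  have h1 := Data.Kinds.map (hom_piece hK hc B) h
  rwa [univ_map_emb] at h1

/-- for a maximal frame, `OmA` of a block is a chain class -/
theorem mem_OmA_blk_iff (hK : ∀ i, K i ∈ Om) (hc : ∀ i j, i ≠ j → cm (K i) (K j))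
    (hmax : ∀ L ∈ Om, ∃ i, ¬ cm L (K i)) {A : Finset ι} {i : ι} (hi : i ∈ A) {L : Subgroup G} :
    L ∈ OmA Om K ((sys Om K hK hc).blk A i) ↔
      L ∈ OmA Om K A ∧ chn (OmA Om K A) (K i) L := by
  constructor
  · intro hL
    have hLA : L ∈ OmA Om K A := OmA_mono ((sys Om K hK hc).blk_subset A i) hL
    refine ⟨hLA, ?_⟩
    obtain ⟨j, hj⟩ := hmax L hL.1
    have hjB : j ∈ (sys Om K hK hc).blk A i := by
      by_contra hn
      exact hj (hL.2 j hn)
    have h1 : frel Om K A i j := (sys Om K hK hc).mem_blk.mp hjB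
    exact h1.2.2.tail ⟨mem_OmA hK hc h1.2.1, hLA, fun h' => hj (cm_symm h')⟩
  · rintro ⟨h1, h2⟩
    refine ⟨h1.1, fun k hk => ?_⟩
    by_cases hkA : k ∈ A
    · by_contra hn
      apply hk
      rw [Sys.mem_blk]
      exact ⟨hi, hkA, h2.tail ⟨h1, mem_OmA hK hc hkA, hn⟩⟩
    · exact h1.2 k hkA

/-- `Y_B` of a block `B` of `A` is the piece of `K_i` -/
theorem YA_blk (hK : ∀ i, K i ∈ Om) (hc : ∀ i j, i ≠ j → cm (K i) (K j))
    (hmax : ∀ L ∈ Om, ∃ i, ¬ cm L (K i)) {A : Finset ι} {i : ι} (hi : i ∈ A) :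
    YA Om K ((sys Om K hK hc).blk A i) = piece (OmA Om K A) (K i) := by
  rw [YA, piece]
  congr 1
  ext L
  exact mem_OmA_blk_iff hK hc hmax hi

omit [Fintype ι] in
/-- `OmA (F - k) = {L ∈ Om | L ≤ C(K_k)}` -/
theorem OmA_erase [Fintype ι] (k : ι) :
    OmA Om K (univ.erase k) = OmIn Om (centralizer (K k : Set G)) := by
  ext L
  constructor
  · rintro ⟨h1, h2⟩
    exact ⟨h1, cm_iff_le_centralizer.mp (h2 k (notMem_erase _ _))⟩
  · rintro ⟨h1, h2⟩
    refine ⟨h1, fun j hj => ?_⟩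
    have : j = k := by
      by_contra hne
      exact hj (mem_erase.mpr ⟨hne, mem_univ _⟩)
    rw [this]
    exact cm_iff_le_centralizer.mpr h2

end Cfsg.Agent.Cit.TypeDet
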