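import Cfsg.Agent.Cit.TPieces
import Cfsg.Agent.Cit.TypeDet.Piece

/-!
# Local input of the type determination

`Loc Om` : for every involution `s` the members of `Om` in `C(s)` have pieces (theorem T for `C(s)`, exact).
* `piece_of` : the chain classes of `OmIn Om H` generate pieces;
* `lem` : `[X, z_K] = 1` implies `X = K` or `[X, K] = 1`;
* `piece_centralizer` : the chain classes of `Om ∩ C(K)` generate pieces.
-/

set_option autoImplicit false
set_option linter.unusedSectionVars false

namespace Cfsg.Agent.Cit.TypeDet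

open Subgroup Relation Cfsg

variable {G : Type*} [Group G] {Om : Set (Subgroup G)}

/-- theorem T for the centralisers of involutions -/
def Loc (Om : Set (Subgroup G)) : Prop :=
  ∀ s : G, orderOf s = 2 → HasPieces (restr Om (centralizer {s}))

theorem cm_map {G' : Type*} [Group G'] {f : G' →* G} (hf : Function.Injective f) {K L : Subgroup G'} :
    cm (K.map f) (L.map f) ↔ cm K L := by
  rw [cm_iff_le_centralizer, cm_iff_le_centralizer, map_le_centralizer_map hf]

theorem cm_subgroupOf {H K L : Subgroup G} (hK : K ≤ H) (hL : L ≤ H) :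
    cm (K.subgroupOf H) (L.subgroupOf H) ↔ cm K L := by
  rw [← cm_map H.subtype_injective, map_subgroupOf_eq_of_le hK, map_subgroupOf_eq_of_le hL]

section

variable {H : Subgroup G}

theorem chn_map_subtype {K L : Subgroup H} (h : chn (restr Om H) K L) :
    chn (OmIn Om H) (K.map H.subtype) (L.map H.subtype) := by
  induction h with
  | refl => exact ReflTransGen.refl
  | tail _ h2 ih =>
    exact ih.tail ⟨⟨h2.1, map_subtype_le _⟩, ⟨h2.2.1, map_subtype_le _⟩,
      fun h' => h2.2.2 ((cm_map H.subtype_injective).mp h')⟩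

theorem chn_subgroupOf {K L : Subgroup G} (h : chn (OmIn Om H) K L) :
    chn (restr Om H) (K.subgroupOf H) (L.subgroupOf H) := by
  induction h with
  | refl => exact ReflTransGen.refl
  | tail _ h2 ih =>
    exact ih.tail ⟨subgroupOf_mem_restr h2.1.1 h2.1.2, subgroupOf_mem_restr h2.2.1.1 h2.2.1.2,
      fun h' => h2.2.2 ((cm_subgroupOf h2.1.2 h2.2.1.2).mp h')⟩

theorem piece_eq_map {X : Subgroup G} (hX : X ∈ OmIn Om H) :
    piece (OmIn Om H) X = (pc (restr Om H) (X.subgroupOf H)).map H.subtype := by
  apply le_antisymm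
  · refine sSup_le fun M hM => ?_
    rw [← map_subgroupOf_eq_of_le hM.1.2]
    exact Subgroup.map_mono (le_pc_of_chn (chn_subgroupOf hM.2))
  · rw [pc, (Subgroup.gc_map_comap H.subtype).l_sSup]
    refine iSup₂_le fun J hJ => ?_
    have h1 := chn_map_subtype hJ
    rw [map_subgroupOf_eq_of_le hX.2] at h1
    have h2 : J ∈ restr Om H := chn_mem (subgroupOf_mem_restr hX.1 hX.2) hJ
    exact le_piece ⟨h2, map_subtype_le _⟩ h1

variable [Finite G]

theorem piece_of (hyp : Hyp Om) (h : HasPieces (restr Om H)) {X : Subgroup G} (hX : X ∈ OmIn Om H) :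
    Cit.Piece Om (piece (OmIn Om H) X) := by
  rw [piece_eq_map hX]
  exact (h.piece (hyp.restr H) (subgroupOf_mem_restr hX.1 hX.2)).map' (hyp.restr H) H.subtype
    H.subtype_injective fun K _ => Iff.rfl

end

variable [Finite G]

theorem not_cm_self (hyp : Hyp Om) {K : Subgroup G} (hK : K ∈ Om) : ¬ cm K K := by
  rw [cm_iff_le_centralizer]
  exact hyp.not_le_centralizer_self hK

/-- `{K}` is a chain class of `Om ∩ C(z_K)`. -/
theorem single_of_loc (hyp : Hyp Om) (h : Loc Om) {K : Subgroup G} (hK : K ∈ Om) {X : Subgroup G}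
    (hX : chn (OmIn Om (centralizer {zz K})) K X) : X = K := by
  set H := centralizer {zz K} with hH
  have hKH : K ≤ H := hyp.le_centralizer hK
  have hP := h (zz K) (hyp.orderOf_zz hK)
  have hK' := subgroupOf_mem_restr hK hKH
  have h1 := chn_subgroupOf hX
  have hXU : X ∈ Om ∧ X ≤ H := by
    rcases ReflTransGen.cases_tail hX with h2 | ⟨Z, -, h2⟩
    · rw [h2]; exact ⟨hK, hKH⟩
    · exact h2.2.1
  have hle : X.subgroupOf H ≤ pc (restr Om H) (K.subgroupOf H) := le_pc_of_chn h1
  rcases hP.eq_or_quasisimple (hyp.restr H) hK' with h2 | ⟨h2, h3, -⟩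
  · rw [h2] at hle
    have h4 := (hyp.restr H).eq_of_le (subgroupOf_mem_restr hXU.1 hXU.2) hK' hle
    rw [← map_subgroupOf_eq_of_le hXU.2, h4, map_subgroupOf_eq_of_le hKH]
  · exfalso
    -- `K` is subnormal in the quasisimple group `D`
    have h4 : (K.subgroupOf H).IsSubnormal := hyp.sub K hK
    have h5 : K.subgroupOf H ≤ pc (restr Om H) (K.subgroupOf H) := le_pc
    rcases Lib.ComponentSolvable.quasisimple_subnormal_cases h3
      (h4.subgroupOf (K := pc (restr Om H) (K.subgroupOf H))) with h6 | h6
    rotate_left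
    · apply (hyp.restr H).not_le_centralizer_self hK'
      intro x hx y hy
      have h7 := h6 (show (⟨x, h5 hx⟩ : ↥(pc (restr Om H) (K.subgroupOf H))) ∈ _ from hx)
      have h8 := mem_center_iff.mp h7 ⟨y, h5 hy⟩
      exact congrArg Subtype.val h8
    · apply h2
      have h7 : pc (restr Om H) (K.subgroupOf H) = K.subgroupOf H := by
        apply le_antisymm _ h5
        rw [← subgroupOf_eq_top]
        exact h6
      rw [h7]
      exact hK'

/-- **`[X, z_K] = 1` implies `X = K` or `[X, K] = 1`** -/
theorem lem (hyp : Hyp Om) (h : Loc Om) {X K : Subgroup G} (hX : X ∈ Om) (hK : K ∈ Om)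
    (hc : ∀ x ∈ X, x * zz K = zz K * x) : X = K ∨ cm X K := by
  by_contra hcon
  push Not at hcon
  apply hcon.1
  refine single_of_loc hyp h hK (ReflTransGen.single ⟨⟨hK, hyp.le_centralizer hK⟩, ⟨hX, ?_⟩,
    fun h' => hcon.2 (cm_symm h')⟩)
  intro x hx
  exact mem_centralizer_singleton_iff.mpr (hc x hx)

/-- chains in `Om ∩ C(K)` -/
theorem chn_centralizer_iff (hyp : Hyp Om) (h : Loc Om) {K : Subgroup G} (hK : K ∈ Om) {X Y : Subgroup G}
    (hX : X ∈ OmIn Om (centralizer (K : Set G))) :
    chn (OmIn Om (centralizer (K : Set G))) X Y ↔ chn (OmIn Om (centralizer {zz K})) X Y := by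
  have hle : centralizer (K : Set G) ≤ centralizer {zz K} := by
    refine centralizer_le ?_
    rw [Set.singleton_subset_iff]
    exact hyp.zz_mem hK
  constructor
  · intro hc
    refine chn_mono ?_ hc
    exact fun L hL => ⟨hL.1, hL.2.trans hle⟩
  · intro hc
    induction hc with
    | refl => exact ReflTransGen.refl
    | @tail Y Z h1 h2 ih =>
      have key : ∀ W, chn (OmIn Om (centralizer {zz K})) X W → W ∈ OmIn Om (centralizer {zz K}) →
          W ∈ OmIn Om (centralizer (K : Set G)) := by
        intro W hW hWU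
        rcases lem hyp h hWU.1 hK (fun x hx => mem_centralizer_singleton_iff.mp (hWU.2 hx)) with e | e
        · exfalso
          rw [e] at hW
          have h3 := single_of_loc hyp h hK (chn_symm hW)
          rw [h3] at hX
          exact not_cm_self hyp hK (cm_iff_le_centralizer.mpr hX.2)
        · exact ⟨hWU.1, cm_iff_le_centralizer.mp e⟩
      exact ih.tail ⟨key Y h1 h2.1, key Z (h1.tail h2) h2.2.1, h2.2.2⟩

/-- **the chain classes of `Om ∩ C(K)` generate pieces** -/
theorem piece_centralizer (hyp : Hyp Om) (h : Loc Om) {K : Subgroup G} (hK : K ∈ Om) {X : Subgroup G}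
    (hX : X ∈ OmIn Om (centralizer (K : Set G))) :
    Cit.Piece Om (piece (OmIn Om (centralizer (K : Set G))) X) := by
  have hle : centralizer (K : Set G) ≤ centralizer {zz K} := by
    refine centralizer_le ?_
    rw [Set.singleton_subset_iff]
    exact hyp.zz_mem hK
  have e : piece (OmIn Om (centralizer (K : Set G))) X = piece (OmIn Om (centralizer {zz K})) X := by
    unfold piece
    congr 1
    ext M
    constructor
    · rintro ⟨h1, h2⟩
      exact ⟨⟨h1.1, h1.2.trans hle⟩, (chn_centralizer_iff hyp h hK hX).mp h2⟩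
    · rintro ⟨h1, h2⟩
      have h3 := (chn_centralizer_iff hyp h hK hX).mpr h2
      refine ⟨?_, h3⟩
      rcases ReflTransGen.cases_tail h3 with h4 | ⟨Z, -, h4⟩
      · rw [h4]; exact hX
      · exact h4.2.1
  rw [e]
  exact piece_of hyp (h (zz K) (hyp.orderOf_zz hK)) ⟨hX.1, hX.2.trans hle⟩

end Cfsg.Agent.Cit.TypeDet
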