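import Cfsg.Agent.Cit.TPieces
import Cfsg.Agent.Cit.PairComm
import Cfsg.Agent.Cit.TypeDet.Piece
import Cfsg.Agent.Cit.TypeDet.Local
import Cfsg.Agent.Cit.TypeDet.FramesOf

/-!
# The combinatorial local input of the type determination

`Lem Om` : `[X, z_K] = 1` implies `X = K` or `[X, K] = 1`, for `X, K ∈ Om`.  Consequences without any further local
information:

* `Lem.single` : `{K}` is a chain class of `Om ∩ C(z_K)`;
* `Lem.chn_centralizer_iff`, `Lem.piece_centralizer_eq` : the chain classes of `Om ∩ C(K)` are chain classes of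
  `Om ∩ C(z_K)`;
* `Lem.comm_OmS` : the members of `Om(S)` commute (if the members have trivial odd cores);
* `Lem.frames` : `Red.Frames Om (sylFrames Om)`.
-/

set_option autoImplicit false
set_option linter.unusedSectionVars false

namespace Cfsg.Agent.Cit.TypeDet

open Subgroup Relation Cfsg

variable {G : Type*} [Group G] {Om : Set (Subgroup G)}

/-- `[X, z_K] = 1` implies `X = K` or `[X, K] = 1` -/
def Lem (Om : Set (Subgroup G)) : Prop :=
  ∀ X ∈ Om, ∀ K ∈ Om, (∀ x ∈ X, x * zz K = zz K * x) → X = K ∨ cm X K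

theorem Lem.or {K X : Subgroup G} (h : Lem Om) (hK : K ∈ Om) (hX : X ∈ OmIn Om (centralizer {zz K})) :
    X = K ∨ cm X K := h X hX.1 K hK fun _ hx => mem_centralizer_singleton_iff.mp (hX.2 hx)

/-- `{K}` is a chain class of `Om ∩ C(z_K)` -/
theorem Lem.single {K X : Subgroup G} (h : Lem Om) (hK : K ∈ Om)
    (hX : chn (OmIn Om (centralizer {zz K})) K X) : X = K := by
  induction hX with
  | refl => rfl
  | @tail Y Z _ h2 ih =>
    subst ih
    rcases h.or hK h2.2.1 with e | e
    · exact e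
    · exact absurd (cm_symm e) h2.2.2

variable [Finite G]

theorem centralizer_le_centralizer_zz (hyp : Hyp Om) {K : Subgroup G} (hK : K ∈ Om) :
    centralizer (K : Set G) ≤ centralizer {zz K} := by
  refine centralizer_le ?_
  rw [Set.singleton_subset_iff]
  exact hyp.zz_mem hK

/-- members of `Om ∩ C(z_K)` other than `K` are in `C(K)` -/
theorem Lem.mem_OmIn {K X : Subgroup G} (h : Lem Om) (hK : K ∈ Om)
    (hX : X ∈ OmIn Om (centralizer {zz K})) (hne : X ≠ K) : X ∈ OmIn Om (centralizer (K : Set G)) :=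
  ⟨hX.1, cm_iff_le_centralizer.mp ((h.or hK hX).resolve_left hne)⟩

theorem OmIn_centralizer_subset (hyp : Hyp Om) {K : Subgroup G} (hK : K ∈ Om) :
    OmIn Om (centralizer (K : Set G)) ⊆ OmIn Om (centralizer {zz K}) :=
  fun _ hL => ⟨hL.1, hL.2.trans (centralizer_le_centralizer_zz hyp hK)⟩

/-- chains in `Om ∩ C(K)` -/
theorem Lem.chn_centralizer_iff (h : Lem Om) (hyp : Hyp Om) {K : Subgroup G} (hK : K ∈ Om) {X Y : Subgroup G}
    (hX : X ∈ OmIn Om (centralizer (K : Set G))) :
    chn (OmIn Om (centralizer (K : Set G))) X Y ↔ chn (OmIn Om (centralizer {zz K})) X Y := by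
  constructor
  · exact chn_mono (OmIn_centralizer_subset hyp hK)
  · intro hc
    induction hc with
    | refl => exact ReflTransGen.refl
    | @tail Y Z h1 h2 ih =>
      have key : ∀ W, chn (OmIn Om (centralizer {zz K})) X W → W ∈ OmIn Om (centralizer {zz K}) →
          W ∈ OmIn Om (centralizer (K : Set G)) := by
        intro W hW hWU
        refine h.mem_OmIn hK hWU ?_
        rintro rfl
        have h3 := h.single hK (chn_symm hW)
        rw [h3] at hX
        exact not_cm_self hyp hK (cm_iff_le_centralizer.mpr hX.2)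
      exact ih.tail ⟨key Y h1 h2.1, key Z (h1.tail h2) h2.2.1, h2.2.2⟩

/-- elements of chains are in the set -/
theorem mem_of_chn {T : Set (Subgroup G)} {X Y : Subgroup G} (hX : X ∈ T) (h : chn T X Y) : Y ∈ T := by
  rcases ReflTransGen.cases_tail h with h4 | ⟨Z, -, h4⟩
  · rw [h4]; exact hX
  · exact h4.2.1

theorem Lem.mem_iff (h : Lem Om) (hyp : Hyp Om) {K : Subgroup G} (hK : K ∈ Om) {X M : Subgroup G}
    (hX : X ∈ OmIn Om (centralizer (K : Set G))) :
    (M ∈ OmIn Om (centralizer (K : Set G)) ∧ chn (OmIn Om (centralizer (K : Set G))) X M) ↔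
      (M ∈ OmIn Om (centralizer {zz K}) ∧ chn (OmIn Om (centralizer {zz K})) X M) := by
  constructor
  · rintro ⟨h1, h2⟩
    exact ⟨OmIn_centralizer_subset hyp hK h1, (h.chn_centralizer_iff hyp hK hX).mp h2⟩
  · rintro ⟨-, h2⟩
    have h3 := (h.chn_centralizer_iff hyp hK hX).mpr h2
    exact ⟨mem_of_chn hX h3, h3⟩

/-- the pieces of `Om ∩ C(K)` are pieces of `Om ∩ C(zz K)` -/
theorem Lem.piece_centralizer_eq (h : Lem Om) (hyp : Hyp Om) {K : Subgroup G} (hK : K ∈ Om) {X : Subgroup G}
    (hX : X ∈ OmIn Om (centralizer (K : Set G))) :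
    piece (OmIn Om (centralizer (K : Set G))) X = piece (OmIn Om (centralizer {zz K})) X := by
  unfold piece
  congr 1
  ext M
  exact h.mem_iff hyp hK hX

/-- the members of `Om(S)` commute -/
theorem Lem.comm_OmS (h : Lem Om) (hyp : Hyp Om) (hc : ∀ K ∈ Om, OO K = ⊥) {S : Subgroup G} (hS : IsPGroup 2 S)
    {K L : Subgroup G} (hK : K ∈ OmS Om S) (hL : L ∈ OmS Om S) (hne : K ≠ L) : cm K L := by
  have h1 := PairComm.commutator_zz_le hyp hS hK hL hne
  rw [hc K hK.1, le_bot_iff, commutator_eq_bot_iff_le_centralizer] at h1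
  have h2 : ∀ x ∈ K, x * zz L = zz L * x := fun x hx =>
    ((mem_centralizer_iff.mp (h1 hx)) _ (mem_zpowers _)).symm
  rcases h K hK.1 L hL.1 h2 with e | e
  · exact absurd e hne
  · exact e

theorem Lem.frames (h : Lem Om) (hyp : Hyp Om) (hone : ∀ K ∈ Om, ∀ L ∈ Om, ∃ g, Cit.cj g K = L)
    (hc : ∀ K ∈ Om, OO K = ⊥) : Red.Frames Om (sylFrames Om) :=
  frames_of hyp hone (fun S _ hK _ hL hne => h.comm_OmS hyp hc S.isPGroup' hK hL hne)
    (fun _ hK => not_cm_self hyp hK)

/-- from exact local pieces -/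
theorem Loc.toLem (hyp : Hyp Om) (h : Loc Om) : Lem Om := fun _ hX _ hK hc => lem hyp h hX hK hc

end Cfsg.Agent.Cit.TypeDet
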