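import Cfsg.Agent.Cit.TPieces
import Cfsg.Agent.Cit.TypeDet.FramesOf
import Cfsg.Agent.S0387
import Cfsg.Agent.SporadicStructure.M11InvPerms

/-!
# No three commuting members of `Om` in a piece of type `M₁₁`
-/

set_option autoImplicit false
set_option linter.unusedSectionVars false

namespace Cfsg.Agent.Cit.TypeDet

open Subgroup Cfsg

open Cfsg.Agent.SporadicStructure.M11InvPerms in
theorem squareDodecad_mem' : Spor.squareDodecad ∈ dodecads := by
  have h : Spor.squareDodecad = dd := by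
    unfold Spor.squareDodecad dd
    rw [qrWord_eq]
  rw [h]
  exact dd_mem

open Cfsg.Agent.SporadicStructure.M11InvPerms in
theorem zero_mem_squareDodecad' : (some 0 : GolayPt) ∈ Spor.squareDodecad := by
  have h : Spor.squareDodecad = dd := by
    unfold Spor.squareDodecad dd
    rw [qrWord_eq]
  rw [h]
  decide +kernel

/-- The order of `Spor.M11`. -/
theorem card_M11' : Nat.card Spor.M11 = 7920 := by
  rw [← Cfsg.Agent.S0387.result _ squareDodecad_mem' _ zero_mem_squareDodecad']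
  apply Nat.card_congr
  refine
    { toFun := fun g => ⟨⟨g.1, (Subgroup.mem_inf.1 (Subgroup.mem_inf.1 g.2).1).1⟩, Subgroup.mem_inf.2
        ⟨(Subgroup.mem_inf.1 (Subgroup.mem_inf.1 g.2).1).2, (Subgroup.mem_inf.1 g.2).2⟩⟩
      invFun := fun x => ⟨((x : Cfsg.M24) : Equiv.Perm GolayPt),
        Subgroup.mem_inf.2 ⟨Subgroup.mem_inf.2 ⟨x.1.2, (Subgroup.mem_inf.1 x.2).1⟩, (Subgroup.mem_inf.1 x.2).2⟩⟩
      left_inv := fun _ => rfl
      right_inv := fun _ => rfl }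

variable {G : Type*} [Group G]

/-- four elements, distinct modulo the centraliser of `{c, v}` -/
def four (c v : G) (b : Bool × Bool) : G := (if b.1 then c else 1) * (if b.2 then v else 1)

theorem four_mem {Q : Subgroup G} {c v : G} (hc : c ∈ Q) (hv : v ∈ Q) (b : Bool × Bool) : four c v b ∈ Q := by
  unfold four
  refine mul_mem ?_ ?_
  · split_ifs
    · exact hc
    · exact one_mem _
  · split_ifs
    · exact hv
    · exact one_mem _

theorem four_inj {c v : G} (h : c * v ≠ v * c) {a b : Bool × Bool}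
    (h1 : (four c v a)⁻¹ * four c v b * c = c * ((four c v a)⁻¹ * four c v b))
    (h2 : (four c v a)⁻¹ * four c v b * v = v * ((four c v a)⁻¹ * four c v b)) : a = b := by
  obtain ⟨a1, a2⟩ := a
  obtain ⟨b1, b2⟩ := b
  have hv1 : ∀ x : G, x * c = c * x → (x = v ∨ x = v⁻¹) → False := by
    rintro x hx (rfl | rfl)
    · exact h hx.symm
    · apply h
      have := congrArg (fun y => v * y * v) hx
      simp only [mul_assoc, inv_mul_cancel, mul_one] at this
      rw [mul_inv_cancel_left] at this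
      exact this
  have hc1 : ∀ x : G, x * v = v * x → (x = c ∨ x = c⁻¹) → False := by
    rintro x hx (rfl | rfl)
    · exact h hx
    · apply h
      have := congrArg (fun y => c * y * c) hx
      simp only [mul_assoc, inv_mul_cancel, mul_one] at this
      rw [mul_inv_cancel_left] at this
      exact this.symm
  have e1 : a1 = b1 := by
    by_contra hne
    cases a1 <;> cases b1
    · exact hne rfl
    · -- `a1 = false`, `b1 = true`
      cases a2 <;> cases b2 <;>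
        simp only [four, Bool.false_eq_true, if_true, if_false, one_mul, mul_one, inv_one] at h1 h2
      · exact hc1 _ h2 (Or.inl rfl)
      · refine hc1 c ?_ (Or.inl rfl)
        have := h2
        rw [← mul_assoc] at this
        exact mul_right_cancel this
      · refine hc1 c ?_ (Or.inl rfl)
        have h3 : v * (v⁻¹ * c * v) = v * (v * (v⁻¹ * c)) := congrArg (v * ·) h2
        simp only [mul_assoc, mul_inv_cancel_left] at h3
        exact h3
      · refine hc1 c ?_ (Or.inl rfl)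
        have h3 : v * (v⁻¹ * (c * v) * v) * v⁻¹ = v * (v * (v⁻¹ * (c * v))) * v⁻¹ :=
          congrArg (fun y => v * y * v⁻¹) h2
        simp only [mul_assoc, mul_inv_cancel_left, mul_inv_cancel, mul_one] at h3
        exact h3
    · cases a2 <;> cases b2 <;>
        simp only [four, Bool.false_eq_true, if_true, if_false, one_mul, mul_one, inv_one, mul_inv_rev] at h1 h2
      · exact hc1 _ h2 (Or.inr rfl)
      · refine hc1 c⁻¹ ?_ (Or.inr rfl)
        have := h2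
        rw [← mul_assoc] at this
        exact mul_right_cancel this
      · refine hc1 c⁻¹ ?_ (Or.inr rfl)
        have h3 : v * (v⁻¹ * c⁻¹ * v) = v * (v * (v⁻¹ * c⁻¹)) := congrArg (v * ·) h2
        simp only [mul_assoc, mul_inv_cancel_left] at h3
        exact h3
      · refine hc1 c⁻¹ ?_ (Or.inr rfl)
        have h3 : v * (v⁻¹ * c⁻¹ * v * v) * v⁻¹ = v * (v * (v⁻¹ * c⁻¹ * v)) * v⁻¹ :=
          congrArg (fun y => v * y * v⁻¹) h2
        simp only [mul_assoc, mul_inv_cancel_left, mul_inv_cancel, mul_one] at h3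
        exact h3
    · exact hne rfl
  subst e1
  have e2 : a2 = b2 := by
    by_contra hne
    cases a1 <;> cases a2 <;> cases b2 <;> first | exact hne rfl | skip
    all_goals
      simp only [four, Bool.false_eq_true, if_true, if_false, one_mul, mul_one, inv_one, mul_inv_rev,
        inv_mul_cancel, inv_mul_cancel_left] at h1
    · exact hv1 _ h1 (Or.inl rfl)
    · exact hv1 _ h1 (Or.inr rfl)
    · exact hv1 _ h1 (Or.inl rfl)
    · rw [mul_assoc v⁻¹, inv_mul_cancel, mul_one] at h1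
      exact hv1 _ h1 (Or.inr rfl)
  rw [e2]

theorem comm_of_mul {a b c : G} (h : a * b * c = c * (a * b)) (hb : b * c = c * b) : a * c = c * a := by
  have h1 : a * c * b = c * a * b := by
    calc a * c * b = a * (b * c) := by rw [mul_assoc, ← hb]
      _ = a * b * c := by group
      _ = c * (a * b) := h
      _ = c * a * b := by group
  exact mul_right_cancel h1

variable [Finite G] {Om : Set (Subgroup G)}

/-- three commuting members do not fit into a group with `|D / Z(D)| = 7920` -/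
theorem false_of_card (hyp : Hyp Om) {D : Subgroup G} (hD : Nat.card (↥D ⧸ center D) = 7920)
    {K J M : Subgroup G} (hK : K ∈ Om) (hJ : J ∈ Om) (hM : M ∈ Om) (hKD : K ≤ D) (hJD : J ≤ D)
    (hMD : M ≤ D) (h1 : cm K J) (h2 : cm K M) (h3 : cm J M) : False := by
  have : Fact (Nat.Prime 2) := ⟨Nat.prime_two⟩
  obtain ⟨Q₁, hQ₁⟩ := Hyp.exists_syl K
  obtain ⟨Q₂, hQ₂⟩ := Hyp.exists_syl J
  obtain ⟨Q₃, hQ₃⟩ := Hyp.exists_syl M
  obtain ⟨c₁, v₁, n₁, q₁⟩ := hyp.exists_gq hK hQ₁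
  obtain ⟨c₂, v₂, n₂, q₂⟩ := hyp.exists_gq hJ hQ₂
  obtain ⟨c₃, v₃, n₃, q₃⟩ := hyp.exists_gq hM hQ₃
  have cm12 : ∀ x ∈ Q₁, ∀ y ∈ Q₂, x * y = y * x := fun x hx y hy => h1 x (hQ₁.1 hx) y (hQ₂.1 hy)
  have cm13 : ∀ x ∈ Q₁, ∀ y ∈ Q₃, x * y = y * x := fun x hx y hy => h2 x (hQ₁.1 hx) y (hQ₃.1 hy)
  have cm23 : ∀ x ∈ Q₂, ∀ y ∈ Q₃, x * y = y * x := fun x hx y hy => h3 x (hQ₂.1 hx) y (hQ₃.1 hy)
  -- the 2-group
  have hP12 : IsPGroup 2 ↥(Q₂ ⊔ Q₁) := by
    refine IsPGroup.to_sup_of_normal_right' hQ₂.2.1 hQ₁.2.1 ?_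
    exact (cm_iff_le_centralizer.mp (cm_symm cm12)).trans (centralizer_le_normalizer _)
  have hP : IsPGroup 2 ↥(Q₃ ⊔ (Q₂ ⊔ Q₁)) := by
    refine IsPGroup.to_sup_of_normal_right' hQ₃.2.1 hP12 ?_
    refine (cm_iff_le_centralizer.mp ?_).trans (centralizer_le_normalizer _)
    apply cm_symm
    rw [cm_iff_le_centralizer]
    exact sup_le (cm_iff_le_centralizer.mp cm23) (cm_iff_le_centralizer.mp cm13)
  set P := Q₃ ⊔ (Q₂ ⊔ Q₁) with hPdef
  have hPD : P ≤ D := sup_le (hQ₃.1.trans hMD) (sup_le (hQ₂.1.trans hJD) (hQ₁.1.trans hKD))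
  set E := ↥D ⧸ center D
  let π : ↥D →* E := QuotientGroup.mk' (center D)
  let PP : Subgroup E := (P.subgroupOf D).map π
  have hPP : IsPGroup 2 PP := (hP.comap_of_injective D.subtype D.subtype_injective).map π
  obtain ⟨n, hn⟩ := IsPGroup.iff_card.mp hPP
  have hdvd : 2 ^ n ∣ 7920 := by
    rw [← hn, ← hD]
    exact card_subgroup_dvd_card PP
  have hn4 : n ≤ 4 := by
    by_contra hcon
    have h5 : 2 ^ 5 ∣ 7920 := (pow_dvd_pow 2 (by omega : 5 ≤ n)).trans hdvd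
    omega
  -- the 64 elements
  let X := (Bool × Bool) × (Bool × Bool) × (Bool × Bool)
  have m1 : ∀ a, four c₁ v₁ a ∈ Q₁ := four_mem q₁.c_mem q₁.v_mem
  have m2 : ∀ a, four c₂ v₂ a ∈ Q₂ := four_mem q₂.c_mem q₂.v_mem
  have m3 : ∀ a, four c₃ v₃ a ∈ Q₃ := four_mem q₃.c_mem q₃.v_mem
  have mP : ∀ x : X, four c₁ v₁ x.1 * four c₂ v₂ x.2.1 * four c₃ v₃ x.2.2 ∈ P := fun x =>
    mul_mem (mul_mem ((le_sup_right.trans le_sup_right : Q₁ ≤ P) (m1 _))
      ((le_sup_left.trans le_sup_right : Q₂ ≤ P) (m2 _))) ((le_sup_left : Q₃ ≤ P) (m3 _))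
  let f : X → PP := fun x => ⟨π ⟨_, hPD (mP x)⟩, ⟨⟨_, hPD (mP x)⟩, mP x, rfl⟩⟩
  have hf : Function.Injective f := by
    rintro ⟨a, b, d⟩ ⟨a', b', d'⟩ hxy
    have e1 : π ⟨_, hPD (mP (a, b, d))⟩ = π ⟨_, hPD (mP (a', b', d'))⟩ := congrArg Subtype.val hxy
    have e2 := (QuotientGroup.eq (s := center D)).mp e1
    set A := four c₁ v₁ a
    set A' := four c₁ v₁ a'
    set B := four c₂ v₂ b
    set B' := four c₂ v₂ b'
    set C := four c₃ v₃ d
    set C' := four c₃ v₃ d'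
    have e3 : ∀ y ∈ D, (A * B * C)⁻¹ * (A' * B' * C') * y = y * ((A * B * C)⁻¹ * (A' * B' * C')) := by
      intro y hy
      exact (congrArg Subtype.val (mem_center_iff.mp e2 ⟨y, hy⟩)).symm
    have hA : A ∈ Q₁ := m1 _
    have hA' : A' ∈ Q₁ := m1 _
    have hB : B ∈ Q₂ := m2 _
    have hB' : B' ∈ Q₂ := m2 _
    have hC : C ∈ Q₃ := m3 _
    have hC' : C' ∈ Q₃ := m3 _
    have hBB : B⁻¹ * B' ∈ Q₂ := mul_mem (inv_mem hB) hB'
    have hCC : C⁻¹ * C' ∈ Q₃ := mul_mem (inv_mem hC) hC'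
    have hAA : A⁻¹ * A' ∈ Q₁ := mul_mem (inv_mem hA) hA'
    have e4 : (A * B * C)⁻¹ * (A' * B' * C') = (A⁻¹ * A') * ((B⁻¹ * B') * (C⁻¹ * C')) := by
      have s1 : C⁻¹ * (B⁻¹ * (A⁻¹ * A')) = (A⁻¹ * A') * (C⁻¹ * B⁻¹) := by
        calc C⁻¹ * (B⁻¹ * (A⁻¹ * A')) = C⁻¹ * ((A⁻¹ * A') * B⁻¹) := by
              rw [cm12 _ hAA _ (inv_mem hB)]
          _ = (C⁻¹ * (A⁻¹ * A')) * B⁻¹ := by group
          _ = ((A⁻¹ * A') * C⁻¹) * B⁻¹ := by rw [cm13 _ hAA _ (inv_mem hC)]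
          _ = _ := by group
      have s2 : C⁻¹ * B⁻¹ = B⁻¹ * C⁻¹ := (cm23 _ (inv_mem hB) _ (inv_mem hC)).symm
      have s3 : C⁻¹ * B' = B' * C⁻¹ := (cm23 _ hB' _ (inv_mem hC)).symm
      calc (A * B * C)⁻¹ * (A' * B' * C') = (C⁻¹ * (B⁻¹ * (A⁻¹ * A'))) * (B' * C') := by group
        _ = (A⁻¹ * A') * (C⁻¹ * B⁻¹) * (B' * C') := by rw [s1]
        _ = (A⁻¹ * A') * (B⁻¹ * C⁻¹) * (B' * C') := by rw [s2]
        _ = (A⁻¹ * A') * (B⁻¹ * (C⁻¹ * B') * C') := by group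
        _ = (A⁻¹ * A') * (B⁻¹ * (B' * C⁻¹) * C') := by rw [s3]
        _ = _ := by group
    -- commuting with the three groups
    have r1 : ∀ y ∈ Q₁, (A⁻¹ * A') * y = y * (A⁻¹ * A') := by
      intro y hy
      have h4 := e3 y (hKD (hQ₁.1 hy))
      rw [e4] at h4
      refine comm_of_mul h4 ?_
      calc (B⁻¹ * B') * (C⁻¹ * C') * y = (B⁻¹ * B') * ((C⁻¹ * C') * y) := by group
        _ = (B⁻¹ * B') * (y * (C⁻¹ * C')) := by rw [cm13 y hy _ hCC]
        _ = ((B⁻¹ * B') * y) * (C⁻¹ * C') := by group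
        _ = (y * (B⁻¹ * B')) * (C⁻¹ * C') := by rw [cm12 y hy _ hBB]
        _ = _ := by group
    have r2 : ∀ y ∈ Q₂, (B⁻¹ * B') * y = y * (B⁻¹ * B') := by
      intro y hy
      have h4 := e3 y (hJD (hQ₂.1 hy))
      have e5 : (A * B * C)⁻¹ * (A' * B' * C') = (B⁻¹ * B') * ((A⁻¹ * A') * (C⁻¹ * C')) := by
        rw [e4]
        calc (A⁻¹ * A') * ((B⁻¹ * B') * (C⁻¹ * C')) = ((A⁻¹ * A') * (B⁻¹ * B')) * (C⁻¹ * C') := by group
          _ = ((B⁻¹ * B') * (A⁻¹ * A')) * (C⁻¹ * C') := by rw [cm12 _ hAA _ hBB]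
          _ = _ := by group
      rw [e5] at h4
      refine comm_of_mul h4 ?_
      calc (A⁻¹ * A') * (C⁻¹ * C') * y = (A⁻¹ * A') * ((C⁻¹ * C') * y) := by group
        _ = (A⁻¹ * A') * (y * (C⁻¹ * C')) := by rw [cm23 y hy _ hCC]
        _ = ((A⁻¹ * A') * y) * (C⁻¹ * C') := by group
        _ = (y * (A⁻¹ * A')) * (C⁻¹ * C') := by rw [cm12 _ hAA y hy]
        _ = _ := by group
    have r3 : ∀ y ∈ Q₃, (C⁻¹ * C') * y = y * (C⁻¹ * C') := by
      intro y hy
      have h4 := e3 y (hMD (hQ₃.1 hy))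
      have e5 : (A * B * C)⁻¹ * (A' * B' * C') = (C⁻¹ * C') * ((A⁻¹ * A') * (B⁻¹ * B')) := by
        rw [e4]
        calc (A⁻¹ * A') * ((B⁻¹ * B') * (C⁻¹ * C')) = (A⁻¹ * A') * ((C⁻¹ * C') * (B⁻¹ * B')) := by
              rw [cm23 _ hBB _ hCC]
          _ = ((A⁻¹ * A') * (C⁻¹ * C')) * (B⁻¹ * B') := by group
          _ = ((C⁻¹ * C') * (A⁻¹ * A')) * (B⁻¹ * B') := by rw [cm13 _ hAA _ hCC]
          _ = _ := by group
      rw [e5] at h4
      refine comm_of_mul h4 ?_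
      calc (A⁻¹ * A') * (B⁻¹ * B') * y = (A⁻¹ * A') * ((B⁻¹ * B') * y) := by group
        _ = (A⁻¹ * A') * (y * (B⁻¹ * B')) := by rw [cm23 _ hBB y hy]
        _ = ((A⁻¹ * A') * y) * (B⁻¹ * B') := by group
        _ = (y * (A⁻¹ * A')) * (B⁻¹ * B') := by rw [cm13 _ hAA y hy]
        _ = _ := by group
    have t1 : a = a' := four_inj (fun h => q₁.not_comm h.symm) (r1 _ q₁.c_mem) (r1 _ q₁.v_mem)
    have t2 : b = b' := four_inj (fun h => q₂.not_comm h.symm) (r2 _ q₂.c_mem) (r2 _ q₂.v_mem)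
    have t3 : d = d' := four_inj (fun h => q₃.not_comm h.symm) (r3 _ q₃.c_mem) (r3 _ q₃.v_mem)
    rw [t1, t2, t3]
  have h64 : 64 ≤ Nat.card PP := by
    have h4 := Nat.card_le_card_of_injective f hf
    have h5 : Nat.card X = 64 := by
      rw [Nat.card_eq_fintype_card]
      decide
    omega
  rw [hn] at h64
  have h16 : 2 ^ n ≤ 2 ^ 4 := Nat.pow_le_pow_right (by norm_num) hn4
  omega

/-- at most two members of `Om` in a piece of type `M₁₁` commute -/
theorem false_of_mathieu (hyp : Hyp Om) {D : Subgroup G} (hD : Spor.IsoM11 (↥D ⧸ center D))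
    {K J M : Subgroup G} (hK : K ∈ Om) (hJ : J ∈ Om) (hM : M ∈ Om) (hKD : K ≤ D) (hJD : J ≤ D)
    (hMD : M ≤ D) (h1 : cm K J) (h2 : cm K M) (h3 : cm J M) : False := by
  obtain ⟨e⟩ := hD
  refine false_of_card hyp ?_ hK hJ hM hKD hJD hMD h1 h2 h3
  rw [Nat.card_congr e.toEquiv]
  exact card_M11'

end Cfsg.Agent.Cit.TypeDet
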