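import Cfsg.Agent.Cit.TypeDet.Local
import Cfsg.Agent.Cit.TypeDet.Mathieu
import Cfsg.Agent.Cit.TypeDet.Typed
import Cfsg.Agent.Cit.PairComm

/-!
# The frame `Om(S)` of a group with local pieces

* `TyPc Om τ D` : `D` is a (T1)-piece of type `τ`; `Piece.cases'`;
* `cores`, `comm_of_loc` : `O(K) = 1`, the members of `Om(S)` commute;
* `frames` : `Red.Frames Om (sylFrames Om)`;
* `KindFact`, `GenFact` : the facts on charts;
* `typed_blk` : the blocks of `F - k` are of size at most 2 or typed.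
-/

set_option autoImplicit false
set_option linter.unusedSectionVars false

namespace Cfsg.Agent.Cit.TypeDet

open Subgroup Relation Cfsg Cfsg.Agent.Nodes.Chart

universe u

section General

variable {G : Type u} [Group G] {Om : Set (Subgroup G)}

/-- a (T1)-piece of type `τ` -/
def TyPc (Om : Set (Subgroup G)) (τ : Nodes.Chart.Ty) (D : Subgroup G) : Prop :=
  D ∉ Om ∧ IsQuasisimple D ∧ IsPGroup 2 (center D) ∧ KindOk τ ∧ ∃ (p : ℕ) (c : Chart Om p D),
    c.IsTy τ ∧ (Fintype.card c.I ≤ 2 → IsLieTypeChar p (↥D ⧸ center D)) ∧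
    (∃ (F : Type) (_ : Field F) (_ : Fintype F), CharP F p ∧
      ∀ r ∈ c.R, Nonempty (Matrix.SpecialLinearGroup (Fin 2) F ≃* ↥(c.Z r ⊔ c.Z (-r)))) ∧
    ((∀ r ∈ c.R, c.Z r = c.X r) ∨ ∃ n, τ = .C n)

theorem TyPc.piece {τ : Nodes.Chart.Ty} {D : Subgroup G} (h : TyPc Om τ D) : Cit.Piece Om D := by
  obtain ⟨h1, h2, h3, h4, p, c, h5, h6, h7, h8⟩ := h
  exact Piece.chart h1 h2 h3 p c τ h5 h4 h6 h7 h8

theorem TyPc.kindOk {τ : Nodes.Chart.Ty} {D : Subgroup G} (h : TyPc Om τ D) : KindOk τ := h.2.2.2.1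

variable [Finite G]

theorem TyPc.cj (hyp : Hyp Om) {τ : Nodes.Chart.Ty} {D : Subgroup G} (h : TyPc Om τ D) (g : G) :
    TyPc Om τ (cj g D) := by
  obtain ⟨nmem, qs, two, ok, p, c, kind, small, sl, zx⟩ := h
  have hf := (MulAut.conj g).injective
  have h1 : ∀ K ≤ D, K ∈ Om ↔ K.map (MulAut.conj g).toMonoidHom ∈ Om := by
    intro K _
    refine ⟨fun hK => hyp.conj K hK g, fun hK => ?_⟩
    have := hyp.conj _ hK g⁻¹
    rwa [← cj_def, cj_inv_cj] at this
  let e : ↥D ≃* ↥(Cit.cj g D) := D.equivMapOfInjective (MulAut.conj g).toMonoidHom hf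
  refine ⟨fun h => nmem ((h1 D le_rfl).2 h), SignalizersComponents.LayerBasic.quasisimple_congr e qs,
    isPGroup_center_congr e two, ok, p, Chart.map' c _ hf h1, kind,
    fun hI => OddHalf.Known.isLieTypeChar_congr (centerQuotEquiv e) (small hI), ?_, ?_⟩
  · obtain ⟨F, i1, i2, i3, h2⟩ := sl
    refine ⟨F, i1, i2, i3, fun r hr => ?_⟩
    obtain ⟨g'⟩ := h2 r hr
    exact ⟨g'.trans (((c.Z r ⊔ c.Z (-r)).equivMapOfInjective (MulAut.conj g).toMonoidHom hf).trans
      (MulEquiv.subgroupCongr (Subgroup.map_sup _ _ _)))⟩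
  · rcases zx with h2 | h2
    · exact Or.inl fun r hr => congrArg (Subgroup.map (MulAut.conj g).toMonoidHom) (h2 r hr)
    · exact Or.inr h2

/-- three commuting members give a typed piece -/
theorem typed_of_three (hyp : Hyp Om) {D : Subgroup G} (h : Cit.Piece Om D) {K J M : Subgroup G}
    (hK : K ∈ Om) (hJ : J ∈ Om) (hM : M ∈ Om) (hKD : K ≤ D) (hJD : J ≤ D) (hMD : M ≤ D)
    (h1 : cm K J) (h2 : cm K M) (h3 : cm J M) : ∃ τ, TyPc Om τ D := by
  cases h with
  | single mem =>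
    exfalso
    have e1 := hyp.eq_of_le hK mem hKD
    have e2 := hyp.eq_of_le hJ mem hJD
    rw [e1, e2] at h1
    exact not_cm_self hyp mem h1
  | chart nmem qs two p c τ kind ok small sl zx =>
    exact ⟨τ, nmem, qs, two, ok, p, c, kind, small, sl, zx⟩
  | exc qs two p prime odd iso ne zzc three =>
    exfalso
    rcases three K hK J hJ M hM hKD hJD hMD (cm_iff_le_centralizer.mp h1)
      (cm_iff_le_centralizer.mp h2) (cm_iff_le_centralizer.mp h3) with e | e | e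
    · rw [e] at h1; exact not_cm_self hyp hJ h1
    · rw [e] at h2; exact not_cm_self hyp hM h2
    · rw [e] at h3; exact not_cm_self hyp hM h3
  | mathieu qs two iso ne mem =>
    exact (false_of_mathieu hyp iso hK hJ hM hKD hJD hMD h1 h2 h3).elim

/-! ### Cores and the frame -/

theorem cores (hyp : Hyp Om) (h : Loc Om) {K : Subgroup G} (hK : K ∈ Om) : OO K = ⊥ := by
  have hKH := hyp.le_centralizer hK
  have h1 := (h (zz K) (hyp.orderOf_zz hK)).core _ (subgroupOf_mem_restr hK hKH)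
  have h2 := OO_map (centralizer {zz K}).subtype (Subgroup.subtype_injective _)
    (K.subgroupOf (centralizer {zz K}))
  rwa [map_subgroupOf_eq_of_le hKH, h1, Subgroup.map_bot] at h2

theorem comm_of_loc (hyp : Hyp Om) (h : Loc Om) {S : Subgroup G} (hS : IsPGroup 2 S) {K L : Subgroup G}
    (hK : K ∈ OmS Om S) (hL : L ∈ OmS Om S) (hne : K ≠ L) : cm K L := by
  have h1 := PairComm.commutator_zz_le hyp hS hK hL hne
  rw [cores hyp h hK.1, le_bot_iff, commutator_eq_bot_iff_le_centralizer] at h1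
  have h2 : ∀ x ∈ K, x * zz L = zz L * x := fun x hx =>
    ((mem_centralizer_iff.mp (h1 hx)) _ (mem_zpowers _)).symm
  rcases lem hyp h hK.1 hL.1 h2 with e | e
  · exact absurd e hne
  · exact e

theorem frames (hyp : Hyp Om) (hone : ∀ K ∈ Om, ∀ L ∈ Om, ∃ g, Cit.cj g K = L) (h : Loc Om) :
    Red.Frames Om (sylFrames Om) :=
  frames_of hyp hone (fun S K hK L hL hne => comm_of_loc hyp h S.isPGroup' hK hL hne)
    (fun _ hK => not_cm_self hyp hK)

end General

/-! ### Facts on charts -/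

/-- the kinds of the typed pieces -/
def KindFact.{v} : Prop :=
  ∀ (G : Type v) [Group G] [Finite G] (Om : Set (Subgroup G)) (_ : Hyp Om) (D : Subgroup G)
    (τ : Nodes.Chart.Ty) (_ : TyPc Om τ D) (κ : Type v) [Fintype κ] (K : κ → Subgroup G)
    (hK : ∀ i, K i ∈ OmIn Om D) (hc : ∀ i j, i ≠ j → cm (K i) (K j))
    (_ : ∀ L ∈ OmIn Om D, ∃ i, ¬ cm L (K i)), (data (OmIn Om D) K hK hc).KT τ Finset.univ

/-- (GEN) -/
def GenFact.{v} : Prop :=
  ∀ (G : Type v) [Group G] [Finite G] (Om : Set (Subgroup G)) (_ : Hyp Om) (D : Subgroup G)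
    (τ : Nodes.Chart.Ty) (_ : TyPc Om τ D) (_ : τ ≠ .D 4) (κ : Type v) [Fintype κ]
    (K : κ → Subgroup G) (_ : ∀ i, K i ∈ OmIn Om D) (_ : ∀ i j, i ≠ j → cm (K i) (K j))
    (_ : ∀ L ∈ OmIn Om D, ∃ i, ¬ cm L (K i)) (_ : 3 ≤ Fintype.card κ),
    D ≤ sSup {L | L ∈ OmIn Om D ∧ ∃ i, cm L (K i)}

end Cfsg.Agent.Cit.TypeDet
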