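import Cfsg.Agent.Cit.TypeDet.Typed
import Cfsg.Agent.Nodes.RootKindsD
import Cfsg.Agent.Nodes.KindsOf
import Cfsg.Agent.Nodes.TyStd

/-!
# The typed kind of the pieces of type `D n`

helper866.  `kt_D`: for a chart `c` of type `D m` of `L` and a maximal commuting family `K` of members of `Om` in `L` the
data of `K` is of kind `KT (D m)`.
-/

set_option autoImplicit false
set_option linter.unusedSectionVars false

namespace Cfsg.Agent.Cit.TypeDet.KindsD

open Cfsg.Agent.Nodes Cfsg.Agent.Nodes.Chart Cfsg.Agent.Nodes.TyStd Cfsg.Agent.Nodes.RootKinds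
  Cfsg.Agent.Nodes.RootKindsD Cfsg.Agent.ChevalleyStructure.CoxeterGeom Cfsg.Agent.Tits.Roots
  Cfsg.Agent.Cit.TypeDet

variable {G : Type*} [Group G] {Om : Set (Subgroup G)} {p : ℕ} {L : Subgroup G}

/-- The diagram `D 2` is not connected. -/
theorem three_le (c : Chart.Chart Om p L) {m : ℕ} (h : c.IsTy (.D m)) : 3 ≤ m := by
  by_contra hm
  obtain ⟨e, hA, -⟩ := h
  have hM : ∀ i j, c.M i j = (Ty.D m).M (e i) (e j) := fun i j => c.M_apply hA i j
  have h0 : m - 2 = 0 := by omega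
  have key : ∀ (n : ℕ), n = 0 → ∀ i j : Fin (n + 2), i ≠ j → TypeD.M n i j = 2 := by
    rintro _ rfl i j hij
    rw [TypeD.M_apply, if_neg hij, if_neg]
    have := i.2
    have := j.2
    have : i.val ≠ j.val := fun h => hij (Fin.ext h)
    unfold TypeD.Adj
    omega
  obtain ⟨i0⟩ := c.ne
  have hcard : Fintype.card c.I = (m - 2) + 2 := (Fintype.card_congr e).trans (Fintype.card_fin _)
  obtain ⟨a, ha, b, hb, hab⟩ := c.irr {i0} ⟨i0, rfl⟩ (fun h1 => by
    have h2 : Fintype.card c.I ≤ 1 := Fintype.card_le_one_iff.2 fun a b => by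
      have ha : a ∈ ({i0} : Set c.I) := h1 ▸ Set.mem_univ a
      have hb : b ∈ ({i0} : Set c.I) := h1 ▸ Set.mem_univ b
      rw [Set.mem_singleton_iff] at ha hb
      rw [ha, hb]
    omega)
  apply hab
  rw [hM]
  refine key (m - 2) h0 (e a) (e b) fun h1 => hb ?_
  have h2 := e.injective h1
  rwa [← h2]

/-- **Standardisation**: a chart of type `D m` with the frame `KindD.g`. -/
theorem exists_std (c : Chart.Chart Om p L) {m : ℕ} (h : c.IsTy (.D m)) :
    ∃ (_ : Fintype (TypeD.M (m - 2)).Group) (e : c.I ≃ Fin (Ty.D m).rk)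
      (hM : ∀ i j, c.M i j = (Ty.D m).M (e i) (e j)) (hA : ∀ i j, c.A i j = (Ty.D m).cartan (e i) (e j))
      (hroot : ∀ r ∈ RR (TypeD.M (m - 2)).toCoxeterSystem,
        IsRoot (TypeD.M (m - 2)).toCoxeterSystem (Ty.D m).isCartan r)
      (hact : ∀ r ∈ RR (TypeD.M (m - 2)).toCoxeterSystem, ∀ w,
        rep (TypeD.M (m - 2)).toCoxeterSystem (Ty.D m).isCartan w r ∈ RR (TypeD.M (m - 2)).toCoxeterSystem)
      (hR : ∀ i, sr i ∈ c.R ↔ sr (e i) ∈ RR (TypeD.M (m - 2)).toCoxeterSystem)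
      (htr : ∀ r ∈ RR (TypeD.M (m - 2)).toCoxeterSystem, ∀ s ∈ RR (TypeD.M (m - 2)).toCoxeterSystem,
        ∃ w, s = rep (TypeD.M (m - 2)).toCoxeterSystem (Ty.D m).isCartan w r),
      (reindex c e hM hA (TypeD.M (m - 2)).toCoxeterSystem (Ty.D m).isCartan hroot hact hR htr).IsTy (.D m) := by
  have h3 := three_le c h
  have hf : Finite (TypeD.M (m - 2)).Group := TypeD.finite_W (TypeD.M (m - 2)).toCoxeterSystem
  let _ : Fintype (TypeD.M (m - 2)).Group := Fintype.ofFinite _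
  have hroot : ∀ r ∈ RR (TypeD.M (m - 2)).toCoxeterSystem,
      IsRoot (TypeD.M (m - 2)).toCoxeterSystem (Ty.D m).isCartan r := fun r hr => hr
  have hact : ∀ r ∈ RR (TypeD.M (m - 2)).toCoxeterSystem, ∀ w,
      rep (TypeD.M (m - 2)).toCoxeterSystem (Ty.D m).isCartan w r ∈ RR (TypeD.M (m - 2)).toCoxeterSystem :=
    fun r hr w => IsRoot.act hr w
  have htr : ∀ r ∈ RR (TypeD.M (m - 2)).toCoxeterSystem, ∀ s ∈ RR (TypeD.M (m - 2)).toCoxeterSystem,
      ∃ w, s = rep (TypeD.M (m - 2)).toCoxeterSystem (Ty.D m).isCartan w r := by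
    intro r hr s hs
    obtain ⟨w, hw⟩ := KindD.trans (TypeD.M (m - 2)).toCoxeterSystem (by omega) hr hs
    exact ⟨w, hw.symm⟩
  obtain ⟨e, hM, hA, hR, h1⟩ := exists_chart_of_isTy c h (TypeD.M (m - 2)).toCoxeterSystem
    (R' := RR (TypeD.M (m - 2)).toCoxeterSystem) hroot hact
    (fun i => ⟨fun _ => trivial, fun _ => isRoot_sr _ _ i⟩) htr
  exact ⟨_, e, hM, hA, hroot, hact, hR, htr, h1⟩

/-- **The kind of the frames of a piece of type `D m`.** -/
theorem kt_D [Finite G] (hyp : Hyp Om) (c : Chart.Chart Om p L) {m : ℕ} (h : c.IsTy (.D m))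
    {κ : Type*} [Fintype κ] {K : κ → Subgroup G} (hK : ∀ i, K i ∈ OmIn Om L)
    (hc : ∀ i j, i ≠ j → cm (K i) (K j)) (hmax : ∀ L' ∈ OmIn Om L, ∃ k, ¬ cm L' (K k)) :
    (data (OmIn Om L) K hK hc).KT (.D m) Finset.univ := by
  have h3 := three_le c h
  obtain ⟨_, e, hM, hA, hroot, hact, hR, htr, -⟩ := exists_std c h
  let C := reindex c e hM hA (TypeD.M (m - 2)).toCoxeterSystem (Ty.D m).isCartan hroot hact hR htr
  have FS : KindBase.FrameSys C.cs C.h C.R (KindD.g (n := m - 2)) :=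
    KindD.frameSys (TypeD.M (m - 2)).toCoxeterSystem
  refine ⟨?_, fun h4 => ?_, fun h5 ho => ?_, fun h5 he => ?_⟩
  · rw [Finset.card_univ, KindsOf.card_eq hyp C FS hK hc hmax, KindD.card_ix]
    omega
  · exact KindsOf.kd4 hyp C FS hK hc hmax (rkd4 (TypeD.M (m - 2)).toCoxeterSystem (by omega))
  · exact KindsOf.ko hyp C FS hK hc hmax (rko (TypeD.M (m - 2)).toCoxeterSystem (by omega)
      (Nat.odd_iff.2 (by omega)))
  · exact KindsOf.kd hyp C FS hK hc hmax (rkd (TypeD.M (m - 2)).toCoxeterSystem (by omega))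

end Cfsg.Agent.Cit.TypeDet.KindsD
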