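import Cfsg.Agent.Nodes.KindsOf
import Cfsg.Agent.Nodes.TyStd
import Cfsg.Agent.Nodes.RootKindsEF
import Cfsg.Agent.Cit.TypeDet.Typed

/-!
helper617: the typed kinds `KT τ univ` of maximal frames of charts of type `E6`, `E7`, `E8`, `F4`, `G2`.
-/

set_option autoImplicit false
set_option linter.unusedSectionVars false

namespace Cfsg.Agent.Cit.TypeDet.KindsEF

open CoxeterSystem Cfsg.Agent.ChevalleyStructure.CoxeterGeom Cfsg.Agent.Tits.Roots Cfsg.Agent.Tits.Core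
  Cfsg.Agent.Tits.RootComb Cfsg.Agent.Nodes.Comb Cfsg.Agent.Nodes.SubComb Cfsg.Agent.Nodes.PosPair
  Cfsg.Agent.Nodes.Coroot Cfsg.Agent.Nodes.KindBase Cfsg.Agent.Nodes.KindChev Cfsg.Agent.Nodes.StabComb
  Cfsg.Agent.Nodes.RootKinds Cfsg.Agent.Nodes.Perp Cfsg.Agent.Nodes.Chart Cfsg.Agent.Nodes.TyStd
open Cfsg.Lie Cfsg.Agent.ChevalleyStructure Cfsg.Agent.ChevalleyStructure.CoxeterGeomTypes Cfsg.Agent.Nodes.RGDChev
open Cfsg.Agent.Nodes

/-! ### The simple roots in `R` -/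

section G2

/-- The squared lengths (halved) of the simple roots. -/
def dG : Fin 2 → ℤ := ![1, 3]

/-- The frame: the highest root. -/
def frG : Fin 1 → Fin 2 → ℤ := ![![3, 2]]

def cfG : Fin 1 → Fin 2 → ℤ := ![![0, 1]]

theorem isTypeG : IsType chevG2 2 CoxeterMatrix.G₂ := by simp [IsType, typeList]

set_option backward.isDefEq.respectTransparency false in
theorem kdG : KD chevG2 2 1 6 dG frG cfG ![11] := by
  constructor <;> decide +kernel

end G2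

section Long

variable {W : Type*} [Group W] [Finite W]

theorem long_F4 (cs : CoxeterSystem CoxeterMatrix.F₄ W) (h : IsCartan CoxeterMatrix.F₄ (cartanOf chevF4 4))
    (i : Fin 4) : sr i ∈ KindF.R cs h ↔ 2 ≤ (i : ℕ) := by
  have h1 := qf_root cs h KindF.kd.hd 1 i
  rw [map_one, Module.End.one_apply] at h1
  have h2 : sr i ∈ KindF.R cs h ↔ 2 * KindF.d i = 4 := by
    rw [← h1]
    exact ⟨fun h => h.2, fun h => ⟨isRoot_sr cs _ i, h⟩⟩
  rw [h2]
  clear h1 h2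
  revert i
  decide

theorem long_G2 (cs : CoxeterSystem CoxeterMatrix.G₂ W) (h : IsCartan CoxeterMatrix.G₂ (cartanOf chevG2 2))
    (i : Fin 2) : sr i ∈ RN cs h 6 dG ↔ (i : ℕ) = 1 := by
  have h1 := qf_root cs h kdG.hd 1 i
  rw [map_one, Module.End.one_apply] at h1
  have h2 : sr i ∈ RN cs h 6 dG ↔ 2 * dG i = 6 := by
    rw [← h1]
    exact ⟨fun h => h.2, fun h => ⟨isRoot_sr cs _ i, h⟩⟩
  rw [h2]
  clear h1 h2
  revert i
  decide

end Long

/-! ### Standard charts with frames -/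

section Chart

variable {G : Type*} [Group G] {Om : Set (Subgroup G)} {p : ℕ} {L : Subgroup G}

/-- `E6` -/
theorem exists_rkf_E6 (c : Chart Om p L) (h : c.IsTy .E6) :
    ∃ (c' : Chart Om p L) (g : Fin 4 → c'.I → ℤ), c'.IsTy .E6 ∧ FrameSys c'.cs c'.h c'.R g ∧
      RKF c'.cs c'.h c'.R g := by
  let cs' : CoxeterSystem CoxeterMatrix.E₆ CoxeterMatrix.E₆.Group := CoxeterMatrix.E₆.toCoxeterSystem
  have hf : Finite CoxeterMatrix.E₆.Group := finite_of_isTy c h cs'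
  let _ : Fintype CoxeterMatrix.E₆.Group := Fintype.ofFinite _
  have F := KindE.frameSys6 cs' Ty.E6.isCartan
  have T : ∀ r ∈ KindE.R6 cs' Ty.E6.isCartan, ∀ s ∈ KindE.R6 cs' Ty.E6.isCartan, ∃ w, s = rep cs' Ty.E6.isCartan w r := by
    intro r hr s hs
    obtain ⟨w, hw⟩ := KindE.trans6 cs' Ty.E6.isCartan hr hs
    exact ⟨w, hw.symm⟩
  obtain ⟨e, hM, hA, hR, h1⟩ := exists_chart_of_isTy c h (W' := CoxeterMatrix.E₆.Group) cs'
    (R' := KindE.R6 cs' Ty.E6.isCartan) F.root F.act (fun i => ⟨fun _ => trivial, fun _ => isRoot_sr _ _ i⟩) T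
  exact ⟨reindex c e hM hA cs' Ty.E6.isCartan F.root F.act hR T, KindE.fr6, h1, F, RootKindsEF.rkf_E6 cs' _⟩

/-- `E7` -/
theorem exists_rke7 (c : Chart Om p L) (h : c.IsTy .E7) :
    ∃ (c' : Chart Om p L) (g : Fin 7 → c'.I → ℤ), c'.IsTy .E7 ∧ FrameSys c'.cs c'.h c'.R g ∧
      RKE7 c'.cs c'.h g := by
  let cs' : CoxeterSystem CoxeterMatrix.E₇ CoxeterMatrix.E₇.Group := CoxeterMatrix.E₇.toCoxeterSystem
  have hf : Finite CoxeterMatrix.E₇.Group := finite_of_isTy c h cs'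
  let _ : Fintype CoxeterMatrix.E₇.Group := Fintype.ofFinite _
  have F := KindE.frameSys7 cs' Ty.E7.isCartan
  have T : ∀ r ∈ KindE.R7 cs' Ty.E7.isCartan, ∀ s ∈ KindE.R7 cs' Ty.E7.isCartan, ∃ w, s = rep cs' Ty.E7.isCartan w r := by
    intro r hr s hs
    obtain ⟨w, hw⟩ := KindE.trans7 cs' Ty.E7.isCartan hr hs
    exact ⟨w, hw.symm⟩
  obtain ⟨e, hM, hA, hR, h1⟩ := exists_chart_of_isTy c h (W' := CoxeterMatrix.E₇.Group) cs'
    (R' := KindE.R7 cs' Ty.E7.isCartan) F.root F.act (fun i => ⟨fun _ => trivial, fun _ => isRoot_sr _ _ i⟩) T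
  exact ⟨reindex c e hM hA cs' Ty.E7.isCartan F.root F.act hR T, KindE.fr7, h1, F, RootKindsEF.rke7 cs' _⟩

/-- `E8` -/
theorem exists_rke8 (c : Chart Om p L) (h : c.IsTy .E8) :
    ∃ (c' : Chart Om p L) (g : Fin 8 → c'.I → ℤ), c'.IsTy .E8 ∧ FrameSys c'.cs c'.h c'.R g ∧
      RKE8 c'.cs c'.h g := by
  let cs' : CoxeterSystem CoxeterMatrix.E₈ CoxeterMatrix.E₈.Group := CoxeterMatrix.E₈.toCoxeterSystem
  have hf : Finite CoxeterMatrix.E₈.Group := finite_of_isTy c h cs'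
  let _ : Fintype CoxeterMatrix.E₈.Group := Fintype.ofFinite _
  have F := KindE.frameSys8 cs' Ty.E8.isCartan
  have T : ∀ r ∈ KindE.R8 cs' Ty.E8.isCartan, ∀ s ∈ KindE.R8 cs' Ty.E8.isCartan, ∃ w, s = rep cs' Ty.E8.isCartan w r := by
    intro r hr s hs
    obtain ⟨w, hw⟩ := KindE.trans8 cs' Ty.E8.isCartan hr hs
    exact ⟨w, hw.symm⟩
  obtain ⟨e, hM, hA, hR, h1⟩ := exists_chart_of_isTy c h (W' := CoxeterMatrix.E₈.Group) cs'
    (R' := KindE.R8 cs' Ty.E8.isCartan) F.root F.act (fun i => ⟨fun _ => trivial, fun _ => isRoot_sr _ _ i⟩) T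
  exact ⟨reindex c e hM hA cs' Ty.E8.isCartan F.root F.act hR T, KindE.fr8, h1, F, RootKindsEF.rke8 cs' _⟩

/-- `F4` -/
theorem exists_rkf_F4 (c : Chart Om p L) (h : c.IsTy .F4) :
    ∃ (c' : Chart Om p L) (g : Fin 4 → c'.I → ℤ), c'.IsTy .F4 ∧ FrameSys c'.cs c'.h c'.R g ∧
      RKF c'.cs c'.h c'.R g := by
  let cs' : CoxeterSystem CoxeterMatrix.F₄ CoxeterMatrix.F₄.Group := CoxeterMatrix.F₄.toCoxeterSystem
  have hf : Finite CoxeterMatrix.F₄.Group := finite_of_isTy c h cs'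
  let _ : Fintype CoxeterMatrix.F₄.Group := Fintype.ofFinite _
  have F := KindF.frameSys cs' Ty.F4.isCartan
  have T : ∀ r ∈ KindF.R cs' Ty.F4.isCartan, ∀ s ∈ KindF.R cs' Ty.F4.isCartan, ∃ w, s = rep cs' Ty.F4.isCartan w r := by
    intro r hr s hs
    obtain ⟨w, hw⟩ := KindF.trans cs' Ty.F4.isCartan hr hs
    exact ⟨w, hw.symm⟩
  obtain ⟨e, hM, hA, hR, h1⟩ := exists_chart_of_isTy c h (W' := CoxeterMatrix.F₄.Group) cs'
    (R' := KindF.R cs' Ty.F4.isCartan) F.root F.act (long_F4 cs' Ty.F4.isCartan) T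
  exact ⟨reindex c e hM hA cs' Ty.F4.isCartan F.root F.act hR T, KindF.fr, h1, F, RootKindsEF.rkf_F4 cs' _⟩

/-- `G2` -/
theorem exists_frame_G2 (c : Chart Om p L) (h : c.IsTy .G2) :
    ∃ (c' : Chart Om p L) (g : Fin 1 → c'.I → ℤ), c'.IsTy .G2 ∧ FrameSys c'.cs c'.h c'.R g := by
  let cs' : CoxeterSystem CoxeterMatrix.G₂ CoxeterMatrix.G₂.Group := CoxeterMatrix.G₂.toCoxeterSystem
  have hf : Finite CoxeterMatrix.G₂.Group := finite_of_isTy c h cs'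
  let _ : Fintype CoxeterMatrix.G₂.Group := Fintype.ofFinite _
  have F : FrameSys cs' Ty.G2.isCartan (RN cs' Ty.G2.isCartan 6 dG) frG := kdG.frameSys isTypeG
  have T : ∀ r ∈ RN cs' Ty.G2.isCartan 6 dG, ∀ s ∈ RN cs' Ty.G2.isCartan 6 dG, ∃ w, s = rep cs' Ty.G2.isCartan w r := by
    intro r hr s hs
    obtain ⟨w, hw⟩ := kdG.trans isTypeG hr hs
    exact ⟨w, hw.symm⟩
  obtain ⟨e, hM, hA, hR, h1⟩ := exists_chart_of_isTy c h (W' := CoxeterMatrix.G₂.Group) cs'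
    (R' := RN cs' Ty.G2.isCartan 6 dG) F.root F.act (long_G2 cs' Ty.G2.isCartan) T
  exact ⟨reindex c e hM hA cs' Ty.G2.isCartan F.root F.act hR T, frG, h1, F⟩

end Chart

/-! ### The typed kinds -/

section Main

variable {G : Type*} [Group G] [Finite G] {Om : Set (Subgroup G)} {p : ℕ} {D : Subgroup G}
  {κ : Type*} [Fintype κ] {K : κ → Subgroup G}
  (hyp : Cfsg.Agent.Cit.Hyp Om) (c : Chart Om p D)
  (hK : ∀ i, K i ∈ OmIn Om D) (hc : ∀ i j, i ≠ j → cm (K i) (K j))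
  (hmax : ∀ L' ∈ OmIn Om D, ∃ k, ¬ cm L' (K k))

include hyp c hK hc hmax

theorem kt_E6 (hτ : c.IsTy .E6) : (data (OmIn Om D) K hK hc).KT .E6 Finset.univ := by
  obtain ⟨c', g, -, F, hR⟩ := exists_rkf_E6 c hτ
  exact KindsOf.kf hyp c' F hK hc hmax hR

theorem kt_F4 (hτ : c.IsTy .F4) : (data (OmIn Om D) K hK hc).KT .F4 Finset.univ := by
  obtain ⟨c', g, -, F, hR⟩ := exists_rkf_F4 c hτ
  exact KindsOf.kf hyp c' F hK hc hmax hR

theorem kt_E7 (hτ : c.IsTy .E7) : (data (OmIn Om D) K hK hc).KT .E7 Finset.univ := by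
  obtain ⟨c', g, -, F, hR⟩ := exists_rke7 c hτ
  exact KindsOf.ke7 hyp c' F hK hc hmax hR

theorem kt_E8 (hτ : c.IsTy .E8) : (data (OmIn Om D) K hK hc).KT .E8 Finset.univ := by
  obtain ⟨c', g, -, F, hR⟩ := exists_rke8 c hτ
  exact KindsOf.ke8 hyp c' F hK hc hmax hR

theorem kt_G2 (hτ : c.IsTy .G2) : (data (OmIn Om D) K hK hc).KT .G2 Finset.univ := by
  obtain ⟨c', g, -, F⟩ := exists_frame_G2 c hτ
  have h1 := KindsOf.card_eq hyp c' F hK hc hmax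
  change (Finset.univ : Finset κ).card = 1
  rw [Finset.card_univ, h1, Fintype.card_fin]

end Main

end Cfsg.Agent.Cit.TypeDet.KindsEF
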