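import Mathlib
import Cfsg.Agent.Nodes.ChartFrame

/-!
# The members of `Om` in a chart group (project CIT, charts, item (a))

`C : Chart Om p D`, `Om` closed under conjugation.

* `lk_univ` : any two roots of an irreducible diagram are joined by non-orthogonal roots; `exists_R` : every root is
  not orthogonal to some root of `R`;
* `exists_conj` : the members of `OmIn Om D` are conjugate under `D`;
* `chn_omIn` : any two members of `OmIn Om D` are joined by a chain of non-commuting members;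
* `sSup_omIn` : they generate `D`.
-/

set_option autoImplicit false
set_option linter.unusedSectionVars false
set_option linter.dupNamespace false

namespace Cfsg.Agent.Nodes.ChartIrr

open CoxeterSystem Cfsg.Agent.ChevalleyStructure.CoxeterGeom Cfsg.Agent.Tits.Roots Cfsg.Agent.Tits.Core
  Cfsg.Agent.Tits.RootComb Cfsg.Agent.Nodes Cfsg.Agent.Nodes.Comb Cfsg.Agent.Nodes.Reps Cfsg.Agent.Nodes.BNOf
  Cfsg.Agent.Nodes.RGDLib Cfsg.Agent.Nodes.Chart Cfsg.Agent.Nodes.Bruhat Cfsg.Agent.Nodes.Coroot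
  Cfsg.Agent.Nodes.Perp Cfsg.Agent.Nodes.ChartFrame
open Cfsg.Agent.Cit.TypeDet (cm stp chn cm_symm cm_iff_le_centralizer cm_mono OmIn)
open Relation

section Roots

variable {I W : Type*} [Fintype I] [DecidableEq I] [Group W] [Fintype W] {M : CoxeterMatrix I}
  {cs : CoxeterSystem M W} {A : I → I → ℤ} {h : IsCartan M A}

theorem mem_perp_empty {x : I → ℤ} (hx : IsRoot cs h x) : x ∈ Perp cs h ∅ := ⟨hx, by simp⟩

theorem form_sr_ne_zero {a b : I} (hab : a ≠ b) (hM : M a b ≠ 2) : form cs h (sr a) (sr b) ≠ 0 := by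
  intro h0
  have h1 : 2 * form cs h (sr a) (sr b) = A b a * form cs h (sr b) (sr b) := by
    have := two_form cs h b (sr a)
    rwa [sr, pairing_single, mul_one] at this
  have hA : A b a ≠ 0 := by
    rcases h.rel a b hab with h0 | ⟨h0, h1, h3⟩ | ⟨h0, ⟨h1, h3⟩ | ⟨h1, h3⟩⟩ | ⟨h0, ⟨h1, h3⟩ | ⟨h1, h3⟩⟩
    · exact absurd h0.1 hM
    all_goals rw [h3]; decide
  rw [h0, mul_zero] at h1
  have h2 := form_pos cs h (isRoot_sr cs h b).ne_zero
  rcases mul_eq_zero.1 h1.symm with h3 | h3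
  · exact hA h3
  · omega

theorem exists_form_sr {x : I → ℤ} (hx : x ≠ 0) : ∃ i, form cs h x (sr i) ≠ 0 := by
  by_contra hcon
  push Not at hcon
  have h1 := form_pos cs h hx
  rw [form_eq_sum] at h1
  rw [Finset.sum_eq_zero fun k _ => by rw [hcon k, mul_zero]] at h1
  exact lt_irrefl _ h1

/-- **All roots are joined.** -/
theorem lk_univ (irr : ∀ J : Set I, J.Nonempty → J ≠ Set.univ → ∃ a ∈ J, ∃ b, b ∉ J ∧ M a b ≠ 2)
    {x y : I → ℤ} (hx : IsRoot cs h x) (hy : IsRoot cs h y) : ReflTransGen (Lk cs h ∅) x y := by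
  have key : ∀ i j : I, ReflTransGen (Lk cs h ∅) (sr i) (sr j) := by
    intro i
    set J : Set I := {j | ReflTransGen (Lk cs h ∅) (sr i) (sr j)} with hJ
    have h0 : i ∈ J := ReflTransGen.refl
    have h1 : J = Set.univ := by
      by_contra hne
      obtain ⟨a, ha, b, hb, hab⟩ := irr J ⟨i, h0⟩ hne
      apply hb
      have hne : a ≠ b := by rintro rfl; exact hb ha
      exact ReflTransGen.tail ha ⟨mem_perp_empty (isRoot_sr cs h a), mem_perp_empty (isRoot_sr cs h b),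
        form_sr_ne_zero hne hab⟩
    intro j
    have : j ∈ J := by rw [h1]; trivial
    exact this
  obtain ⟨i, hi⟩ := exists_form_sr (cs := cs) (h := h) hx.ne_zero
  obtain ⟨j, hj⟩ := exists_form_sr (cs := cs) (h := h) hy.ne_zero
  refine ReflTransGen.head ⟨mem_perp_empty hx, mem_perp_empty (isRoot_sr cs h i), hi⟩ ?_
  refine (key i j).tail ⟨mem_perp_empty (isRoot_sr cs h j), mem_perp_empty hy, ?_⟩
  rw [form_comm]; exact hj

/-- Every root is not orthogonal to some root of a non-empty `W`-invariant set. -/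
theorem exists_R (irr : ∀ J : Set I, J.Nonempty → J ≠ Set.univ → ∃ a ∈ J, ∃ b, b ∉ J ∧ M a b ≠ 2)
    {R : Set (I → ℤ)} (hroot : ∀ r ∈ R, IsRoot cs h r) (hact : ∀ r ∈ R, ∀ w, rep cs h w r ∈ R) (hne : R.Nonempty)
    {y : I → ℤ} (hy : IsRoot cs h y) : ∃ r ∈ R, form cs h r y ≠ 0 := by
  obtain ⟨s, hs⟩ := hne
  obtain ⟨r, hr, -, h1, -⟩ := chain_R (cs := cs) (h := h) (F := ∅) hact (Q := fun _ _ => True) hs
    (mem_perp_empty (hroot s hs)) trivial (fun _ _ _ _ _ _ _ => trivial) (lk_univ irr (hroot s hs) hy)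
  exact ⟨r, hr, h1⟩

end Roots

/-- An element of odd order lies in every subgroup containing its square. -/
theorem mem_of_sq {G : Type*} [Group G] {N : Subgroup G} {a : G} (h : a * a ∈ N) {k : ℕ} (hk : Odd k)
    (h1 : a ^ k = 1) : a ∈ N := by
  obtain ⟨m, rfl⟩ := hk
  rw [pow_succ, pow_mul, pow_two] at h1
  have h2 : a = ((a * a) ^ m)⁻¹ := eq_inv_of_mul_eq_one_right h1
  rw [h2]
  exact inv_mem (pow_mem h m)

variable {G : Type*} [Group G] {Om : Set (Subgroup G)} {p : ℕ} {D : Subgroup G} (C : Chart.Chart Om p D)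

include C

/-- `OmIn Om D = OmF ∅`. -/
theorem omIn_eq (hO : ∀ K ∈ Om, ∀ g, cj g K ∈ Om) : OmIn Om D = OmF C.cs C.h C.X C.R C.Z ∅ := by
  have h1 := omF_eq C hO (ι := Empty) (fun i => i.elim) (fun i => i.elim) (fun i => i.elim)
  have h2 : Set.range (fun i : Empty => (i.elim : C.I → ℤ)) = ∅ := Set.range_eq_empty _
  rw [h2] at h1
  rw [← h1]
  ext K
  constructor
  · rintro ⟨h3, h4⟩
    exact ⟨h3, h4, fun i => i.elim⟩
  · rintro ⟨h3, h4, -⟩
    exact ⟨h3, h4⟩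

theorem cj_mem_omIn (hO : ∀ K ∈ Om, ∀ g, cj g K ∈ Om) {K : Subgroup G} (hK : K ∈ OmIn Om D) {g : G} (hg : g ∈ D) :
    cj g K ∈ OmIn Om D := ⟨hO _ hK.1 g, (cj_le_iff hg).2 hK.2⟩

theorem KK_mem_omIn {r : C.I → ℤ} (hr : r ∈ C.R) : KK C.Z r ∈ OmIn Om D := ⟨KK_mem_Om C hr, KK_le C hr⟩

/-- The groups `KK r`, `r ∈ R`, are conjugate in `D`. -/
theorem exists_conj_KK {r s : C.I → ℤ} (hr : r ∈ C.R) (hs : s ∈ C.R) : ∃ g ∈ D, cj g (KK C.Z r) = KK C.Z s := by
  obtain ⟨w, rfl⟩ := C.trans r hr s hs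
  obtain ⟨k, hk⟩ := exists_rp C.cs C.cls.rgd.nsys w
  refine ⟨k, ?_, conj_KK C.cls hk hr⟩
  have h1 : k ∈ GG C.cs C.h C.T C.X := NN_le_GG C.cls.rgd ⟨_, hk⟩
  rwa [GG_eq] at h1

/-- **The members of `OmIn Om D` are conjugate under `D`.** -/
theorem exists_conj {K K' : Subgroup G} (hK : K ∈ OmIn Om D) (hK' : K' ∈ OmIn Om D) : ∃ g ∈ D, cj g K = K' := by
  obtain ⟨r, hr, a, ha, rfl⟩ := C.om_conj K hK.1 hK.2
  obtain ⟨s, hs, b, hb, rfl⟩ := C.om_conj K' hK'.1 hK'.2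
  obtain ⟨g, hg, e⟩ := exists_conj_KK C hr hs
  refine ⟨b * g * a⁻¹, mul_mem (mul_mem hb hg) (inv_mem ha), ?_⟩
  rw [cj_mul, cj_mul, cj_inv_cj]
  exact congrArg (cj b) e

/-- **The members of `OmIn Om D` are joined.** -/
theorem chn_omIn (hO : ∀ K ∈ Om, ∀ g, cj g K ∈ Om) {K K' : Subgroup G} (hK : K ∈ OmIn Om D)
    (hK' : K' ∈ OmIn Om D) : chn (OmIn Om D) K K' := by
  rw [omIn_eq C hO] at hK hK' ⊢
  obtain ⟨r, hr, hrF, a, ha, rfl⟩ := hK
  obtain ⟨s, hs, hsF, b, hb, rfl⟩ := hK'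
  exact (chn_iff C.cls C.prime C.odd hr hrF hs hsF ha hb).2 (lk_univ C.irr (C.cls.root r hr) (C.cls.root s hs))

/-- No member of `Om` in `D` is abelian. -/
theorem not_cm_self' {K : Subgroup G} (hK : K ∈ OmIn Om D) : ¬ cm K K := by
  obtain ⟨r, hr, a, ha, rfl⟩ := C.om_conj K hK.1 hK.2
  intro h0
  exact not_cm_self C.cls C.prime hr (cm_cj'.1 h0)

theorem omIn_nonempty : (OmIn Om D).Nonempty := by
  obtain ⟨r, hr⟩ := C.Rne
  exact ⟨_, KK_mem_omIn C hr⟩

/-- An element of a root group has odd order. -/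
theorem exists_odd_pow {y : C.I → ℤ} (hy : IsRoot C.cs C.h y) {a : G} (ha : a ∈ C.X y) : ∃ k, Odd k ∧ a ^ k = 1 := by
  obtain ⟨k, hk⟩ := (C.cls.rgd.pgrp' hy) ⟨a, ha⟩
  exact ⟨p ^ k, (C.prime.odd_of_ne_two C.odd).pow, congrArg Subtype.val hk⟩

/-- **The members of `OmIn Om D` generate `D`.** -/
theorem sSup_omIn (hO : ∀ K ∈ Om, ∀ g, cj g K ∈ Om) : sSup (OmIn Om D) = D := by
  apply le_antisymm
  · exact sSup_le fun K hK => hK.2
  set N : Subgroup G := sSup (OmIn Om D) with hN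
  have hKK : ∀ r ∈ C.R, KK C.Z r ≤ N := fun r hr => le_sSup (KK_mem_omIn C hr)
  have hZ : ∀ r ∈ C.R, C.Z r ≤ N := fun r hr => (le_sup_left : C.Z r ≤ KK C.Z r).trans (hKK r hr)
  -- `a z_r a⁻¹ ∈ N`
  have hz : ∀ y, IsRoot C.cs C.h y → ∀ a ∈ C.X y, ∀ r ∈ C.R, a * C.z r * a⁻¹ ∈ N := by
    intro y hy a ha r hr
    have h1 : cj a (KK C.Z r) ≤ N := le_sSup (cj_mem_omIn C hO (KK_mem_omIn C hr) (X_le C hy ha))
    exact h1 (conj_mem_cj.2 (C.cls.z_mem r hr))
  have hself : ∀ r ∈ C.R, C.X r ≤ N := by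
    intro r hr a ha
    obtain ⟨k, hk, hk1⟩ := exists_odd_pow C (C.cls.root r hr) ha
    refine mem_of_sq ?_ hk hk1
    have h1 := hz r (C.cls.root r hr) a ha r hr
    have h2 := hZ r hr (C.cls.z_inv_self r hr a ha)
    have h3 := hKK r hr (C.cls.z_mem r hr)
    have h4 : a * a = (a * C.z r * a⁻¹)⁻¹ * (C.z r)⁻¹ * (C.z r * a * C.z r * a) := by group
    rw [h4]
    exact mul_mem (mul_mem (inv_mem h1) (inv_mem h3)) h2
  rw [← C.gen]
  refine RGD.Sup_le fun y hy => ?_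
  have hy' : IsRoot C.cs C.h y := hy
  obtain ⟨r, hr, h0⟩ := exists_R C.irr C.cls.root C.cls.act C.Rne hy'
  by_cases h1 : y = r
  · rw [h1]; exact hself r hr
  by_cases h2 : y = -r
  · rw [h2]; exact hself _ (ClsNorm.neg_mem C.cls hr)
  intro a ha
  obtain ⟨k, hk, hk1⟩ := exists_odd_pow C hy' ha
  refine mem_of_sq ?_ hk hk1
  have h3 := C.cls.z_inv r hr y hy' h1 h2 (by rw [form_comm]; exact h0) a ha
  have h4 : a * a = a * C.z r * a⁻¹ * C.z r := by
    have h5 := C.cls.z_sq r hr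
    calc a * a = a * ((C.z r * C.z r) * a * (C.z r * C.z r)) := by rw [h5, one_mul, mul_one]
      _ = a * C.z r * (C.z r * a * C.z r) * C.z r := by simp only [mul_assoc]
      _ = _ := by rw [h3]
  rw [h4]
  exact mul_mem (hz y hy' a ha r hr) (hKK r hr (C.cls.z_mem r hr))

end Cfsg.Agent.Nodes.ChartIrr
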