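import Cfsg.Agent.Cit.TypeDet.FourRed
import Cfsg.Agent.Cit.TypeDet.Piece

/-!
# Type determination for frames with four members

`Bridge` : `≈`, classes and `TT` of the frame as a set (`TypeDet/Red.lean`) and of the indexed frame
(`TypeDet/Classes.lean`) agree.

`four_KL` : all four involutions different, `G` simple, commuting graph of `Om` connected, pieces of known kinds:
every `F - k` is of kind `KL` (one component with frame size three: type `C_3`, `A_5`, `A_6`).
-/

set_option autoImplicit false
set_option linter.unusedSectionVars false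
set_option linter.unusedVariables false

namespace Cfsg.Agent.Cit.TypeDet

open Subgroup Finset Classical Relation

variable {G : Type*} [Group G] {ι : Type*} [Fintype ι] {Om : Set (Subgroup G)} {K : ι → Subgroup G}

namespace Bridge

theorem OmA_erase_eq (k : ι) : OmA Om K (univ.erase k) = Red.Cen Om {K k} := by
  ext L
  rw [Red.mem_Cen_single]
  constructor
  · rintro ⟨h1, h2⟩
    exact ⟨h1, h2 k (notMem_erase _ _)⟩
  · rintro ⟨h1, h2⟩
    refine ⟨h1, fun j hj => ?_⟩
    have : j = k := by
      by_contra hne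
      exact hj (mem_erase.mpr ⟨hne, mem_univ _⟩)
    rw [this]; exact h2

variable (hK : ∀ i, K i ∈ Om) (hc : ∀ i j, i ≠ j → cm (K i) (K j)) (hinj : Function.Injective K)

include hinj in
theorem app_iff {i j : ι} :
    Red.app Om (Set.range K) (K i) (K j) ↔ (sys Om K hK hc).app i j := by
  constructor
  · intro h
    have key : ∀ {L M : Subgroup G}, Red.app Om (Set.range K) L M → ∀ i j, K i = L → K j = M →
        (sys Om K hK hc).app i j := by
      intro L M h
      induction h with
      | rel L M h' =>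
        rintro i j rfl rfl
        obtain ⟨-, -, N, ⟨k, rfl⟩, h1, h2, h3⟩ := h'
        refine Sys.app_of_rel (k := k) _ ?_
        rw [← OmA_erase_eq (K := K)] at h3
        exact ⟨Data.mem_er (fun e => h1 (by rw [e])), Data.mem_er (fun e => h2 (by rw [e])), h3⟩
      | refl L =>
        rintro i j rfl h
        rw [hinj h]
        exact Sys.app_refl _ _
      | symm L M _ ih =>
        intro i j hi hj
        exact Sys.app_symm _ (ih j i hj hi)
      | trans L M N h1 _ ih1 ih2 =>
        intro i j hi hj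
        have hM : M ∈ Set.range K := by
          have key2 : ∀ {L M : Subgroup G}, Red.app Om (Set.range K) L M →
              (L ∈ Set.range K ↔ M ∈ Set.range K) := by
            intro L M ha
            induction ha with
            | rel L M h' => exact ⟨fun _ => h'.2.1, fun _ => h'.1⟩
            | refl L => exact Iff.rfl
            | symm L M _ ih => exact ih.symm
            | trans L M N _ _ ih1 ih2 => exact ih1.trans ih2
          exact (key2 h1).mp ⟨i, hi⟩
        obtain ⟨k, hk⟩ := hM
        exact Sys.app_trans _ (ih1 i k hi hk) (ih2 k j hk hj)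
    exact key h i j rfl rfl
  · intro h
    induction h with
    | rel i j h' =>
      obtain ⟨k, hk⟩ := h'
      obtain ⟨h1, h2, h3⟩ : frel Om K (univ.erase k) i j := hk
      rw [OmA_erase_eq] at h3
      refine EqvGen.rel _ _ ⟨⟨i, rfl⟩, ⟨j, rfl⟩, K k, ⟨k, rfl⟩, ?_, ?_, h3⟩
      · exact fun e => (mem_erase.mp h1).1 (hinj e)
      · exact fun e => (mem_erase.mp h2).1 (hinj e)
    | refl i => exact EqvGen.refl _
    | symm i j _ ih => exact EqvGen.symm _ _ ih
    | trans i j k _ _ ih1 ih2 => exact EqvGen.trans _ _ _ ih1 ih2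

include hinj in
theorem cls_eq (i : ι) :
    Red.cls Om (Set.range K) (K i) = K '' ((sys Om K hK hc).cla i : Finset ι) := by
  ext L
  constructor
  · rintro ⟨⟨j, rfl⟩, h⟩
    exact ⟨j, by rw [mem_coe, Sys.mem_cla]; exact (app_iff hK hc hinj).mp h, rfl⟩
  · rintro ⟨j, hj, rfl⟩
    rw [mem_coe, Sys.mem_cla] at hj
    exact ⟨⟨j, rfl⟩, (app_iff hK hc hinj).mpr hj⟩

include hinj in
theorem TT_eq (i : ι) :
    Red.TT Om (Set.range K) (K i) = OmA Om K ((sys Om K hK hc).cla i) := by
  ext L
  constructor
  · rintro ⟨h1, h2⟩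
    refine ⟨h1, fun k hk => h2 (K k) ⟨⟨k, rfl⟩, fun h' => hk ?_⟩⟩
    rw [Sys.mem_cla]
    exact (app_iff hK hc hinj).mp h'.2
  · rintro ⟨h1, h2⟩
    refine ⟨h1, ?_⟩
    rintro _ ⟨⟨k, rfl⟩, hk⟩
    refine h2 k (fun h' => hk ⟨⟨k, rfl⟩, ?_⟩)
    rw [Sys.mem_cla] at h'
    exact (app_iff hK hc hinj).mpr h'

end Bridge

/-- the alternatives for a block `{i, j}` with two members -/
def TwoAlt (Om : Set (Subgroup G)) (K : ι → Subgroup G) (i j : ι) : Prop :=
  (∀ x ∈ YA Om K {i, j}, x * (zz (K i) * zz (K j)) = zz (K i) * zz (K j) * x) ∨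
    Red.ConG (OmA Om K {i, j})

variable [Finite G]

/-- **frames with four members**: type determination -/
theorem four_KL [IsSimpleGroup G] (h : Hyp Om) (hone : ∀ K ∈ Om, ∀ L ∈ Om, ∃ g, cj g K = L)
    (hcm : ∀ S : Sylow 2 G, ∀ K ∈ OmS Om (S : Subgroup G), ∀ L ∈ OmS Om (S : Subgroup G),
      K ≠ L → cm K L) (hna : ∀ K ∈ Om, ¬ cm K K) (S : Sylow 2 G)
    (hconn : ∀ C : Set (Subgroup G), C ⊆ Om → C.Nonempty →
      (∀ K ∈ C, ∀ L ∈ Om, cm K L → L ∈ C) → C = Om)
    (hK : ∀ i, K i ∈ Om) (hc : ∀ i j, i ≠ j → cm (K i) (K j)) (hinj : Function.Injective K)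
    (hrange : Set.range K = OmS Om (S : Subgroup G)) (h4 : Fintype.card ι = 4)
    (hzz : ∀ i j, zz (K i) = zz (K j) → i = j)
    (hk : ∀ k i : ι, i ≠ k → (data Om K hK hc).Kinds ((data Om K hK hc).blk (univ.erase k) i))
    (halt : ∀ k i j : ι, i ≠ j → (data Om K hK hc).blk (univ.erase k) i = {i, j} → TwoAlt Om K i j)
    (k : ι) : (data Om K hK hc).KL (univ.erase k) := by
  refine Data.four h4 hk ?_ k
  by_contra hcon
  push Not at hcon
  obtain ⟨i, j, hij⟩ := hcon
  have hfr := frames_of h hone hcm hna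
  have hcard : (OmS Om (S : Subgroup G)).ncard = 4 := by
    rw [← hrange, ← Set.image_univ, Set.ncard_image_of_injective _ hinj, Set.ncard_univ,
      Nat.card_eq_fintype_card, h4]
  refine Red.false_of_four h hfr S hconn hcard ?_ ?_ ?_
  · rw [← hrange]
    rintro _ ⟨a, rfl⟩ _ ⟨b, rfl⟩ hab
    rw [hzz a b hab]
  · rw [← hrange]
    intro L L' hLL' hcls
    have hL : L ∈ Red.cls Om (Set.range K) L := by rw [hcls]; exact Or.inl rfl
    have hL' : L' ∈ Red.cls Om (Set.range K) L := by rw [hcls]; exact Or.inr rfl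
    obtain ⟨a, rfl⟩ := hL.1
    obtain ⟨b, rfl⟩ := hL'.1
    have hab : a ≠ b := fun e => hLL' (by rw [e])
    have happ : (sys Om K hK hc).app a b := (Bridge.app_iff hK hc hinj).mp hL'.2
    have hcla : (sys Om K hK hc).cla a = {a, b} := by
      have h1 := Bridge.cls_eq hK hc hinj a
      rw [hcls] at h1
      have h2 : K '' (((sys Om K hK hc).cla a : Finset ι) : Set ι) = K '' ({a, b} : Set ι) := by
        rw [← h1, Set.image_pair]
      have h3 := (Set.image_injective.mpr hinj) h2
      apply Finset.coe_injective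
      rw [h3]
      simp
    -- a point outside
    obtain ⟨c, hca⟩ : ∃ c, ¬ (sys Om K hK hc).app a c := by
      by_contra hcon
      push Not at hcon
      exact hij (Sys.app_trans _ (Sys.app_symm _ (hcon i)) (hcon j))
    have hblk : (data Om K hK hc).blk (univ.erase c) a = {a, b} := by
      rw [← hcla]
      exact Sys.blk_eq_cla _ hca
    have hT : Red.TT Om (Set.range K) (K a) = OmA Om K {a, b} := by
      rw [Bridge.TT_eq hK hc hinj, hcla]
    rcases halt c a b hab hblk with h5 | h5
    · left
      rw [hT]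
      intro Z hZ x hx
      exact h5 x (le_YA hZ hx)
    · right
      rw [hT]
      exact h5
  · refine ⟨K i, ?_, K j, ?_, ?_⟩
    · rw [← hrange]; exact ⟨i, rfl⟩
    · rw [← hrange]; exact ⟨j, rfl⟩
    · rw [← hrange, Bridge.app_iff hK hc hinj]
      exact hij

end Cfsg.Agent.Cit.TypeDet
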