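import Cfsg.Agent.Cit.TypeDet.KindsBC
import Cfsg.Agent.Cit.TypeDet.KindsD
import Cfsg.Agent.Cit.TypeDet.KindsEF
import Cfsg.Agent.Nodes.RKindsA

/-!
# The typed kind of the frames of charts, all types

`kt_A` : type `A n`; **`kt`** : `c.IsTy τ ⟹ (data (OmIn Om L) K hK hc).KT τ univ` for every type `τ` and every maximal
commuting family `K` of members of `OmIn Om L`; `kinds`; `exists_max` : every commuting family is contained in a maximal
one.
-/

set_option autoImplicit false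
set_option linter.unusedSectionVars false

namespace Cfsg.Agent.Cit.TypeDet.KindsAll

open Finset Classical
open Cfsg.Agent.Nodes.Chart Cfsg.Agent.Nodes.TyStd
  Cfsg.Agent.Nodes Cfsg.Agent.ChevalleyStructure.CoxeterGeom Cfsg.Agent.Tits.Roots

variable {G : Type*} [Group G] [Finite G] {Om : Set (Subgroup G)} {p : ℕ} {L : Subgroup G} {κ : Type*}
  [Fintype κ] {K : κ → Subgroup G}

/-- Charts of type `A n`. -/
theorem kt_A (hyp : Hyp Om) (c : Chart Om p L) {n : ℕ} (h : c.IsTy (.A n)) (hK : ∀ i, K i ∈ OmIn Om L)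
    (hc : ∀ i j, i ≠ j → cm (K i) (K j)) (hmax : ∀ L' ∈ OmIn Om L, ∃ k, ¬ cm L' (K k)) :
    (data (OmIn Om L) K hK hc).KT (.A n) univ := by
  let cs' : CoxeterSystem (Ty.A n).M (Ty.A n).M.Group := (Ty.A n).M.toCoxeterSystem
  have hf : Finite (Ty.A n).M.Group := finite_of_isTy c h cs'
  let _ : Fintype (Ty.A n).M.Group := Fintype.ofFinite _
  have F : KindBase.FrameSys cs' (Ty.A n).isCartan {x | IsRoot cs' (Ty.A n).isCartan x} (KindA.g n) :=
    KindA.frameSys cs' (Ty.A n).isCartan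
  have T : ∀ r ∈ {x | IsRoot cs' (Ty.A n).isCartan x}, ∀ s ∈ {x | IsRoot cs' (Ty.A n).isCartan x},
      ∃ w, s = rep cs' (Ty.A n).isCartan w r := by
    intro r hr s hs
    obtain ⟨w, hw⟩ := KindA.trans cs' (Ty.A n).isCartan hr hs
    exact ⟨w, hw.symm⟩
  obtain ⟨e, hM, hA, hR, h1⟩ := exists_chart_of_isTy c h (W' := (Ty.A n).M.Group) cs'
    (R' := {x | IsRoot cs' (Ty.A n).isCartan x}) F.root F.act
    (fun i => ⟨fun _ => trivial, fun _ => isRoot_sr _ _ i⟩) T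
  let c' := reindex c e hM hA cs' (Ty.A n).isCartan F.root F.act hR T
  have FS : KindBase.FrameSys c'.cs c'.h c'.R (KindA.g n) := F
  have hcard : (univ : Finset κ).card = (n + 1) / 2 := by
    rw [card_univ, KindsOf.card_eq hyp c' FS hK hc hmax, Fintype.card_fin]
  refine ⟨hcard, fun h3 => ?_⟩
  rw [hcard] at h3
  exact KindsOf.kl hyp c' FS hK hc hmax (KindA.rkl cs' (Ty.A n).isCartan (by omega))

/-- **The typed kind of the frames of a chart.** -/
theorem kt (hyp : Hyp Om) (c : Chart Om p L) {τ : Ty} (h : c.IsTy τ) (hK : ∀ i, K i ∈ OmIn Om L)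
    (hc : ∀ i j, i ≠ j → cm (K i) (K j)) (hmax : ∀ L' ∈ OmIn Om L, ∃ k, ¬ cm L' (K k)) :
    (data (OmIn Om L) K hK hc).KT τ univ := by
  cases τ with
  | A n => exact kt_A hyp c h hK hc hmax
  | B n => exact KindsBC.kt_B hyp c h hK hc hmax
  | C n => exact KindsBC.kt_C hyp c h hK hc hmax
  | D n => exact KindsD.kt_D hyp c h hK hc hmax
  | E6 => exact KindsEF.kt_E6 hyp c hK hc hmax h
  | E7 => exact KindsEF.kt_E7 hyp c hK hc hmax h
  | E8 => exact KindsEF.kt_E8 hyp c hK hc hmax h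
  | F4 => exact KindsEF.kt_F4 hyp c hK hc hmax h
  | G2 => exact KindsEF.kt_G2 hyp c hK hc hmax h

theorem kinds (hyp : Hyp Om) (c : Chart Om p L) {τ : Ty} (h : c.IsTy τ) (hK : ∀ i, K i ∈ OmIn Om L)
    (hc : ∀ i j, i ≠ j → cm (K i) (K j)) (hmax : ∀ L' ∈ OmIn Om L, ∃ k, ¬ cm L' (K k)) :
    (data (OmIn Om L) K hK hc).Kinds univ := by
  refine (kt hyp c h hK hc hmax).kinds ?_
  obtain ⟨r, hr⟩ := c.Rne
  obtain ⟨k, -⟩ := hmax (c.Z r ⊔ c.Z (-r)) ⟨c.om r hr, StdConn.K_le c hr⟩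
  exact ⟨k, mem_univ k⟩

end Cfsg.Agent.Cit.TypeDet.KindsAll
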