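import Cfsg.Agent.Cit.TypeDet.Piece
import Cfsg.Agent.Cit.TypeDet.Typed
import Cfsg.Agent.Nodes.Frame
import Cfsg.Agent.Nodes.KindBase

/-!
# Standard frames of a chart

`c : Chart Om p D` with a maximal frame `g` of orthogonal classical roots (`FrameSys`): every maximal commuting
family `K : κ → Subgroup G` in `OmIn Om D` is conjugate in `D` to the standard frame `Z (g k) ⊔ Z (-g k)`
(`exists_std`); the data of `K` and of the standard frame are isomorphic (`hom_cj`), so it is enough to know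
the kind of the standard frame (`kinds_of_std`).
-/

set_option autoImplicit false
set_option linter.unusedSectionVars false

namespace Cfsg.Agent.Cit.TypeDet

open Subgroup Finset Classical Relation

/-! ### Transport of the data of a frame -/

section HomCj

variable {G : Type*} [Group G] {ι κ : Type*} {Om Om' : Set (Subgroup G)} {K : κ → Subgroup G}
  {K' : ι → Subgroup G}

theorem cj_mem_OmA_equiv {g : G} (hO : ∀ L, cj g L ∈ Om' ↔ L ∈ Om) {σ : κ ≃ ι}
    (hσ : ∀ i, cj g (K i) = K' (σ i)) {A : Finset κ} {L : Subgroup G} :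
    cj g L ∈ OmA Om' K' (A.map σ.toEmbedding) ↔ L ∈ OmA Om K A := by
  have hm : ∀ k, σ k ∈ A.map σ.toEmbedding ↔ k ∈ A := fun k => Data.mem_map_emb σ.toEmbedding
  constructor
  · rintro ⟨h1, h2⟩
    refine ⟨(hO L).mp h1, fun k hk => ?_⟩
    have h3 := h2 (σ k) (fun h => hk ((hm k).mp h))
    rw [← hσ k, cm_cj] at h3
    exact h3
  · rintro ⟨h1, h2⟩
    refine ⟨(hO L).mpr h1, fun k hk => ?_⟩
    obtain ⟨k, rfl⟩ := σ.surjective k
    rw [← hσ k, cm_cj]
    exact h2 k (fun h => hk ((hm k).mpr h))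

theorem YA_map_equiv {g : G} (hO : ∀ L, cj g L ∈ Om' ↔ L ∈ Om) {σ : κ ≃ ι}
    (hσ : ∀ i, cj g (K i) = K' (σ i)) (A : Finset κ) :
    YA Om' K' (A.map σ.toEmbedding) = cj g (YA Om K A) := by
  apply le_antisymm
  · refine sSup_le fun L hL => ?_
    rw [← cj_cj_inv g L]
    refine cj_mono g (le_YA ?_)
    rw [← cj_mem_OmA_equiv hO hσ, cj_cj_inv]
    exact hL
  · rw [← cj_le_cj (g := g⁻¹), cj_inv_cj]
    refine sSup_le fun L hL => ?_
    rw [← cj_inv_cj g L]
    exact cj_mono g⁻¹ (le_YA ((cj_mem_OmA_equiv hO hσ).mpr hL))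

/-- **Conjugate frames have isomorphic data.** -/
theorem hom_cj [Fintype ι] [Fintype κ] (hK : ∀ i, K i ∈ Om) (hc : ∀ i j, i ≠ j → cm (K i) (K j))
    (hK' : ∀ i, K' i ∈ Om') (hc' : ∀ i j, i ≠ j → cm (K' i) (K' j)) {g : G} (hO : ∀ L, cj g L ∈ Om' ↔ L ∈ Om) {σ : κ ≃ ι}
    (hσ : ∀ i, cj g (K i) = K' (σ i)) (hz : ∀ i, zz (cj g (K i)) = g * zz (K i) * g⁻¹) :
    Data.Hom (data Om K hK hc) (data Om' K' hK' hc') σ.toEmbedding := by
  have hσ' : ∀ i, cj g⁻¹ (K' (σ i)) = K i := fun i => by rw [← hσ, cj_inv_cj]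
  have hz' : ∀ i, zz (K' (σ i)) = g * zz (K i) * g⁻¹ := fun i => by rw [← hσ i, hz]
  have hm : ∀ (A : Finset κ) k, σ k ∈ A.map σ.toEmbedding ↔ k ∈ A :=
    fun A k => Data.mem_map_emb σ.toEmbedding
  have hY := YA_map_equiv (K := K) (K' := K') hO hσ
  refine ⟨?_, ?_, ?_, ?_, ?_⟩
  · intro A i j
    constructor
    · rintro ⟨h1, h2, h3⟩
      refine ⟨(hm A i).mp h1, (hm A j).mp h2, ?_⟩
      have h3' : chn (OmA Om' K' (A.map σ.toEmbedding)) (K' (σ i)) (K' (σ j)) := h3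
      have := chn_cj (g := g⁻¹) (T' := OmA Om K A) (fun L hL => by
        rw [← cj_mem_OmA_equiv hO hσ, cj_cj_inv]; exact hL) h3'
      rwa [hσ', hσ'] at this
    · rintro ⟨h1, h2, h3⟩
      refine ⟨(hm A i).mpr h1, (hm A j).mpr h2, ?_⟩
      have := chn_cj (g := g) (T' := OmA Om' K' (A.map σ.toEmbedding))
        (fun L hL => (cj_mem_OmA_equiv hO hσ).mpr hL) h3
      rw [hσ, hσ] at this
      exact this
  · intro a b c d
    change zz (K' (σ a)) * zz (K' (σ b)) * zz (K' (σ c)) * zz (K' (σ d)) = 1 ↔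
      zz (K a) * zz (K b) * zz (K c) * zz (K d) = 1
    rw [hz', hz', hz', hz']
    have : g * zz (K a) * g⁻¹ * (g * zz (K b) * g⁻¹) * (g * zz (K c) * g⁻¹) *
        (g * zz (K d) * g⁻¹) = g * (zz (K a) * zz (K b) * zz (K c) * zz (K d)) * g⁻¹ := by group
    rw [this, conj_eq_one_iff]
  · intro a b
    change zz (K' (σ a)) = zz (K' (σ b)) ↔ zz (K a) = zz (K b)
    rw [hz', hz']
    constructor
    · intro h; exact mul_left_cancel (mul_right_cancel h)
    · intro h; rw [h]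
  · intro a
    change (∀ L ∈ OmA Om' K' {σ a}, L = K' (σ a)) ↔ ∀ L ∈ OmA Om K {a}, L = K a
    have hs : ({σ a} : Finset ι) = ({a} : Finset κ).map σ.toEmbedding := by simp
    rw [hs]
    constructor
    · intro h L hL
      have := h (cj g L) ((cj_mem_OmA_equiv hO hσ).mpr hL)
      rw [← hσ] at this
      exact cj_injective' g this
    · intro h L hL
      have := h (cj g⁻¹ L) (by rw [← cj_mem_OmA_equiv hO hσ, cj_cj_inv]; exact hL)
      rw [← hσ, ← this, cj_cj_inv]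
  · intro A k
    change (∀ x ∈ YA Om' K' (A.map σ.toEmbedding), x * zz (K' (σ k)) = zz (K' (σ k)) * x) ↔
      ∀ x ∈ YA Om K A, x * zz (K k) = zz (K k) * x
    rw [hY, hz']
    constructor
    · intro h x hx
      exact conj_comm_iff.mp (h _ (conj_mem_cj hx))
    · intro h x hx
      rw [mem_cj] at hx
      have h1 := (conj_comm_iff (g := g)).mpr (h _ hx)
      have h2 : g * (g⁻¹ * x * g) * g⁻¹ = x := by group
      rwa [h2] at h1

end HomCj

/-! ### Standard frames -/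

section Std

open CoxeterSystem Cfsg.Agent.ChevalleyStructure.CoxeterGeom Cfsg.Agent.Tits.Roots
  Cfsg.Agent.Tits.RootComb Cfsg.Agent.Nodes.Chart Cfsg.Agent.Nodes.RGDLib Cfsg.Agent.Nodes.KindBase
  Cfsg.Agent.Nodes.Coroot

/-- `⟨Z r, Z (-r)⟩` -/
def kz {I Y : Type*} [Group Y] (Z : (I → ℤ) → Subgroup Y) (r : I → ℤ) : Subgroup Y := Z r ⊔ Z (-r)

theorem kz_neg {I Y : Type*} [Group Y] (Z : (I → ℤ) → Subgroup Y) (r : I → ℤ) : kz Z (-r) = kz Z r := by
  rw [kz, kz, neg_neg, sup_comm]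

section Cls

variable {I W Y : Type*} [Fintype I] [DecidableEq I] [Group W] [Fintype W] [Group Y] {M : CoxeterMatrix I}
  {cs : CoxeterSystem M W} {A : I → I → ℤ} {h : IsCartan M A} {p : ℕ} {T : Subgroup Y} {n : I → Y}
  {X : (I → ℤ) → Subgroup Y} {R : Set (I → ℤ)} {Z : (I → ℤ) → Subgroup Y} {z : (I → ℤ) → Y}
  (C : Cls cs h p T n X R Z z)

include C

/-- orthogonal classical groups commute -/
theorem cm_kz {r s : I → ℤ} (hr : r ∈ R) (hs : s ∈ R) (ho : form cs h r s = 0) :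
    cm (kz Z r) (kz Z s) := by
  have hr' := Cfsg.Agent.Nodes.ClsNorm.neg_mem C hr
  have hs' := Cfsg.Agent.Nodes.ClsNorm.neg_mem C hs
  have key : ∀ r ∈ R, ∀ s ∈ R, form cs h r s = 0 → cm (Z r) (Z s) := fun r hr s hs h0 a ha b hb =>
    C.cent s hs r (C.root r hr) h0.ge a (C.le r hr ha) b hb
  rw [kz, kz, cm_iff_le_centralizer, sup_le_iff]
  have k2 : ∀ r ∈ R, form cs h r s = 0 → cm (Z r) (Z s ⊔ Z (-s)) := by
    intro r hr h0
    rw [cm_comm, cm_iff_le_centralizer, sup_le_iff, ← cm_iff_le_centralizer, ← cm_iff_le_centralizer]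
    exact ⟨cm_symm (key r hr s hs h0), cm_symm (key r hr _ hs' (by rw [form_neg_right, h0, neg_zero]))⟩
  rw [← cm_iff_le_centralizer, ← cm_iff_le_centralizer]
  exact ⟨k2 r hr ho, k2 _ hr' (by rw [form_neg_left, ho, neg_zero])⟩

/-- conjugation of the classical groups by the elements of `N` -/
theorem cj_kz {w : W} {g : Y} (hg : Cfsg.Agent.Nodes.Reps.Rp cs C.rgd.nsys w g) {r : I → ℤ} (hr : r ∈ R) :
    cj g (kz Z r) = kz Z (rep cs h w r) := by
  have e1 : cj g (Z r) = Z (rep cs h w r) := Cfsg.Agent.Nodes.ClsNorm.conj_Z C hg hr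
  have e2 : cj g (Z (-r)) = Z (rep cs h w (-r)) :=
    Cfsg.Agent.Nodes.ClsNorm.conj_Z C hg (Cfsg.Agent.Nodes.ClsNorm.neg_mem C hr)
  rw [kz, cj_sup, e1, e2, map_neg, kz]

end Cls

variable {G : Type*} [Group G] {Om : Set (Subgroup G)} {p : ℕ} {D : Subgroup G}

theorem Chart_GG_eq (c : Chart Om p D) : Cfsg.Agent.Nodes.Bruhat.GG c.cs c.h c.T c.X = D := by
  have h1 : Cfsg.Agent.Nodes.Bruhat.GG c.cs c.h c.T c.X = c.T ⊔ G1 c.cs c.h c.X := rfl
  rw [h1, c.gen]
  exact sup_eq_right.2 c.T_le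

/-- the classical groups of a chart are members of `Om` contained in `D` -/
theorem kz_mem (c : Chart Om p D) {r : c.I → ℤ} (hr : r ∈ c.R) : kz c.Z r ∈ OmIn Om D := by
  refine ⟨c.om r hr, ?_⟩
  have hr' := Cfsg.Agent.Nodes.ClsNorm.neg_mem c.cls hr
  have h1 : ∀ s ∈ c.R, c.Z s ≤ D := fun s hs =>
    le_trans (le_trans (c.cls.le s hs) (X_le_G1 (c.cls.root s hs))) c.gen.le
  exact sup_le (h1 r hr) (h1 _ hr')

/-- **Every maximal commuting family of members of `Om` in `D` is conjugate to the standard frame.** -/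
theorem exists_std (c : Chart Om p D) {ι κ : Type*} [Finite ι] [Finite κ] {g : ι → c.I → ℤ}
    (F : FrameSys c.cs c.h c.R g) (hO : ∀ L ∈ Om, ∀ d ∈ D, cj d L ∈ Om) (K : κ → Subgroup G)
    (hK : ∀ i, K i ∈ OmIn Om D) (hc : ∀ i j, i ≠ j → cm (K i) (K j))
    (hmax : ∀ L ∈ OmIn Om D, ∃ i, ¬ cm L (K i)) :
    ∃ d ∈ D, ∃ σ : κ ≃ ι, ∀ i, cj d (K i) = kz c.Z (g (σ i)) := by
  obtain ⟨m, ⟨e⟩⟩ := Finite.exists_equiv_fin κ
  have C := c.cls
  have hGG := Chart_GG_eq c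
  -- the members as conjugates of classical groups
  have h1 : ∀ i, ∃ r ∈ c.R, ∃ x ∈ D, K i = cj x (kz c.Z r) := by
    intro i
    obtain ⟨r, hr, x, hx, hrx⟩ := c.om_conj (K i) (hK i).1 (hK i).2
    exact ⟨r, hr, x, hx, hrx⟩
  choose r hr x hx hKx using h1
  have hcls : ∀ i, ∀ s ∈ c.R, Cfsg.Agent.Nodes.Frame.IsCls c.cs c.h c.T c.X c.R c.Z (cj (x i) (c.Z s)) :=
    fun i s hs => ⟨s, hs, x i, by rw [hGG]; exact hx i, rfl⟩
  have hKi : ∀ i, K i = cj (x i) (c.Z (r i)) ⊔ cj (x i) (c.Z (-r i)) := fun i => by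
    rw [hKx i, kz, cj_sup]
  obtain ⟨d, hd, s, hs, e1, e2, ho⟩ := Cfsg.Agent.Nodes.Frame.frame m C
    (fun i => cj (x (e.symm i)) (c.Z (r (e.symm i)))) (fun i => cj (x (e.symm i)) (c.Z (-r (e.symm i))))
    (fun i => hcls _ _ (hr _)) (fun i => hcls _ _ (Cfsg.Agent.Nodes.ClsNorm.neg_mem C (hr _)))
    (fun i hp => by
      apply C.notp _ (hr (e.symm i))
      have h2 : IsPGroup p ↥(K (e.symm i)) := by rw [hKi]; exact hp
      rw [hKx] at h2
      have h3 : IsPGroup p ↥(kz c.Z (r (e.symm i))) :=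
        h2.of_equiv ((kz c.Z (r (e.symm i))).equivMapOfInjective (MulAut.conj (x (e.symm i))).toMonoidHom
          (MulAut.conj (x (e.symm i))).injective).symm
      exact h3)
    (fun i j hij => by
      have h2 := hc (e.symm i) (e.symm j) (fun h => hij (e.symm.injective h))
      rw [hKi, hKi (e.symm j)] at h2
      exact h2)
  rw [hGG] at hd
  -- move the roots into the frame
  obtain ⟨w, f, hf⟩ := F.exists_move s hs (fun i j hij => by
    rw [cpr_zero_iff c.cs c.h _ (C.root _ (hs j))]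
    exact ho i j hij)
  obtain ⟨k, hk⟩ := Cfsg.Agent.Nodes.Reps.exists_rp c.cs C.rgd.nsys w
  have hkD : k ∈ D := by
    rw [← hGG]
    exact Cfsg.Agent.Nodes.Bruhat.NN_le_GG C.rgd ⟨w, hk⟩
  have hKd : ∀ i, cj (k * d) (K i) = kz c.Z (g (f (e i))) := by
    intro i
    have e1' := e1 (e i)
    have e2' := e2 (e i)
    rw [Equiv.symm_apply_apply] at e1' e2'
    have h2 : cj d (K i) = kz c.Z (s (e i)) := by
      rw [hKi, cj_sup]
      exact congrArg₂ (· ⊔ ·) e1' e2'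
    rw [cj_mul, h2, cj_kz C hk (hs _), hf]
  have hkd : k * d ∈ D := mul_mem hkD hd
  have hfinj : Function.Injective f := by
    intro i j hij
    by_contra hne
    have h2 := hf i
    rw [hij, ← hf j] at h2
    have h3 : s i = s j := rep_injective_apply c.cs c.h w h2
    have h4 := ho i j hne
    rw [h3] at h4
    exact (form_pos c.cs c.h (C.root _ (hs j)).ne_zero).ne' h4
  have hfsurj : Function.Surjective f := by
    intro l
    by_contra hcon
    push Not at hcon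
    have hL : cj (k * d)⁻¹ (kz c.Z (g l)) ∈ OmIn Om D := by
      have h2 := kz_mem c (F.mem l)
      refine ⟨hO _ h2.1 _ (inv_mem hkd), ?_⟩
      intro y hy
      rw [mem_cj, inv_inv] at hy
      have h3 := h2.2 hy
      have h4 : y = (k * d)⁻¹ * (k * d * y * (k * d)⁻¹) * (k * d) := by group
      rw [h4]
      exact mul_mem (mul_mem (inv_mem hkd) h3) hkd
    obtain ⟨i, hi⟩ := hmax _ hL
    apply hi
    rw [← cm_cj (g := k * d), cj_cj_inv, hKd]
    refine cm_kz C (F.mem l) (F.mem _) ?_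
    rw [← cpr_zero_iff c.cs c.h _ (C.root _ (F.mem _))]
    exact F.orth _ _ (fun h => hcon (e i) h.symm)
  refine ⟨k * d, hkd, e.trans (Equiv.ofBijective f ⟨hfinj, hfsurj⟩), fun i => ?_⟩
  rw [hKd]
  rfl

/-- **It is enough to know the kind of the standard frame.** -/
theorem kt_of_std (c : Chart Om p D) {ι κ : Type*} [Fintype ι] [Fintype κ] {g : ι → c.I → ℤ}
    (F : FrameSys c.cs c.h c.R g) (hO : ∀ L ∈ Om, ∀ d, cj d L ∈ Om)
    (hzz : ∀ L ∈ Om, ∀ d, zz (cj d L) = d * zz L * d⁻¹) (K : κ → Subgroup G)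
    (hK : ∀ i, K i ∈ OmIn Om D) (hc : ∀ i j, i ≠ j → cm (K i) (K j))
    (hmax : ∀ L ∈ OmIn Om D, ∃ i, ¬ cm L (K i)) (τ : Ty)
    (h : ∀ (hK' : ∀ i, kz c.Z (g i) ∈ OmIn Om D) (hc' : ∀ i j, i ≠ j → cm (kz c.Z (g i)) (kz c.Z (g j))),
      (data (OmIn Om D) (fun i => kz c.Z (g i)) hK' hc').KT τ univ) :
    (data (OmIn Om D) K hK hc).KT τ univ := by
  obtain ⟨d, hd, σ, hσ⟩ := exists_std c F (fun L hL d _ => hO L hL d) K hK hc hmax
  have hK' : ∀ i, kz c.Z (g i) ∈ OmIn Om D := fun i => kz_mem c (F.mem i)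
  have hc' : ∀ i j, i ≠ j → cm (kz c.Z (g i)) (kz c.Z (g j)) := fun i j hij =>
    cm_kz c.cls (F.mem i) (F.mem j)
      ((cpr_zero_iff c.cs c.h _ (c.cls.root _ (F.mem _))).1 (F.orth _ _ hij))
  have hσ' : ∀ i, cj d⁻¹ (kz c.Z (g i)) = K (σ.symm i) := fun i => by
    have h1 := hσ (σ.symm i)
    rw [Equiv.apply_symm_apply] at h1
    rw [← h1, cj_inv_cj]
  have hOd : ∀ L, cj d⁻¹ L ∈ OmIn Om D ↔ L ∈ OmIn Om D := by
    have key : ∀ d ∈ D, ∀ L ∈ OmIn Om D, cj d L ∈ OmIn Om D := by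
      intro d hd L hL
      refine ⟨hO L hL.1 d, ?_⟩
      intro y hy
      rw [mem_cj] at hy
      have h3 := hL.2 hy
      have h4 : y = d * (d⁻¹ * y * d) * d⁻¹ := by group
      rw [h4]
      exact mul_mem (mul_mem hd h3) (inv_mem hd)
    intro L
    constructor
    · intro hL
      have := key d hd _ hL
      rwa [cj_cj_inv] at this
    · exact key _ (inv_mem hd) L
  have hh := hom_cj (Om := OmIn Om D) (Om' := OmIn Om D) (K := fun i => kz c.Z (g i)) (K' := K)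
    hK' hc' hK hc (g := d⁻¹) hOd (σ := σ.symm) hσ' (fun i => hzz _ (hK' i).1 _)
  have := Data.KT.map hh (h hK' hc')
  rwa [Finset.map_univ_equiv] at this

end Std

end Cfsg.Agent.Cit.TypeDet
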