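import Cfsg.Agent.Cit.TypeDet.FourMain
import Cfsg.Agent.Cit.TypeDet.Typed

/-!
# Frames with four members: the dichotomy

`K : ι → Subgroup G` a frame with four members, all `F - k` of kind `KL` (output of `four_KL`).  For `a ≠ b` let
`t = z_a z_b` and `OmC t = {L ∈ Om | L ≤ C(t)}`.

`dich` : either for all `a ≠ b` the class of `K_a` in `OmC t` contains no further `K_c` (then `C_4`, `A_7`, `A_8`),
or for some `a ≠ b` the whole frame is one class of `OmC t`, of kind `KO` with `p a = b` (then `F_4`, `E_6`).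
-/

set_option autoImplicit false
set_option linter.unusedSectionVars false
set_option linter.unusedVariables false

namespace Cfsg.Agent.Cit.TypeDet

open Subgroup Finset Classical Relation

variable {G : Type*} [Group G] {ι : Type*} [Fintype ι] {Om : Set (Subgroup G)} {K : ι → Subgroup G}

/-- the members of `Om` centralising `t` -/
def OmC (Om : Set (Subgroup G)) (t : G) : Set (Subgroup G) := {L | L ∈ Om ∧ ∀ x ∈ L, x * t = t * x}

theorem OmC_sub {t : G} : OmC Om t ⊆ Om := fun _ h => h.1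

theorem OmA_OmC {t : G} {A : Finset ι} {L : Subgroup G} :
    L ∈ OmA (OmC Om t) K A ↔ L ∈ OmA Om K A ∧ ∀ x ∈ L, x * t = t * x :=
  ⟨fun h => ⟨⟨h.1.1, h.2⟩, h.1.2⟩, fun h => ⟨⟨h.1.1, h.2⟩, h.1.2⟩⟩

theorem mem_OmC_mul {a b : ι} (hK : ∀ i, K i ∈ Om) (hc : ∀ i j, i ≠ j → cm (K i) (K j))
    (hzc : ∀ i, ∀ x ∈ K i, x * zz (K i) = zz (K i) * x) (i : ι) :
    K i ∈ OmC Om (zz (K a) * zz (K b)) := by
  refine ⟨hK i, fun x hx => ?_⟩
  have key : ∀ j, x * zz (K j) = zz (K j) * x := by
    intro j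
    by_cases hij : i = j
    · subst hij; exact hzc i x hx
    · exact hc i j hij x hx _ (zz_mem' _)
  rw [← mul_assoc, key a, mul_assoc, key b, mul_assoc]

/-- the hypotheses -/
structure DichHyp (Om : Set (Subgroup G)) (K : ι → Subgroup G) : Prop where
  mem : ∀ i, K i ∈ Om
  comm : ∀ i j, i ≠ j → cm (K i) (K j)
  max : ∀ L ∈ Om, ∃ i, ¬ cm L (K i)
  z_sq : ∀ i, zz (K i) * zz (K i) = 1
  z_cen : ∀ i, ∀ x ∈ K i, x * zz (K i) = zz (K i) * x
  /-- `(F4)` -/
  f4 : ∀ i, ∀ L ∈ Om, (∀ x ∈ L, x * zz (K i) = zz (K i) * x) → L = K i ∨ cm L (K i)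

namespace DichHyp

variable (H : DichHyp Om K)

include H

theorem memC (a b i : ι) : K i ∈ OmC Om (zz (K a) * zz (K b)) := mem_OmC_mul H.mem H.comm H.z_cen i

/-- the data of the frame in `C(z_a z_b)` -/
noncomputable def dt (a b : ι) : Data ι G := data (OmC Om (zz (K a) * zz (K b))) K (H.memC a b) H.comm

/-- the data of the frame in `G` -/
noncomputable def d0 : Data ι G := data Om K H.mem H.comm

theorem z_comm (a b : ι) : zz (K a) * zz (K b) = zz (K b) * zz (K a) := by
  by_cases h : a = b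
  · rw [h]
  · exact H.comm a b h _ (zz_mem' _) _ (zz_mem' _)

/-- a member centralising `z_a z_b` and `z_b` centralises `z_a` -/
theorem cen_left {a b : ι} {x : G} (h : x * (zz (K a) * zz (K b)) = zz (K a) * zz (K b) * x)
    (hb : x * zz (K b) = zz (K b) * x) : x * zz (K a) = zz (K a) * x := by
  have e : zz (K a) = (zz (K a) * zz (K b)) * zz (K b) := by rw [mul_assoc, H.z_sq, mul_one]
  rw [e, ← mul_assoc, h, mul_assoc, hb, mul_assoc, mul_assoc, mul_assoc]

/-- a class of `OmC (z_a z_b)` containing `K_a` and another `K_c` contains `K_b` -/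
theorem chn_partner {a b c : ι} (hab : a ≠ b) (hca : c ≠ a)
    (h : chn (OmC Om (zz (K a) * zz (K b))) (K a) (K c)) :
    chn (OmC Om (zz (K a) * zz (K b))) (K a) (K b) := by
  by_contra hn
  -- all members of the class commute with `z_b`, so with `z_a`
  have key : ∀ L, chn (OmC Om (zz (K a) * zz (K b))) (K a) L → L = K a := by
    intro L hL
    induction hL with
    | refl => rfl
    | @tail M N h1 h2 ih =>
      subst ih
      have hN : chn (OmC Om (zz (K a) * zz (K b))) (K a) N := h1.tail h2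
      have hcN : cm N (K b) := by
        by_contra hcm
        exact hn (hN.tail ⟨h2.2.1, H.memC a b b, hcm⟩)
      have h3 : ∀ x ∈ N, x * zz (K a) = zz (K a) * x := fun x hx =>
        H.cen_left (h2.2.1.2 x hx) (hcN x hx _ (zz_mem' _))
      rcases H.f4 a N h2.2.1.1 h3 with h4 | h4
      · exact h4
      · exact absurd (cm_symm h4) h2.2.2
  have h1 : K c = K a := key _ h
  have h2 : cm (K a) (K a) := by
    have := H.comm c a hca
    rwa [h1] at this
  obtain ⟨i, hi⟩ := H.max (K a) (H.mem a)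
  by_cases hia : i = a
  · rw [hia] at hi; exact hi h2
  · exact hi (H.comm a i (Ne.symm hia))

/-- members of `OmC (z_a z_b)` commuting with `K_b` are `K_a` or commute with `K_a` -/
theorem single {a b : ι} {L : Subgroup G} (hL : L ∈ OmC Om (zz (K a) * zz (K b))) (hb : cm L (K b)) :
    L = K a ∨ cm L (K a) :=
  H.f4 a L hL.1 fun x hx => H.cen_left (hL.2 x hx) (hb x hx _ (zz_mem' _))

/-- `{a}` is a block of `A` in `C(z_a z_b)` if `b ∉ A` -/
theorem rel_single {a b j : ι} {A : Finset ι} (hbA : b ∉ A) (h : (H.dt a b).rel A a j) : K j = K a := by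
  obtain ⟨h1, h2, h3⟩ := h
  have key : ∀ L, chn (OmA (OmC Om (zz (K a) * zz (K b))) K A) (K a) L → L = K a := by
    intro L hL
    induction hL with
    | refl => rfl
    | @tail M N h4 h5 ih =>
      subst ih
      rcases H.single h5.2.1.1 (h5.2.1.2 b hbA) with h6 | h6
      · exact h6
      · exact absurd (cm_symm h6) h5.2.2
  exact key _ h3

theorem not_cm_self (a : ι) : ¬ cm (K a) (K a) := by
  intro h
  obtain ⟨i, hi⟩ := H.max (K a) (H.mem a)
  by_cases hia : i = a
  · rw [hia] at hi; exact hi h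
  · exact hi (H.comm a i (Ne.symm hia))

theorem inj {i j : ι} (h : K i = K j) : i = j := by
  by_contra hij
  have := H.comm i j hij
  rw [h] at this
  exact H.not_cm_self j this

theorem rel_single' {a b j : ι} {A : Finset ι} (hbA : b ∉ A) (h : (H.dt a b).rel A a j) : j = a :=
  H.inj (H.rel_single hbA h)

/-- blocks of the whole frame in `C(t)` and chains -/
theorem rel_univ {a b i j : ι} :
    (H.dt a b).rel univ i j ↔ chn (OmC Om (zz (K a) * zz (K b))) (K i) (K j) := by
  have e : OmA (OmC Om (zz (K a) * zz (K b))) K (univ : Finset ι) = OmC Om (zz (K a) * zz (K b)) := by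
    ext L
    exact ⟨fun h => h.1, fun h => ⟨h, fun k hk => absurd (mem_univ k) hk⟩⟩
  constructor
  · rintro ⟨-, -, h⟩
    rwa [e] at h
  · intro h
    refine ⟨mem_univ _, mem_univ _, ?_⟩
    rwa [e]

/-- connectedness of `{a, b}` is inherited by `C(t)` if `t` centralises `Y_{ab}` -/
theorem conn_pair_of_cen {a b i j : ι} (hconn : (H.d0).Conn {i, j})
    (hcen : ∀ L ∈ OmA Om K {i, j}, ∀ x ∈ L, x * (zz (K a) * zz (K b)) = zz (K a) * zz (K b) * x) :
    (H.dt a b).Conn {i, j} := by
  intro x hx y hy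
  obtain ⟨h1, h2, h3⟩ := hconn x hx y hy
  refine ⟨h1, h2, ?_⟩
  refine chn_mono ?_ h3
  intro L hL
  exact OmA_OmC.mpr ⟨hL, hcen L hL⟩

/-- **the frame is one class of `C(z_a z_b)`**: it is of kind `KO` -/
theorem exists_KO (h4 : Fintype.card ι = 4) (hKL : ∀ k, (H.d0).KL (univ.erase k)) {a b c : ι}
    (hab : a ≠ b) (hca : c ≠ a) (hcb : c ≠ b)
    (hkt : (H.dt a b).Kinds ((H.dt a b).blk univ a))
    (h : chn (OmC Om (zz (K a) * zz (K b))) (K a) (K c)) :
    (H.dt a b).blk univ a = univ ∧ ∃ p, (H.dt a b).KO univ p ∧ p a = b ∧ p b = a := by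
  set B := (H.dt a b).blk univ a with hB
  have hb := H.chn_partner hab hca h
  have haB : a ∈ B := (H.dt a b).mem_blk.mpr (H.rel_univ.mpr ReflTransGen.refl)
  have hbB : b ∈ B := (H.dt a b).mem_blk.mpr (H.rel_univ.mpr hb)
  have hcB : c ∈ B := (H.dt a b).mem_blk.mpr (H.rel_univ.mpr h)
  have h3 : 3 ≤ B.card := by
    have h5 : ({a, b, c} : Finset ι).card = 3 := by
      rw [card_eq_three]
      exact ⟨a, b, c, hab, hca.symm, hcb.symm, rfl⟩
    rw [← h5]
    refine card_le_card ?_
    intro x hx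
    simp only [mem_insert, mem_singleton] at hx
    rcases hx with rfl | rfl | rfl <;> assumption
  have hle : B.card ≤ 4 := by rw [← h4]; exact card_le_univ B
  -- `B - b` is not connected
  have hnc : ¬ (H.dt a b).Conn (B.erase b) := by
    intro hcon
    have h5 := hcon a (mem_erase.mpr ⟨hab, haB⟩) c (mem_erase.mpr ⟨hcb, hcB⟩)
    exact hca (H.rel_single' (notMem_erase b B) h5)
  rcases hkt with h1 | h1 | h1 | h1 | h1 | ⟨p, h1⟩ | ⟨p, h1⟩ | h1 | h1
  · omega
  · omega
  · exact absurd (h1.2.1 b hbB) hnc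
  · exact absurd (h1.2.1 b hbB) hnc
  · -- `D_4`
    exfalso
    obtain ⟨k1, k2, k3, -, -⟩ := h1
    have hBu : B = univ := eq_univ_of_card B (by rw [k1, h4])
    obtain ⟨d, hda, hdb, hdc⟩ := Data.exists_ne_of_three h4 a b c
    have hu : (univ : Finset ι) = {a, b, c, d} := by
      symm
      apply eq_univ_of_card
      rw [h4]
      rw [card_insert_of_notMem, card_insert_of_notMem, card_pair hdc.symm]
      · simp [hcb.symm, hdb.symm]
      · simp [hab, hca.symm, hda.symm]
    have hp := k3 a b c d (by rw [hBu, hu])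
    have hp' : zz (K a) * zz (K b) = zz (K d) * zz (K c) := by
      have h5 : zz (K a) * zz (K b) * zz (K c) * zz (K d) = 1 := hp
      have h6 : zz (K a) * zz (K b) = (zz (K a) * zz (K b) * zz (K c) * zz (K d)) * (zz (K d) * zz (K c)) := by
        calc zz (K a) * zz (K b) = zz (K a) * zz (K b) * (zz (K c) * zz (K c)) := by rw [H.z_sq, mul_one]
          _ = zz (K a) * zz (K b) * (zz (K c) * (zz (K d) * zz (K d)) * zz (K c)) := by
            rw [H.z_sq d, mul_one]
          _ = _ := by simp only [mul_assoc]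
      rw [h6, h5, one_mul]
    have hcn : (H.d0).Conn {a, b} :=
      (hKL c).2.2 a (Data.mem_er hca.symm) b (Data.mem_er hcb.symm) hab
    have hct : (H.dt a b).Conn {a, b} := by
      refine H.conn_pair_of_cen hcn ?_
      intro L hL x hx
      have hLc : cm L (K c) := hL.2 c (by simp [hca, hcb])
      have hLd : cm L (K d) := hL.2 d (by simp [hda, hdb])
      rw [hp', ← mul_assoc, hLd x hx _ (zz_mem' _), mul_assoc, hLc x hx _ (zz_mem' _), mul_assoc]
    have h6 : (H.dt a b).rel (B.erase c) a b := by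
      refine (H.dt a b).mono ?_ ?_ (hct a (by simp) b (by simp))
      · intro x hx
        simp only [mem_insert, mem_singleton] at hx
        rcases hx with rfl | rfl
        · exact mem_erase.mpr ⟨hca.symm, haB⟩
        · exact mem_erase.mpr ⟨hcb.symm, hbB⟩
      · intro e
        exact notMem_erase c B (by rw [e]; exact mem_univ _)
    exact k2 c hcB a (mem_erase.mpr ⟨hca.symm, haB⟩) b (mem_erase.mpr ⟨hcb.symm, hbB⟩) hab h6
  · -- `KO`
    have h5 : B.card = 4 := le_antisymm hle h1.1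
    have hBu : B = univ := eq_univ_of_card B (by rw [h5, h4])
    refine ⟨hBu, p, by rw [← hBu]; exact h1, ?_⟩
    obtain ⟨-, k2, k3, -, -⟩ := h1
    have hpb : p b = a := by
      by_contra hne
      obtain ⟨q1, q2, q3⟩ := k2 b hbB
      -- a third element different from `a`, `b`, `p b`
      obtain ⟨d, hda, hdb, hdp⟩ := Data.exists_ne_of_three h4 a b (p b)
      have hdB : d ∈ B := by rw [hBu]; exact mem_univ _
      have h6 : (H.dt a b).rel (B.erase b) a d := by
        rw [k3 b hbB a haB d hdB hab hdb]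
        exact ⟨fun e => absurd e.symm hne, fun e => absurd e hdp⟩
      exact hda (H.rel_single' (notMem_erase b B) h6)
    exact ⟨by rw [← hpb]; exact (k2 b hbB).2.2, hpb⟩
  · have := h1.1; omega
  · have := h1.1; omega
  · have := h1.1; omega

/-- **the dichotomy** -/
theorem dich (h4 : Fintype.card ι = 4) (hKL : ∀ k, (H.d0).KL (univ.erase k))
    (hkt : ∀ a b, a ≠ b → (H.dt a b).Kinds ((H.dt a b).blk univ a)) :
    (∀ a b c, a ≠ b → c ≠ a → c ≠ b → ¬ chn (OmC Om (zz (K a) * zz (K b))) (K a) (K c)) ∨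
      ∃ a b, a ≠ b ∧ (∀ i j, chn (OmC Om (zz (K a) * zz (K b))) (K i) (K j)) ∧
        ∃ p, (H.dt a b).KO univ p ∧ p a = b ∧ p b = a := by
  by_cases hcon : ∃ a b c, a ≠ b ∧ c ≠ a ∧ c ≠ b ∧ chn (OmC Om (zz (K a) * zz (K b))) (K a) (K c)
  · obtain ⟨a, b, c, hab, hca, hcb, h⟩ := hcon
    obtain ⟨h1, p, h2, h3⟩ := H.exists_KO h4 hKL hab hca hcb (hkt a b hab) h
    refine Or.inr ⟨a, b, hab, fun i j => ?_, p, h2, h3⟩
    have key : ∀ i, chn (OmC Om (zz (K a) * zz (K b))) (K a) (K i) := by
      intro i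
      rw [← H.rel_univ, ← (H.dt a b).mem_blk, h1]
      exact mem_univ _
    exact (chn_symm (key i)).trans (key j)
  · push Not at hcon
    exact Or.inl hcon

/-- in the second case every `K_c` is the only member of `Om` commuting with the other three -/
theorem sgl_of_KO {a b : ι} (hab : a ≠ b) (h : ∀ i j, chn (OmC Om (zz (K a) * zz (K b))) (K i) (K j)) {p : ι → ι}
    (hp : (H.dt a b).KO univ p) {c : ι} (hca : c ≠ a) (hcb : c ≠ b) : (H.d0).sgl c := by
  intro L hL
  have h1 := hp.2.2.2.2 c (mem_univ _)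
  apply h1 L
  refine OmA_OmC.mpr ⟨hL, fun x hx => ?_⟩
  have ha : cm L (K a) := hL.2 a (by simpa using hca.symm)
  have hb : cm L (K b) := hL.2 b (by simpa using hcb.symm)
  rw [← mul_assoc, ha x hx _ (zz_mem' _), mul_assoc, hb x hx _ (zz_mem' _), mul_assoc]

end DichHyp

end Cfsg.Agent.Cit.TypeDet
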