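import Cfsg.Agent.Cit.TypeDet.Blocks
import Cfsg.Agent.Cit.TyPcE

/-!
# The output of the type determination with exact pieces, `|Om(S)| ≥ 5`

`OutE f` is `TypeDet.Out f` with `ExactChart.TyPcE Om τ D` (no condition on the centre of `D`) in place of
`TypeDet.TyPc Om τ D`.
-/

set_option autoImplicit false

namespace Cfsg.Agent.Cit.TypeDet

open Subgroup Finset Classical Cfsg Cfsg.Agent.Cit.ExactChart

universe u

variable {G : Type u} [Group G] [Finite G] {Om : Set (Subgroup G)}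
  {ι : Type u} [Fintype ι] {K : ι → Subgroup G}

/-- the output of the type determination with exact pieces -/
def OutE (f : IFrm Om K) : Prop :=
  ((∀ k, f.data.KL (univ.erase k)) ∧
    ((∃ n, (n + 1) / 2 + 1 = Fintype.card ι ∧ ∀ k, TyPcE Om (.A n) (YA Om K (univ.erase k))) ∨
      ∃ n, n + 1 = Fintype.card ι ∧ ∀ k, TyPcE Om (.C n) (YA Om K (univ.erase k)))) ∨
  (Fintype.card ι = 8 ∧ ∀ k, f.data.KE7 (univ.erase k) ∧ TyPcE Om .E7 (YA Om K (univ.erase k))) ∨
  (Fintype.card ι = 7 ∧ ∀ k, (∃ p, f.data.KD (univ.erase k) p) ∧ TyPcE Om (.D 6) (YA Om K (univ.erase k))) ∨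
  (Even (Fintype.card ι) ∧ ∃ p : ι → ι, f.data.OutO p ∧
    ((∃ n, 2 * (n / 2) + 2 = Fintype.card ι ∧ ∀ k, TyPcE Om (.B n) (YA Om K ((univ.erase k).erase (p k)))) ∨
      ∃ n, 2 * (n / 2) + 2 = Fintype.card ι ∧ ∀ k, TyPcE Om (.D n) (YA Om K ((univ.erase k).erase (p k)))))

end Cfsg.Agent.Cit.TypeDet
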