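import Cfsg.Agent.Cit.TypeDet.Reduc
import Cfsg.Agent.Cit.TDef

/-!
# Type determination, `|Om(S)| ≥ 5`

`Out Om K` : the output of the type determination for the frame `K : ι → Subgroup G`, `S = f.data`, `F = univ`:

* (L) all `F - k` are of kind `KL` and are all of type `A n` (`(n + 1) / 2 + 1 = r`) or all of type `C n`
  (`n + 1 = r`);
* (E8) `r = 8`, all `F - k` are of type `E₇`;
* (E7) `r = 7`, all `F - k` are of type `D 6`;
* (O) `r` is even, there is an involution `p` of `F`, and `F - {k, p k}` is of type `B n` or `D n`,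
  `2 (n / 2) + 2 = r`, the same `n` for all `k`.

Here `TyPc Om τ (YA Om K B)` : `Y_B = ⟨L ∈ Om | L commutes with all K j, j ∉ B⟩` is a (T1)-piece of type `τ`.
-/

set_option autoImplicit false
set_option linter.unusedSectionVars false

namespace Cfsg.Agent.Cit.TypeDet

open Subgroup Finset Classical Relation Cfsg Cfsg.Agent.Nodes.Chart

universe u

variable {G : Type u} [Group G] [Finite G] {Om : Set (Subgroup G)}
  {ι : Type u} [Fintype ι] {K : ι → Subgroup G}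

/-- the normaliser of the frame of a Sylow 2-subgroup is transitive on it -/
theorem IFrm.exists_cj (f : IFrm Om K) (hyp : Hyp Om) (hone : ∀ K ∈ Om, ∀ L ∈ Om, ∃ g, Cit.cj g K = L)
    (hloc : Loc Om) (S : Sylow 2 G) (hr : Set.range K = OmS Om (S : Subgroup G)) (k l : ι) :
    ∃ (g : G) (σ : Equiv.Perm ι), (∀ i, Cit.cj g (K i) = K (σ i)) ∧ σ k = l := by
  have hfr := frames hyp hone hloc
  have hF : Set.range K ∈ sylFrames Om := ⟨S, hr⟩
  obtain ⟨g, hg1, hg2⟩ := hfr.trans _ hF _ hF (K k) ⟨k, rfl⟩ (K l) ⟨l, rfl⟩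
  have h1 : ∀ m, ∃ m', Cit.cj g (K m) = K m' := by
    intro m
    have : Cit.cj g (K m) ∈ Set.range K := by
      have h2 : Cit.cj g (K m) ∈ Cit.cj g '' Set.range K := ⟨K m, ⟨m, rfl⟩, rfl⟩
      rwa [hg1] at h2
    obtain ⟨m', hm'⟩ := this
    exact ⟨m', hm'.symm⟩
  choose s hs using h1
  have hinj : Function.Injective s := by
    intro m m' h2
    have h3 : Cit.cj g (K m) = Cit.cj g (K m') := by rw [hs, hs, h2]
    exact f.inj (cj_inj.mp h3)
  refine ⟨g, Equiv.ofBijective s (Finite.injective_iff_bijective.mp hinj), hs, ?_⟩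
  apply f.inj
  change K (s k) = K l
  rw [← hs, hg2]

/-- the output of the type determination -/
def Out (f : IFrm Om K) : Prop :=
  ((∀ k, f.data.KL (univ.erase k)) ∧
    ((∃ n, (n + 1) / 2 + 1 = Fintype.card ι ∧ ∀ k, TyPc Om (.A n) (YA Om K (univ.erase k))) ∨
      ∃ n, n + 1 = Fintype.card ι ∧ ∀ k, TyPc Om (.C n) (YA Om K (univ.erase k)))) ∨
  (Fintype.card ι = 8 ∧ ∀ k, f.data.KE7 (univ.erase k) ∧ TyPc Om .E7 (YA Om K (univ.erase k))) ∨
  (Fintype.card ι = 7 ∧ ∀ k, (∃ p, f.data.KD (univ.erase k) p) ∧ TyPc Om (.D 6) (YA Om K (univ.erase k))) ∨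
  (Even (Fintype.card ι) ∧ ∃ p : ι → ι, f.data.OutO p ∧
    ((∃ n, 2 * (n / 2) + 2 = Fintype.card ι ∧ ∀ k, TyPc Om (.B n) (YA Om K ((univ.erase k).erase (p k)))) ∨
      ∃ n, 2 * (n / 2) + 2 = Fintype.card ι ∧ ∀ k, TyPc Om (.D n) (YA Om K ((univ.erase k).erase (p k)))))

/-- **the type determination**, `r ≥ 5` -/
theorem out_of [IsSimpleGroup G] (hKF : KindFact.{u}) (hGF : GenFact.{u})
    (hAF : AutFact.{u}) (hZF : ZFact.{u}) (hyp : Hyp Om)
    (hone : ∀ K ∈ Om, ∀ L ∈ Om, ∃ g, Cit.cj g K = L) (hloc : Loc Om)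
    (hconn : ∀ C : Set (Subgroup G), C ⊆ Om → C.Nonempty →
      (∀ K ∈ C, ∀ L ∈ Om, cm K L → L ∈ C) → C = Om)
    (S : Sylow 2 G) (f : IFrm Om K) (hr : Set.range K = OmS Om (S : Subgroup G))
    (h5 : 5 ≤ Fintype.card ι) : Out f := by
  refine Data.typed (S := f.data) h5 (fun τ B => TyPc Om τ (YA Om K B)) ?_
    (fun k i hi => IFrm.typed_blk hKF hyp hloc f k i hi)
    (fun i j => connected_of_conn hKF hGF hAF hZF hyp hone hloc hconn S f hr h5 i j)
  intro k l
  obtain ⟨g, σ, hs, hkl⟩ := f.exists_cj hyp hone hloc S hr k l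
  refine ⟨σ, isAut f.mem f.comm hyp.conj (fun i g => hyp.zz_cj (f.mem i) g) hs, ?_, hkl⟩
  intro τ B hB
  rw [YA_map hyp.conj hs]
  exact hB.cj hyp g

end Cfsg.Agent.Cit.TypeDet
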