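import Cfsg.Agent.Cit.TypeDet.Blocks
import Cfsg.Agent.Cit.PieceG
import Cfsg.Agent.Cit.CorOf

/-!
# Type determination modulo cores

`H ≤ G` with `PieceG.CorG Om H`, `O(J) = 1` for the members `J`; `bar H J` = the image of `J` in `H / O(H)`,
`fb Om H` = the images of the members contained in `H`.

* `cm_bar_iff`, `comm_bar_iff` : commuting can be checked modulo `O(H)`;
* `chn_bar_iff`, `chn_iff_le_pc` : chain classes and pieces;
* `hom_bar` : the frame of a piece `D'` of `H / O(H)` is homomorphic to the frame of `G`;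
* `LocB` : the local input modulo cores; `LocB.lem`, `LocB.chn_iff`, `LocB.frames`, `LocB.piece`, `LocB.hom`,
  `LocB.typed`.
-/

set_option autoImplicit false
set_option linter.unusedSectionVars false
set_option linter.dupNamespace false

namespace Cfsg.Agent.Cit.TypeDet.LocalBar

open Subgroup Finset Classical Relation Cfsg Cfsg.Agent.Cit.UseT Cfsg.Agent.Cit.PieceLift Cfsg.Agent.Cit.PieceG
open scoped commutatorElement

section

variable {G : Type*} [Group G] [Finite G] {Om : Set (Subgroup G)} {H : Subgroup G}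

/-! ### Commuting modulo `O(H)` -/

theorem commutator_mem_of_qm {x y : G} (hx : x ∈ H) (hy : y ∈ H)
    (h : qm H ⟨x, hx⟩ * qm H ⟨y, hy⟩ = qm H ⟨y, hy⟩ * qm H ⟨x, hx⟩) : ⁅x, y⁆ ∈ OO H := by
  have h1 : qm H ⁅(⟨x, hx⟩ : H), (⟨y, hy⟩ : H)⁆ = 1 := by
    rw [map_commutatorElement, commutatorElement_eq_one_iff_mul_comm]
    exact h
  rw [qm_eq_one_iff] at h1
  exact h1

/-- 2-elements of members commute with elements of `H` iff they do so modulo `O(H)` -/
theorem comm_of_qm (C : CorG Om H) {J : Subgroup G} (hJ : J ∈ Om) (hJH : J ≤ H) {y : G} (hy : y ∈ J) {a : ℕ}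
    (ha : y ^ 2 ^ a = 1) {x : G} (hx : x ∈ H)
    (h : qm H ⟨x, hx⟩ * qm H ⟨y, hJH hy⟩ = qm H ⟨y, hJH hy⟩ * qm H ⟨x, hx⟩) : x * y = y * x := by
  have h1 : IsPGroup 2 (zpowers y) := by
    rintro ⟨_, i, rfl⟩
    refine ⟨a, Subtype.ext ?_⟩
    change (y ^ i) ^ 2 ^ a = 1
    rw [← zpow_natCast, ← zpow_mul, mul_comm, zpow_mul, zpow_natCast, ha, one_zpow]
  have h2 := C.cor J hJ hJH (zpowers y) (by rw [zpowers_le]; exact hy) h1 (mem_zpowers y)
  exact CorOf.comm_of_odd (odd_OO H) (commutator_mem_of_qm hx (hJH hy) h)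
    (fun z hz => ((mem_centralizer_iff.1 h2) z hz).symm) ha

/-- **(LB1)** members commute iff their images commute -/
theorem cm_bar_iff (C : CorG Om H) (hO : ∀ J ∈ Om, OO J = ⊥) {J J' : Subgroup G} (hJ : J ∈ Om) (hJ' : J' ∈ Om)
    (hJH : J ≤ H) (hJH' : J' ≤ H) : cm (bar H J) (bar H J') ↔ cm J J' := by
  constructor
  · intro hc x hx y hy
    have key : ∀ x ∈ J, ∀ y ∈ J', ∀ a : ℕ, y ^ 2 ^ a = 1 → x * y = y * x := by
      intro x hx y hy a ha
      exact comm_of_qm C hJ' hJH' hy ha (hJH hx) (hc _ (mem_bar hx) _ (mem_bar hy))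
    -- `x` normalises `J'`
    obtain ⟨Q, hQ⟩ := Hyp.exists_syl J'
    have hQx : Q ≤ cj x J' := by
      intro q hq
      obtain ⟨a, ha⟩ := hQ.2.1 ⟨q, hq⟩
      have ha' : q ^ 2 ^ a = 1 := by simpa using congrArg Subtype.val ha
      have h1 := key x hx q (hQ.1 hq) a ha'
      rw [mem_cj]
      have h2 : x⁻¹ * q * x = q := by rw [mul_assoc, ← h1]; group
      rw [h2]
      exact hQ.1 hq
    have h1 : J' = cj x J' := eq_of_syl_le C.hyp hJ' (C.hyp.conj J' hJ' x) hQ hQx
    have h2 : ⁅x, y⁆ ∈ J' ⊓ OO H := by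
      refine ⟨?_, commutator_mem_of_qm (hJH hx) (hJH' hy) (hc _ (mem_bar hx) _ (mem_bar hy))⟩
      have h3 : x * y * x⁻¹ ∈ J' := by rw [h1]; exact conj_mem_cj hy
      rw [commutatorElement_def]
      exact J'.mul_mem h3 (J'.inv_mem hy)
    have h3 : J' ⊓ OO H ≤ OO J' := by
      refine le_OO inf_le_left ?_ ?_
      · intro g hg
        rw [mem_normalizer_iff_cj, cj_inf, mem_normalizer_iff_cj.1 (le_normalizer hg),
          mem_normalizer_iff_cj.1 (le_normalizer_OO H (hJH' hg))]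
      · exact fun h4 => odd_OO H (h4.trans (card_dvd_of_le inf_le_right))
    have h4 := h3 h2
    rw [hO J' hJ', mem_bot, commutatorElement_eq_one_iff_mul_comm] at h4
    exact h4
  · rintro hc _ ⟨x, hx, rfl⟩ _ ⟨y, hy, rfl⟩
    rw [← map_mul, ← map_mul]
    congr 1
    exact Subtype.ext (hc x hx y hy)

/-- the involution of the image -/
theorem zz_bar (h : Hyp Om) {J : Subgroup G} (hJ : J ∈ Om) (hJH : J ≤ H) :
    zz (bar H J) = qm H ⟨zz J, hJH (h.zz_mem hJ)⟩ := by
  have h1 := zz_map' (h.restr H) (not_dvd_ker H) (subgroupOf_mem_restr hJ hJH)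
  rw [bar, h1]
  congr 1
  apply Subtype.ext
  rw [zz_map h (subgroupOf_mem_restr hJ hJH), map_subgroupOf_eq_of_le hJH]

/-- elements of `H` commute with `z_J` iff they do so modulo `O(H)` -/
theorem comm_zz_iff (C : CorG Om H) {J : Subgroup G} (hJ : J ∈ Om) (hJH : J ≤ H) {x : G} (hx : x ∈ H) :
    qm H ⟨x, hx⟩ * zz (bar H J) = zz (bar H J) * qm H ⟨x, hx⟩ ↔ x * zz J = zz J * x := by
  rw [zz_bar C.hyp hJ hJH]
  constructor
  · intro h
    refine comm_of_qm C hJ hJH (C.hyp.zz_mem hJ) (a := 1) ?_ hx h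
    rw [pow_one, pow_two, C.hyp.zz_mul hJ]
  · intro h
    rw [← map_mul, ← map_mul]
    congr 1
    exact Subtype.ext h

/-- all elements of a member commute with `z_J'` iff they do so modulo `O(H)` -/
theorem forall_comm_zz_iff (C : CorG Om H) {L J : Subgroup G} (hLH : L ≤ H) (hJ : J ∈ Om) (hJH : J ≤ H) :
    (∀ x ∈ bar H L, x * zz (bar H J) = zz (bar H J) * x) ↔ ∀ x ∈ L, x * zz J = zz J * x := by
  constructor
  · intro h x hx
    exact (comm_zz_iff C hJ hJH (hLH hx)).1 (h _ (mem_bar hx))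
  · rintro h _ ⟨x, hx, rfl⟩
    exact (comm_zz_iff C hJ hJH x.2).2 (h x hx)

/-! ### Chains and pieces -/

/-- the members of `Om` in `H` correspond to `fb Om H` -/
theorem exists_bar' {J : Subgroup (HQ H)} (hJ : J ∈ fb Om H) : ∃ K, K ∈ OmIn Om H ∧ bar H K = J := by
  obtain ⟨K, h1, h2, h3⟩ := exists_bar hJ
  exact ⟨K, ⟨h1, h2⟩, h3⟩

theorem chn_bar (C : CorG Om H) (hO : ∀ J ∈ Om, OO J = ⊥) {T : Set (Subgroup G)} (hT : T ⊆ OmIn Om H)
    {J J' : Subgroup G} (h : chn T J J') : chn (bar H '' T) (bar H J) (bar H J') := by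
  induction h with
  | refl => exact ReflTransGen.refl
  | @tail L M _ h2 ih =>
    refine ih.tail ⟨⟨L, h2.1, rfl⟩, ⟨M, h2.2.1, rfl⟩, fun h3 => h2.2.2 ?_⟩
    exact (cm_bar_iff C hO (hT h2.1).1 (hT h2.2.1).1 (hT h2.1).2 (hT h2.2.1).2).1 h3

theorem exists_of_chn_bar (C : CorG Om H) (hO : ∀ J ∈ Om, OO J = ⊥) {T : Set (Subgroup G)}
    (hT : T ⊆ OmIn Om H) {J : Subgroup G} (hJ : J ∈ OmIn Om H) {N : Subgroup (HQ H)}
    (h : chn (bar H '' T) (bar H J) N) : ∃ L ∈ OmIn Om H, bar H L = N ∧ chn T J L := by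
  induction h with
  | refl => exact ⟨J, hJ, rfl, ReflTransGen.refl⟩
  | @tail N N' _ h2 ih =>
    obtain ⟨L, hL, rfl, hc⟩ := ih
    obtain ⟨⟨L', hL', e⟩, ⟨M, hM, rfl⟩, h3⟩ := h2
    have e' : L' = L := eq_of_bar_eq C (hT hL').1 hL.1 (hT hL').2 hL.2 e
    rw [e'] at hL'
    refine ⟨M, hT hM, rfl, hc.tail ⟨hL', hM, fun h4 => h3 ?_⟩⟩
    exact (cm_bar_iff C hO hL.1 (hT hM).1 hL.2 (hT hM).2).2 h4

/-- chains and chains of images -/
theorem chn_bar_iff (C : CorG Om H) (hO : ∀ J ∈ Om, OO J = ⊥) {T : Set (Subgroup G)} (hT : T ⊆ OmIn Om H)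
    {J J' : Subgroup G} (hJ : J ∈ OmIn Om H) (hJ' : J' ∈ OmIn Om H) :
    chn (bar H '' T) (bar H J) (bar H J') ↔ chn T J J' := by
  constructor
  · intro h
    obtain ⟨L, hL, e, hc⟩ := exists_of_chn_bar C hO hT hJ h
    rwa [eq_of_bar_eq C hL.1 hJ'.1 hL.2 hJ'.2 e] at hc
  · exact chn_bar C hO hT

theorem image_OmIn : bar H '' (OmIn Om H) = fb Om H := by
  ext J
  constructor
  · rintro ⟨K, hK, rfl⟩
    exact bar_mem hK.1 hK.2
  · intro hJ
    obtain ⟨K, hK, e⟩ := exists_bar' hJ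
    exact ⟨K, hK, e⟩

/-- the chain class of `K` consists of the members in the piece of `K` -/
theorem chn_iff_le_pc {X : Type*} [Group X] [Finite X] {T : Set (Subgroup X)} (hT : Hyp T) {K J : Subgroup X}
    (hK : K ∈ T) (hJ : J ∈ T) : chn T K J ↔ J ≤ pc T K := by
  constructor
  · exact le_pc_of_chn
  · intro h
    by_contra hn
    have h1 : cm (pc T K) J := by
      refine cm_sSup fun L hL => ?_
      by_contra hc
      exact hn (ReflTransGen.tail hL ⟨chn_mem hK hL, hJ, hc⟩)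
    exact hT.not_le_centralizer_self hJ (cm_iff_le_centralizer.1 (cm_mono h le_rfl h1))

/-- chains in `H` and pieces of `H / O(H)` -/
theorem chn_iff_le_PT (C : CorG Om H) (hO : ∀ J ∈ Om, OO J = ⊥) {J J' : Subgroup G} (hJ : J ∈ OmIn Om H)
    (hJ' : J' ∈ OmIn Om H) : chn (OmIn Om H) J J' ↔ bar H J' ≤ PT Om H J := by
  rw [← chn_bar_iff C hO (T := OmIn Om H) le_rfl hJ hJ', image_OmIn,
    chn_iff_le_pc (fb_hyp C.hyp H) (bar_mem hJ.1 hJ.2) (bar_mem hJ'.1 hJ'.2)]
  rfl

/-- a member is contained in the piece or commutes with it -/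
theorem le_or_cm {X : Type*} [Group X] {T : Set (Subgroup X)} {K J : Subgroup X}
    (hK : K ∈ T) (hJ : J ∈ T) : J ≤ pc T K ∨ cm J (pc T K) := by
  by_cases h : pc T J = pc T K
  · left
    rw [← h]
    exact le_pc
  · right
    exact cm_mono le_pc le_rfl (cm_iff_le_centralizer.2 (pc_comm hJ hK h))

/-! ### The homomorphism of frames -/

variable {ι : Type*} {Oa : Set (Subgroup G)} {K : ι → Subgroup G} {D' : Subgroup (HQ H)}
  {B : Finset ι}

/-- `B` is the frame of the piece `D'` of `H / O(H)`: the ambient set `Oa` is `Om` or `OmIn Om H` -/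
structure Blk (Om : Set (Subgroup G)) (H : Subgroup G) (Oa : Set (Subgroup G)) (K : ι → Subgroup G)
    (D' : Subgroup (HQ H)) (B : Finset ι) : Prop where
  cor : CorG Om H
  core : ∀ J ∈ Om, OO J = ⊥
  sub : Oa ⊆ Om
  sup : OmIn Om H ⊆ Oa
  mem : ∀ i, K i ∈ Oa
  le : ∀ i, K i ≤ H
  comm : ∀ i j, i ≠ j → cm (K i) (K j)
  max : ∀ L ∈ Oa, ∃ i, ¬ cm L (K i)
  iff : ∀ i, i ∈ B ↔ bar H (K i) ≤ D'
  cases : ∀ J ∈ fb Om H, J ≤ D' ∨ cm J D'
  le_of : ∀ L ∈ Oa, (∀ i, i ∉ B → cm L (K i)) → L ≤ H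

namespace Blk

variable (b : Blk Om H Oa K D' B)

include b

theorem bar_mem_OmIn (i : ↥B) : bar H (K i.1) ∈ OmIn (fb Om H) D' :=
  ⟨bar_mem (b.sub (b.mem _)) (b.le _), (b.iff i.1).1 i.2⟩

theorem bar_comm (i j : ↥B) (hij : i ≠ j) : cm (bar H (K i.1)) (bar H (K j.1)) :=
  (cm_bar_iff b.cor b.core (b.sub (b.mem _)) (b.sub (b.mem _)) (b.le _) (b.le _)).2
    (b.comm i.1 j.1 fun e => hij (Subtype.ext e))

theorem cm_iff {L : Subgroup G} (hL : L ∈ OmIn Om H) (i : ι) : cm (bar H L) (bar H (K i)) ↔ cm L (K i) :=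
  cm_bar_iff b.cor b.core hL.1 (b.sub (b.mem i)) hL.2 (b.le i)

/-- the frame of the piece is maximal in it -/
theorem bar_max (J : Subgroup (HQ H)) (hJ : J ∈ OmIn (fb Om H) D') : ∃ i : ↥B, ¬ cm J (bar H (K i.1)) := by
  obtain ⟨L, hL, rfl⟩ := exists_bar' hJ.1
  obtain ⟨i, hi⟩ := b.max L (b.sup hL)
  rw [← b.cm_iff hL] at hi
  have hiB : i ∈ B := by
    by_contra hn
    apply hi
    have h1 := (b.cases _ (bar_mem (b.sub (b.mem i)) (b.le i))).resolve_left (fun h => hn ((b.iff i).2 h))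
    exact cm_symm (cm_mono le_rfl hJ.2 h1)
  exact ⟨⟨i, hiB⟩, hi⟩

/-- `OmA` in the piece -/
theorem mem_OmA_map (A : Finset ↥B) {L : Subgroup G} :
    L ∈ OmA Oa K (A.map (emb B)) ↔
      L ∈ OmIn Om H ∧ bar H L ∈ OmA (OmIn (fb Om H) D') (fun i : ↥B => bar H (K i.1)) A := by
  constructor
  · rintro ⟨h1, h2⟩
    have hLH : L ≤ H := b.le_of L h1 fun i hi => h2 i fun h => hi (map_emb_subset B A h)
    have hL : L ∈ OmIn Om H := ⟨b.sub h1, hLH⟩
    refine ⟨hL, ⟨bar_mem hL.1 hL.2, ?_⟩, fun i hi => ?_⟩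
    · rcases b.cases _ (bar_mem hL.1 hL.2) with h3 | h3
      · exact h3
      · exfalso
        obtain ⟨i, hi⟩ := b.max L h1
        apply hi
        by_cases hiB : i ∈ B
        · rw [← b.cm_iff hL]
          exact cm_mono le_rfl ((b.iff i).1 hiB) h3
        · exact h2 i fun h => hiB (map_emb_subset B A h)
    · rw [b.cm_iff hL]
      exact h2 i.1 fun h => hi (by
        obtain ⟨_, h'⟩ := mem_map_emb_iff.mp h
        exact h')
  · rintro ⟨hL, ⟨-, h1⟩, h2⟩
    refine ⟨b.sup hL, fun i hi => ?_⟩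
    by_cases hiB : i ∈ B
    · rw [← b.cm_iff hL]
      exact h2 ⟨i, hiB⟩ fun h => hi (mem_map_emb_iff.mpr ⟨hiB, h⟩)
    · rw [← b.cm_iff hL]
      have h3 := (b.cases _ (bar_mem (b.sub (b.mem i)) (b.le i))).resolve_left
        (fun h => hiB ((b.iff i).2 h))
      exact cm_symm (cm_mono le_rfl h1 h3)

theorem OmA_subset (A : Finset ↥B) : OmA Oa K (A.map (emb B)) ⊆ OmIn Om H :=
  fun _ hL => ((b.mem_OmA_map A).1 hL).1

theorem image_OmA (A : Finset ↥B) : bar H '' (OmA Oa K (A.map (emb B))) =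
    OmA (OmIn (fb Om H) D') (fun i : ↥B => bar H (K i.1)) A := by
  ext J
  constructor
  · rintro ⟨L, hL, rfl⟩
    exact ((b.mem_OmA_map A).1 hL).2
  · intro hJ
    obtain ⟨L, hL, rfl⟩ := exists_bar' hJ.1.1
    exact ⟨L, (b.mem_OmA_map A).2 ⟨hL, hJ⟩, rfl⟩

omit b in
theorem forall_sSup {X : Type*} [Group X] {T : Set (Subgroup X)} {z : X} :
    (∀ x ∈ sSup T, x * z = z * x) ↔ ∀ L ∈ T, ∀ x ∈ L, x * z = z * x := by
  constructor
  · exact fun h L hL x hx => h x (le_sSup hL hx)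
  · intro h
    have h1 : sSup T ≤ centralizer {z} :=
      sSup_le fun L hL x hx => mem_centralizer_singleton_iff.2 (h L hL x hx)
    exact fun x hx => mem_centralizer_singleton_iff.1 (h1 hx)

/-- the product of four involutions of the frame -/
theorem prod_iff (i j k l : ι) :
    zz (K i) * zz (K j) * zz (K k) * zz (K l) = 1 ↔
      zz (bar H (K i)) * zz (bar H (K j)) * zz (bar H (K k)) * zz (bar H (K l)) = 1 := by
  have hz : ∀ i, zz (bar H (K i)) = qm H ⟨zz (K i), b.le i (b.cor.hyp.zz_mem (b.sub (b.mem i)))⟩ := fun i =>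
    zz_bar b.cor.hyp (b.sub (b.mem i)) (b.le i)
  have hcz : ∀ i j, Commute (zz (K i)) (zz (K j)) := by
    intro i j
    by_cases hij : i = j
    · rw [hij]
    · exact b.comm i j hij _ (b.cor.hyp.zz_mem (b.sub (b.mem i))) _ (b.cor.hyp.zz_mem (b.sub (b.mem j)))
  have hz2 : ∀ i, zz (K i) * zz (K i) = 1 := fun i => b.cor.hyp.zz_mul (b.sub (b.mem i))
  rw [hz, hz, hz, hz, ← map_mul, ← map_mul, ← map_mul, qm_eq_one_iff]
  constructor
  · intro h
    have : ((⟨zz (K i), b.le i (b.cor.hyp.zz_mem (b.sub (b.mem i)))⟩ *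
      ⟨zz (K j), b.le j (b.cor.hyp.zz_mem (b.sub (b.mem j)))⟩ *
      ⟨zz (K k), b.le k (b.cor.hyp.zz_mem (b.sub (b.mem k)))⟩ *
      ⟨zz (K l), b.le l (b.cor.hyp.zz_mem (b.sub (b.mem l)))⟩ : H) : G) = 1 := h
    rw [this]
    exact one_mem _
  · intro h
    have h1 : (zz (K i) * zz (K j) * zz (K k) * zz (K l)) ^ 2 ^ 1 = 1 := by
      rw [pow_one]
      have e1 : Commute (zz (K i) * zz (K j) * zz (K k)) (zz (K l)) :=
        ((hcz i l).mul_left (hcz j l)).mul_left (hcz k l)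
      have e2 : Commute (zz (K i) * zz (K j)) (zz (K k)) := (hcz i k).mul_left (hcz j k)
      rw [e1.mul_pow, e2.mul_pow, (hcz i j).mul_pow, pow_two, pow_two, pow_two, pow_two, hz2, hz2, hz2, hz2]
      simp
    exact eq_one_of_odd (odd_OO H) h h1

theorem eq_iff (i j : ι) : zz (K i) = zz (K j) ↔ zz (bar H (K i)) = zz (bar H (K j)) := by
  have h1 := b.prod_iff i j j j
  have hz2 : zz (K j) * zz (K j) = 1 := b.cor.hyp.zz_mul (b.sub (b.mem j))
  have hz2' : zz (bar H (K j)) * zz (bar H (K j)) = 1 :=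
    (fb_hyp b.cor.hyp H).zz_mul (bar_mem (b.sub (b.mem j)) (b.le j))
  have e1 : ∀ {X : Type _} [Group X] (x y : X), y * y = 1 → (x * y * y * y = 1 ↔ x = y) := by
    intro X _ x y hy
    rw [mul_assoc (x * y), hy, mul_one]
    constructor
    · intro h
      rw [mul_eq_one_iff_eq_inv] at h
      rw [h]
      exact inv_eq_of_mul_eq_one_left hy
    · intro h
      rw [h, hy]
  rwa [e1 _ _ hz2, e1 _ _ hz2'] at h1

variable [Fintype ι]

/-- **the frame of a piece of `H / O(H)` is homomorphic to the frame of `G`** -/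
theorem hom : Data.Hom (data (OmIn (fb Om H) D') (fun i : ↥B => bar H (K i.1)) b.bar_mem_OmIn b.bar_comm)
    (data Oa K b.mem b.comm) (emb B) := by
  have hm : ∀ (A : Finset ↥B) (i : ↥B), emb B i ∈ A.map (emb B) ↔ i ∈ A :=
    fun A i => Data.mem_map_emb _
  refine ⟨?_, fun i j k l => b.prod_iff i.1 j.1 k.1 l.1, fun i j => b.eq_iff i.1 j.1, ?_, ?_⟩
  · intro A i j
    change (emb B i ∈ A.map (emb B) ∧ emb B j ∈ A.map (emb B) ∧
      chn (OmA Oa K (A.map (emb B))) (K i.1) (K j.1)) ↔ (i ∈ A ∧ j ∈ A ∧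
      chn (OmA (OmIn (fb Om H) D') (fun i : ↥B => bar H (K i.1)) A) (bar H (K i.1)) (bar H (K j.1)))
    rw [hm, hm, ← b.image_OmA A, chn_bar_iff b.cor b.core (b.OmA_subset A)
      ⟨b.sub (b.mem _), b.le _⟩ ⟨b.sub (b.mem _), b.le _⟩]
  · intro a
    change (∀ L ∈ OmA Oa K {emb B a}, L = K a.1) ↔
      ∀ L ∈ OmA (OmIn (fb Om H) D') (fun i : ↥B => bar H (K i.1)) {a}, L = bar H (K a.1)
    have hs : ({emb B a} : Finset ι) = ({a} : Finset ↥B).map (emb B) := by simp
    rw [hs, ← b.image_OmA]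
    constructor
    · rintro h _ ⟨L, hL, rfl⟩
      rw [h L hL]
    · intro h L hL
      have h1 := b.OmA_subset _ hL
      exact eq_of_bar_eq b.cor h1.1 (b.sub (b.mem _)) h1.2 (b.le _) (h _ ⟨L, hL, rfl⟩)
  · intro A k
    change (∀ x ∈ sSup (OmA Oa K (A.map (emb B))), x * zz (K k.1) = zz (K k.1) * x) ↔
      ∀ x ∈ sSup (OmA (OmIn (fb Om H) D') (fun i : ↥B => bar H (K i.1)) A),
        x * zz (bar H (K k.1)) = zz (bar H (K k.1)) * x
    rw [forall_sSup, forall_sSup, ← b.image_OmA, Set.forall_mem_image]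
    refine forall₂_congr fun L hL => ?_
    exact (forall_comm_zz_iff b.cor (b.OmA_subset _ hL).2 (b.sub (b.mem _)) (b.le _)).symm

/-- **kinds are computed in the piece, modulo cores** -/
theorem kinds (h : (data (OmIn (fb Om H) D') (fun i : ↥B => bar H (K i.1)) b.bar_mem_OmIn b.bar_comm).Kinds
    univ) : (data Oa K b.mem b.comm).Kinds B := by
  have h1 := Data.Kinds.map b.hom h
  rwa [univ_map_emb] at h1

theorem kt {τ : Nodes.Chart.Ty}
    (h : (data (OmIn (fb Om H) D') (fun i : ↥B => bar H (K i.1)) b.bar_mem_OmIn b.bar_comm).KT τ univ) :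
    (data Oa K b.mem b.comm).KT τ B := by
  have h1 := Data.KT.map b.hom h
  rwa [univ_map_emb] at h1

end Blk

/-! ### (LB3): frames of `H` -/

section InH

variable {ι : Type*} [Fintype ι] {K : ι → Subgroup G}

/-- **(LB3)** the blocks of a maximal frame of `OmIn Om H` are the frames of the pieces of `H / O(H)` -/
theorem blk_in (C : CorG Om H) (hO : ∀ J ∈ Om, OO J = ⊥) (hK : ∀ i, K i ∈ OmIn Om H)
    (hc : ∀ i j, i ≠ j → cm (K i) (K j)) (hmax : ∀ L ∈ OmIn Om H, ∃ i, ¬ cm L (K i)) (i : ι) :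
    Blk Om H (OmIn Om H) K (PT Om H (K i)) ((data (OmIn Om H) K hK hc).blk univ i) where
  cor := C
  core := hO
  sub := fun _ h => h.1
  sup := le_rfl
  mem := hK
  le := fun i => (hK i).2
  comm := hc
  max := hmax
  iff := by
    intro j
    rw [Sys.mem_blk, ← chn_iff_le_PT C hO (hK i) (hK j)]
    have h1 : OmA (OmIn Om H) K univ = OmIn Om H := by
      ext L
      exact ⟨fun h => h.1, fun h => ⟨h, fun k hk => absurd (mem_univ k) hk⟩⟩
    change (i ∈ univ ∧ j ∈ univ ∧ chn (OmA (OmIn Om H) K univ) (K i) (K j)) ↔ _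
    rw [h1]
    exact ⟨fun h => h.2.2, fun h => ⟨mem_univ _, mem_univ _, h⟩⟩
  cases := fun J hJ => le_or_cm (bar_mem (hK i).1 (hK i).2) hJ
  le_of := fun L hL _ => hL.2

end InH

/-! ### (LB4): the centralisers of the involutions of the members -/

/-- the local input modulo cores -/
structure LocB (Om : Set (Subgroup G)) : Prop where
  core : ∀ J ∈ Om, OO J = ⊥
  cor : ∀ K ∈ Om, CorG Om (centralizer {zz K})

namespace LocB

variable (h : LocB Om) {X J K : Subgroup G}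

include h

theorem hyp (hK : K ∈ Om) : Hyp Om := (h.cor K hK).hyp

/-- `K` is a single piece of `C(z_K)` modulo the core -/
theorem PT_eq (hK : K ∈ Om) : PT Om (centralizer {zz K}) K = bar (centralizer {zz K}) K := by
  have C := h.cor K hK
  set H := centralizer {zz K} with hH
  have hKH : K ≤ H := C.hyp.le_centralizer hK
  have hf := fb_hyp C.hyp H
  have hb : bar H K ∈ fb Om H := bar_mem hK hKH
  rcases C.pcs.eq_or_quasisimple hf hb with h2 | ⟨h2, h3, -⟩
  · exact h2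
  · exfalso
    -- `bar K` is subnormal in the quasisimple group `D`
    have h4 : (bar H K).IsSubnormal := (C.hyp.sub K hK).map (qm_surjective H)
    have h5 : bar H K ≤ pc (fb Om H) (bar H K) := le_pc
    rcases Lib.ComponentSolvable.quasisimple_subnormal_cases h3
      (h4.subgroupOf (K := pc (fb Om H) (bar H K))) with h6 | h6
    rotate_left
    · apply hf.not_le_centralizer_self hb
      intro x hx y hy
      have h7 := h6 (show (⟨x, h5 hx⟩ : ↥(pc (fb Om H) (bar H K))) ∈ _ from hx)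
      have h8 := mem_center_iff.mp h7 ⟨y, h5 hy⟩
      exact congrArg Subtype.val h8
    · apply h2
      have h7 : pc (fb Om H) (bar H K) = bar H K := by
        apply le_antisymm _ h5
        rw [← subgroupOf_eq_top]
        exact h6
      rw [h7]
      exact hb

/-- `{K}` is a chain class of `Om ∩ C(z_K)` -/
theorem single (hK : K ∈ Om) (hX : chn (OmIn Om (centralizer {zz K})) K X) : X = K := by
  have C := h.cor K hK
  have hKH : K ∈ OmIn Om (centralizer {zz K}) := ⟨hK, C.hyp.le_centralizer hK⟩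
  have hXH : X ∈ OmIn Om (centralizer {zz K}) := by
    rcases ReflTransGen.cases_tail hX with h2 | ⟨Z, -, h2⟩
    · rw [h2]; exact hKH
    · exact h2.2.1
  have h1 := (chn_iff_le_PT C h.core hKH hXH).1 hX
  rw [h.PT_eq hK] at h1
  exact eq_of_bar_eq C hXH.1 hK hXH.2 hKH.2
    ((fb_hyp C.hyp _).eq_of_le (bar_mem hXH.1 hXH.2) (bar_mem hK hKH.2) h1)

/-- **`[X, z_K] = 1` implies `X = K` or `[X, K] = 1`** -/
theorem lem (hX : X ∈ Om) (hK : K ∈ Om) (hc : ∀ x ∈ X, x * zz K = zz K * x) : X = K ∨ cm X K := by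
  by_contra hcon
  push Not at hcon
  apply hcon.1
  refine h.single hK (ReflTransGen.single ⟨⟨hK, (h.hyp hK).le_centralizer hK⟩, ⟨hX, ?_⟩,
    fun h' => hcon.2 (cm_symm h')⟩)
  intro x hx
  exact mem_centralizer_singleton_iff.mpr (hc x hx)

/-- chains in `Om ∩ C(K)` -/
theorem chn_centralizer_iff (hK : K ∈ Om) (hX : X ∈ OmIn Om (centralizer (K : Set G))) :
    chn (OmIn Om (centralizer (K : Set G))) X J ↔ chn (OmIn Om (centralizer {zz K})) X J := by
  have hyp := h.hyp hK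
  have hle : centralizer (K : Set G) ≤ centralizer {zz K} := by
    refine centralizer_le ?_
    rw [Set.singleton_subset_iff]
    exact hyp.zz_mem hK
  constructor
  · intro hc
    refine chn_mono ?_ hc
    exact fun L hL => ⟨hL.1, hL.2.trans hle⟩
  · intro hc
    induction hc with
    | refl => exact ReflTransGen.refl
    | @tail Y Z h1 h2 ih =>
      have key : ∀ W, chn (OmIn Om (centralizer {zz K})) X W → W ∈ OmIn Om (centralizer {zz K}) →
          W ∈ OmIn Om (centralizer (K : Set G)) := by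
        intro W hW hWU
        rcases h.lem hWU.1 hK (fun x hx => mem_centralizer_singleton_iff.mp (hWU.2 hx)) with e | e
        · exfalso
          rw [e] at hW
          have h3 := h.single hK (chn_symm hW)
          rw [h3] at hX
          exact not_cm_self hyp hK (cm_iff_le_centralizer.mpr hX.2)
        · exact ⟨hWU.1, cm_iff_le_centralizer.mp e⟩
      exact ih.tail ⟨key Y h1 h2.1, key Z (h1.tail h2) h2.2.1, h2.2.2⟩

/-- different members of `Om(S)` commute -/
theorem comm {S L : Subgroup G} (hS : IsPGroup 2 S) (hK : K ∈ OmS Om S) (hL : L ∈ OmS Om S) (hne : K ≠ L) :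
    cm K L := by
  have hyp := h.hyp hK.1
  have h1 := PairComm.commutator_zz_le hyp hS hK hL hne
  rw [h.core K hK.1, le_bot_iff, commutator_eq_bot_iff_le_centralizer] at h1
  have h2 : ∀ x ∈ K, x * zz L = zz L * x := fun x hx =>
    ((mem_centralizer_iff.mp (h1 hx)) _ (mem_zpowers _)).symm
  rcases h.lem hK.1 hL.1 h2 with e | e
  · exact absurd e hne
  · exact e

omit h in
theorem frames (hyp : Hyp Om) (h : LocB Om) (hone : ∀ K ∈ Om, ∀ L ∈ Om, ∃ g, Cit.cj g K = L) :
    Red.Frames Om (sylFrames Om) :=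
  frames_of hyp hone (fun S _ hK _ hL hne => h.comm S.isPGroup' hK hL hne)
    (fun _ hK => not_cm_self hyp hK)

end LocB

/-! ### The blocks of `F - k` -/

section Frame

variable {ι : Type*} [Fintype ι] {K : ι → Subgroup G}

/-- **(LB4)** the blocks of `F - k` are the frames of the pieces of `C(z_k) / O(C(z_k))` -/
theorem LocB.blk (h : LocB Om) (hK : ∀ i, K i ∈ Om) (hc : ∀ i j, i ≠ j → cm (K i) (K j))
    (hmax : ∀ L ∈ Om, ∃ i, ¬ cm L (K i)) {k i : ι} (hi : i ≠ k) :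
    Blk Om (centralizer {zz (K k)}) Om K (PT Om (centralizer {zz (K k)}) (K i))
      ((data Om K hK hc).blk (univ.erase k) i) := by
  have C := h.cor (K k) (hK k)
  have hle : ∀ j, K j ≤ centralizer {zz (K k)} := by
    intro j
    by_cases hjk : j = k
    · rw [hjk]; exact C.hyp.le_centralizer (hK k)
    · intro x hx
      exact mem_centralizer_singleton_iff.2 (hc j k hjk x hx _ (C.hyp.zz_mem (hK k)))
  have hiC : K i ∈ OmIn Om (centralizer (K k : Set G)) := ⟨hK i, cm_iff_le_centralizer.1 (hc i k hi)⟩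
  refine ⟨C, h.core, le_rfl, fun _ h => h.1, hK, hle, hc, hmax, ?_,
    fun J hJ => le_or_cm (bar_mem (hK i) (hle i)) hJ, ?_⟩
  · intro j
    rw [Sys.mem_blk, ← chn_iff_le_PT C h.core ⟨hK i, hle i⟩ ⟨hK j, hle j⟩,
      ← h.chn_centralizer_iff (hK k) hiC]
    change (i ∈ univ.erase k ∧ j ∈ univ.erase k ∧ chn (OmA Om K (univ.erase k)) (K i) (K j)) ↔ _
    rw [OmA_erase]
    constructor
    · exact fun h => h.2.2
    · intro h1
      refine ⟨Data.mem_er hi, Data.mem_er ?_, h1⟩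
      rintro rfl
      have h2 := h.single (hK j) (chn_symm ((h.chn_centralizer_iff (hK j) hiC).1 h1))
      rw [h2] at hiC
      exact not_cm_self C.hyp (hK j) (cm_iff_le_centralizer.2 hiC.2)
  · intro L hL h1 x hx
    refine mem_centralizer_singleton_iff.2 (h1 k ?_ x hx _ (C.hyp.zz_mem (hK k)))
    intro h2
    have h3 := (data Om K hK hc).blk_subset _ _ h2
    exact (mem_erase.1 h3).1 rfl

end Frame

end

end Cfsg.Agent.Cit.TypeDet.LocalBar
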