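import Mathlib
import Cfsg.Agent.Nodes.ChartLoc
import Cfsg.Agent.Nodes.Perp
import Cfsg.Agent.Nodes.KindBase
import Cfsg.Agent.Nodes.Unique
import Cfsg.Agent.Nodes.RelFrame

/-!
# Involutions centralising a frame of a simply laced root group datum (project CIT, `AutFact`)

helper542.  `C : Cls cs h p T n X R Z z` simply laced (`Z x = X x` for all roots `x`), `g : ι → I → ℤ` a frame of
pairwise orthogonal roots such that every root is `± g k` or not orthogonal to any `g k`, and the roots of the second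
kind are determined by their products with the `g k` (type `D₄`).  `t * t = 1`, `t` normalises `GG` and centralises the
groups `⟨X (g k), X (-g k)⟩`.

* `inv_VV` : `t` normalises the radicals `VV a`, `a = ± g k`;
* `inv_step` : and their subgroups cut out by the half spaces `(y, b) ≥ 0`;
* `norm_X` : `t` normalises all root groups;
* `dichotomy` : `t` centralises `GG'` or `t * z (g k)` centralises it for all `k`.
-/

set_option autoImplicit false
set_option linter.unusedSectionVars false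
set_option linter.unusedVariables false

namespace Cfsg.Agent.Cit.TypeDet.DFourAut

open CoxeterSystem Cfsg.Agent.ChevalleyStructure.CoxeterGeom Cfsg.Agent.Tits.Roots Cfsg.Agent.Tits.Core
  Cfsg.Agent.Tits.RootComb Cfsg.Agent.Nodes.Comb Cfsg.Agent.Nodes.Reps Cfsg.Agent.Nodes.BNOf
  Cfsg.Agent.Nodes.RGDLib Cfsg.Agent.Nodes.Chart Cfsg.Agent.Nodes.StabComb Cfsg.Agent.Nodes.Bruhat
  Cfsg.Agent.Nodes.Coroot Cfsg.Agent.Nodes.Perp Cfsg.Agent.Nodes.ChartLoc
open Cfsg.Agent.Cit.TypeDet (cm cm_iff_le_centralizer)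

section Roots

variable {I W : Type*} [Fintype I] [DecidableEq I] [Group W] [Fintype W] {M : CoxeterMatrix I}
  {cs : CoxeterSystem M W} {A : I → I → ℤ} {h : IsCartan M A}

variable (cs h) in
/-- simply laced -/
def Sld : Prop := ∀ x y, IsRoot cs h x → IsRoot cs h y → x ≠ y → x ≠ -y → |cpr cs h x y| ≤ 1

variable {x y z c s b : I → ℤ}

theorem cpr_le_one (hs : Sld cs h) (hx : IsRoot cs h x) (hy : IsRoot cs h y) (hne : x ≠ y) :
    cpr cs h x y ≤ 1 := by
  by_cases h1 : x = -y
  · rw [h1, cpr_neg cs h _ hy, cpr_self cs h hy]; norm_num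
  · exact (abs_le.1 (hs x y hx hy hne h1)).2

theorem cpr_lin {m α β : ℤ} (e : m • z = α • x + β • y) {u : I → ℤ} (hu : IsRoot cs h u) :
    m * cpr cs h z u = α * cpr cs h x u + β * cpr cs h y u := by
  rw [← cpr_smul cs h m z hu, e, cpr_add cs h _ _ hu, cpr_smul cs h _ _ hu, cpr_smul cs h _ _ hu]

theorem ne_left (hx : IsRoot cs h x) (hy : IsRoot cs h y) (hne : x ≠ y) (hne' : x ≠ -y) {m α β : ℤ}
    (hb : 0 < β) (e : m • z = α • x + β • y) : z ≠ x := by
  rintro rfl
  have h1 : (m - α) • z = β • y := by rw [sub_smul, e]; abel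
  rcases lt_trichotomy (m - α) 0 with h2 | h2 | h2
  · have h3 : (α - m) • (-z) = β • y := by rw [← h1, smul_neg, ← neg_smul]; congr 1; ring
    exact hne' (by rw [← Cfsg.Agent.Nodes.Unique.eq_of_ray hx.neg hy (by omega) hb h3, neg_neg])
  · rw [h2, zero_smul] at h1
    rcases smul_eq_zero.1 h1.symm with h3 | h3
    · omega
    · exact hy.ne_zero h3
  · exact hne (Cfsg.Agent.Nodes.Unique.eq_of_ray hx hy h2 hb h1)

theorem ne_right (hx : IsRoot cs h x) (hy : IsRoot cs h y) (hne : x ≠ y) (hne' : x ≠ -y) {m α β : ℤ}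
    (ha : 0 < α) (e : m • z = α • x + β • y) : z ≠ y := by
  refine ne_left hy hx (Ne.symm hne) (fun e' => hne' (by rw [e', neg_neg])) ha (m := m) (α := β) ?_
  rw [e, add_comm]

theorem two_mul_le (hs : Sld cs h) (hx : IsRoot cs h x) (hy : IsRoot cs h y) (hz : IsRoot cs h z) (hne : x ≠ y)
    (hne' : x ≠ -y) {m α β : ℤ} (ha : 0 < α) (hb : 0 < β) (e : m • z = α • x + β • y) : 2 * m ≤ α + β := by
  have h1 := cpr_lin (cs := cs) (h := h) e hz
  rw [cpr_self cs h hz] at h1
  have h2 := cpr_le_one hs hx hz (ne_left hx hy hne hne' hb e).symm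
  have h3 := cpr_le_one hs hy hz (ne_right hx hy hne hne' ha e).symm
  nlinarith

/-- **(G)** a root between two roots with positive product with `c` is equal to `c`. -/
theorem btwn_eq (hs : Sld cs h) (hx : IsRoot cs h x) (hy : IsRoot cs h y) (hne : x ≠ y) (hne' : x ≠ -y)
    (hz : Btwn cs h x y z) (hc : IsRoot cs h c) (h1 : 0 < form cs h x c) (h2 : 0 < form cs h y c) : z = c := by
  obtain ⟨hzr, m, α, β, hm, ha, hb, e⟩ := hz
  have h3 := two_mul_le hs hx hy hzr hne hne' ha hb e
  have h4 := cpr_lin (cs := cs) (h := h) e hc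
  have h5 := (cpr_pos_iff cs h x hc).2 h1
  have h6 := (cpr_pos_iff cs h y hc).2 h2
  by_contra h7
  have h8 := cpr_le_one hs hzr hc h7
  nlinarith

theorem cpr_symm (hs : Sld cs h) (hx : IsRoot cs h x) (hy : IsRoot cs h y) (h1 : cpr cs h x y = 1) :
    cpr cs h y x = 1 := by
  have h2 : 0 < cpr cs h y x := by
    rw [cpr_pos_iff cs h y hx, form_comm, ← cpr_pos_iff cs h x hy]; omega
  have h3 : y ≠ x := by
    rintro rfl
    rw [cpr_self cs h hx] at h1
    norm_num at h1
  have := cpr_le_one hs hy hx h3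
  omega

theorem ne_of_cpr (hx : IsRoot cs h x) (hy : IsRoot cs h y) (h1 : |cpr cs h x y| = 1) : x ≠ y ∧ x ≠ -y := by
  constructor
  · rintro rfl
    rw [cpr_self cs h hx] at h1
    norm_num at h1
  · intro e
    rw [e, cpr_neg cs h _ hy, cpr_self cs h hy] at h1
    norm_num at h1

/-- the root between `s` and `-b` if `(s, b) > 0` -/
theorem btwn_sub (hs : Sld cs h) (hsr : IsRoot cs h s) (hbr : IsRoot cs h b) (h1 : cpr cs h s b = 1)
    (hz : Btwn cs h s (-b) z) : z = s - b := by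
  obtain ⟨hne, hne'⟩ := ne_of_cpr hsr hbr (by rw [h1]; norm_num)
  obtain ⟨hzr, m, α, β, hm, ha, hb, e⟩ := hz
  have hn1 : s ≠ - -b := by rwa [neg_neg]
  have h2 := two_mul_le hs hsr hbr.neg hzr hne' hn1 ha hb e
  have h3 := cpr_lin (cs := cs) (h := h) e hsr
  have h4 := cpr_lin (cs := cs) (h := h) e hbr.neg
  have h5 := cpr_symm hs hsr hbr h1
  rw [cpr_self cs h hsr, cpr_neg cs h _ hsr, h5] at h3
  rw [cpr_self cs h hbr.neg, cpr_neg_right cs h _ hbr, cpr_neg_right cs h _ hbr, h1] at h4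
  have h6 := cpr_le_one hs hzr hsr (ne_left hsr hbr.neg hne' hn1 hb e)
  have h7 := cpr_le_one hs hzr hbr.neg (ne_right hsr hbr.neg hne' hn1 ha e)
  rw [cpr_neg_right cs h _ hbr] at h7
  have h8 : α = m := by nlinarith
  have h9 : β = m := by nlinarith
  rw [h8, h9, ← smul_add] at e
  have h10 := smul_right_injective (I → ℤ) hm.ne' e
  rw [h10, sub_eq_add_neg]

end Roots

/-! ### Groups -/

section Groups

variable {I W Y : Type*} [Fintype I] [DecidableEq I] [Group W] [Fintype W] [Group Y] {M : CoxeterMatrix I}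
  {cs : CoxeterSystem M W} {A : I → I → ℤ} {h : IsCartan M A} {p : ℕ} {T : Subgroup Y} {n : I → Y}
  {X : (I → ℤ) → Subgroup Y} {R : Set (I → ℤ)} {Z : (I → ℤ) → Subgroup Y} {z : (I → ℤ) → Y}

/-- `t` normalises `H` (`t * t = 1`) -/
def Inv (t : Y) (H : Subgroup Y) : Prop := ∀ x ∈ H, t * x * t ∈ H

theorem inv_of_Sup {t : Y} (ht : t * t = 1) {S : Set (I → ℤ)} {H : Subgroup Y}
    (h1 : ∀ y ∈ S, ∀ x ∈ X y, t * x * t ∈ H) : ∀ x ∈ RGD.Sup X S, t * x * t ∈ H := by
  have hti : t⁻¹ = t := inv_eq_of_mul_eq_one_left ht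
  have h2 : RGD.Sup X S ≤ H.comap (MulAut.conj t).toMonoidHom := RGD.Sup_le fun y hy x hx => by
    rw [Subgroup.mem_comap]
    change t * x * t⁻¹ ∈ H
    rw [hti]; exact h1 y hy x hx
  intro x hx
  have h3 := h2 hx
  rw [Subgroup.mem_comap] at h3
  change t * x * t⁻¹ ∈ H at h3
  rwa [hti] at h3

theorem conj_eq_of_comm {t x : Y} (ht : t * t = 1) (hc : t * x = x * t) : t * x * t = x := by
  rw [hc, mul_assoc, ht, mul_one]

theorem eq_one_of_odd {v : Y} (ho : Odd (orderOf v)) (h2 : v * v = 1) : v = 1 := by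
  obtain ⟨k, hk⟩ := ho
  have h3 : v ^ (2 * k + 1) = 1 := by rw [← hk]; exact pow_orderOf_eq_one v
  rwa [pow_succ, pow_mul, pow_two, h2, one_pow, one_mul] at h3

theorem odd_of_pgroup {H : Subgroup Y} (hp : p.Prime) (hp2 : p ≠ 2) (hH : IsPGroup p H) {v : Y} (hv : v ∈ H) :
    Odd (orderOf v) := by
  obtain ⟨k, hk⟩ := hH ⟨v, hv⟩
  have hk' : v ^ p ^ k = 1 := by
    have := congrArg Subtype.val hk
    simpa using this
  exact ((hp.odd_of_ne_two hp2).pow (n := k)).of_dvd_nat (orderOf_dvd_of_pow_eq_one hk')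

theorem exists_sqrt {v : Y} (ho : Odd (orderOf v)) {H : Subgroup Y} (hv : v ∈ H) : ∃ u ∈ H, v = u * u := by
  obtain ⟨k, hk⟩ := ho
  refine ⟨v ^ (k + 1), pow_mem hv _, ?_⟩
  have h3 : v ^ (2 * k + 1) = 1 := by rw [← hk]; exact pow_orderOf_eq_one v
  rw [← pow_add]
  have : k + 1 + (k + 1) = (2 * k + 1) + 1 := by ring
  rw [this, pow_succ, h3, one_mul]

variable (C : Cls cs h p T n X R Z z) (hR : ∀ x, IsRoot cs h x → x ∈ R) (hZ : ∀ x, IsRoot cs h x → Z x = X x)
  (hp : p.Prime) (hp2 : p ≠ 2)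

include C hR hZ hp hp2

/-- **`t` normalises the radical of `a` if it normalises the group and centralises `KK Z a`.** -/
theorem inv_VV {t : Y} (ht : t * t = 1) (hG : Inv t (GG cs h T X)) {a : I → ℤ} (ha : IsRoot cs h a)
    (hc : ∀ x ∈ KK Z a, t * x = x * t) : Inv t (VV cs h X a) := by
  have haR := hR a ha
  have hza : t * z a = z a * t := hc _ (C.z_mem a haR)
  refine inv_of_Sup ht fun y hy x hx => ?_
  by_cases hya : y = a
  · subst hya
    rw [conj_eq_of_comm ht (hc x ((le_sup_left : Z y ≤ KK Z y) (by rw [hZ y ha]; exact hx)))]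
    exact RGD.le_Sup (S := {x | IsRoot cs h x ∧ 0 < form cs h x y}) hy hx
  · have hya' : y ≠ -a := by
      rintro rfl
      have h1 := hy.2
      rw [form_neg_left] at h1
      have h2 := form_pos cs h ha.ne_zero
      omega
    obtain ⟨x₁, hx₁, e⟩ := exists_sqrt (odd_of_pgroup hp hp2 (C.rgd.pgrp' hy.1) hx) hx
    have hzi : (z a)⁻¹ = z a := inv_eq_of_mul_eq_one_left (C.z_sq a haR)
    have h1 := C.z_inv a haR y hy.1 hya hya' hy.2.ne' x₁⁻¹ (inv_mem hx₁)
    have h2 : x = x₁ * z a * x₁⁻¹ * (z a)⁻¹ := by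
      rw [hzi]
      calc x = x₁ * (x₁⁻¹)⁻¹ := by rw [e, inv_inv]
        _ = x₁ * (z a * x₁⁻¹ * z a) := by rw [h1]
        _ = _ := by group
    have hg : t * x₁ * t ∈ GG cs h T X := hG _ (X_le_GG hy.1 hx₁)
    have hN : t * x₁ * t ∈ Subgroup.normalizer (Z a : Set Y) := by
      apply Cfsg.Agent.Nodes.ClsNorm.centralizer_le_normalizer'
      rw [Subgroup.mem_centralizer_iff]
      intro w hw
      have hw' : w ∈ Z a := hw
      have h3 := hc w ((le_sup_left : Z a ≤ KK Z a) hw')
      have h4 := C.cent a haR y hy.1 hy.2.le x₁ hx₁ w hw'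
      calc w * (t * x₁ * t) = (w * t) * x₁ * t := by group
        _ = (t * w) * x₁ * t := by rw [h3]
        _ = t * (w * x₁) * t := by group
        _ = t * (x₁ * w) * t := by rw [h4]
        _ = t * x₁ * (w * t) := by group
        _ = t * x₁ * (t * w) := by rw [h3]
        _ = t * x₁ * t * w := by group
    have h3 := comm_mem_VV C haR hg hN
    have hti : t⁻¹ = t := inv_eq_of_mul_eq_one_left ht
    have h4 : t * x * t = t * x₁ * t * z a * (t * x₁ * t)⁻¹ * (z a)⁻¹ := by
      have h5 : t * z a * t = z a := conj_eq_of_comm ht hza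
      have h6 : (z a)⁻¹ * t = t * (z a)⁻¹ := by rw [hzi]; exact hza.symm
      have h7 : (t * x₁ * t)⁻¹ = t * x₁⁻¹ * t := by rw [mul_inv_rev, mul_inv_rev, hti]; group
      rw [h7]
      calc t * x * t = t * (x₁ * z a * x₁⁻¹ * (z a)⁻¹) * t := by rw [← h2]
        _ = t * x₁ * z a * x₁⁻¹ * ((z a)⁻¹ * t) := by group
        _ = t * x₁ * (t * z a * t) * x₁⁻¹ * (t * (z a)⁻¹) := by rw [h5, h6]
        _ = t * x₁ * t * z a * (t * x₁⁻¹ * t) * (z a)⁻¹ := by group
    rw [h4]; exact h3

/-- **The half space step.** -/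
theorem inv_step (hs : Sld cs h) {t : Y} (ht : t * t = 1) {S : Set (I → ℤ)} {a b : I → ℤ} (ha : IsRoot cs h a)
    (hb : IsRoot cs h b) (hab : form cs h a b = 0) (haS : a ∈ S)
    (hS : ∀ y ∈ S, IsRoot cs h y ∧ 0 < form cs h y a) (hc : ∀ x ∈ KK Z b, t * x = x * t)
    (hI : Inv t (RGD.Sup X S)) : Inv t (RGD.Sup X {y | y ∈ S ∧ 0 ≤ form cs h y b}) := by
  have hbR := hR b hb
  set Sp : Set (I → ℤ) := {y | y ∈ S ∧ 0 ≤ form cs h y b} with hSp
  set Sm : Set (I → ℤ) := {y | y ∈ S ∧ form cs h y b < 0} with hSm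
  have hnn : ∀ y ∈ S, ∀ y' ∈ S, y ≠ -y' := by
    intro y hy y' hy' e
    have h1 := (hS y hy).2
    have h2 := (hS y' hy').2
    rw [e, form_neg_left] at h1
    omega
  have hN : RGD.Sup X Sm ≤ Subgroup.normalizer (RGD.Sup X Sp : Set Y) := by
    refine RGD.Sup_le fun y hy => C.rgd.le_normalizer (hS y hy.1).1 fun y' hy' => ⟨(hS _ hy'.1).1, Or.inr
      ⟨hnn y hy.1 y' hy'.1, fun v hv => ?_⟩⟩
    have hne : y ≠ y' := by
      rintro rfl
      have h1 := hy.2
      have h2 := hy'.2
      omega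
    have h1 := btwn_eq hs (hS y hy.1).1 (hS y' hy'.1).1 hne (hnn y hy.1 y' hy'.1) hv ha (hS y hy.1).2
      (hS y' hy'.1).2
    rw [h1]
    exact ⟨haS, hab.ge⟩
  have hsup : RGD.Sup X S ≤ RGD.Sup X Sm ⊔ RGD.Sup X Sp := by
    refine RGD.Sup_le fun y hy => ?_
    rcases lt_or_ge (form cs h y b) 0 with h1 | h1
    · exact le_trans (RGD.le_Sup (S := Sm) ⟨hy, h1⟩) le_sup_left
    · exact le_trans (RGD.le_Sup (S := Sp) ⟨hy, h1⟩) le_sup_right
  -- commutation
  have hplus : ∀ w ∈ RGD.Sup X Sp, ∀ d ∈ Z b, d * w = w * d := by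
    intro w hw d hd
    have h1 : RGD.Sup X Sp ≤ Subgroup.centralizer (Z b : Set Y) :=
      RGD.Sup_le fun y hy => Cfsg.Agent.Nodes.ClsNorm.X_le_centralizer C hbR (hS y hy.1).1 hy.2
    exact Subgroup.mem_centralizer_iff.1 (h1 hw) d hd
  have hminus : ∀ w ∈ RGD.Sup X Sm, ∀ d ∈ Z (-b), d * w = w * d := by
    intro w hw d hd
    have h1 : RGD.Sup X Sm ≤ Subgroup.centralizer (Z (-b) : Set Y) :=
      RGD.Sup_le fun y hy => Cfsg.Agent.Nodes.ClsNorm.X_le_centralizer C (hR _ hb.neg) (hS y hy.1).1 (by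
        have h2 := hy.2
        rw [form_neg_right]; omega)
    exact Subgroup.mem_centralizer_iff.1 (h1 hw) d hd
  have habel : ∀ v ∈ RGD.Sup X Sm, ∀ v' ∈ RGD.Sup X Sm, v * v' = v' * v := by
    have h1 : ∀ y ∈ Sm, ∀ y' ∈ Sm, ∀ x ∈ X y, ∀ x' ∈ X y', x * x' = x' * x := by
      intro y hy y' hy' x hx x' hx'
      by_cases hyy : y = y'
      · subst hyy
        refine C.cent y (hR y (hS y hy.1).1) y (hS y hy.1).1 (form_pos cs h (hS y hy.1).1.ne_zero).le x hx x' ?_
        rw [hZ y (hS y hy.1).1]; exact hx'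
      · have h2 := Cfsg.Agent.Nodes.PairOf.comm_of_no_btwn C.rgd (hS y hy.1).1 (hS y' hy'.1).1 hyy
          (hnn y hy.1 y' hy'.1) (fun v hv => by
            have h3 := btwn_eq hs (hS y hy.1).1 (hS y' hy'.1).1 hyy (hnn y hy.1 y' hy'.1) hv ha (hS y hy.1).2
              (hS y' hy'.1).2
            subst h3
            obtain ⟨-, m, α, β, hm, hα, hβ, e⟩ := hv
            have h4 : m * form cs h v b = α * form cs h y b + β * form cs h y' b := by
              rw [← form_smul_left, e, form_add_left, form_smul_left, form_smul_left]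
            rw [hab, mul_zero] at h4
            have h5 := mul_neg_of_pos_of_neg hα hy.2
            have h6 := mul_neg_of_pos_of_neg hβ hy'.2
            omega) x hx x' hx'
        rwa [commutatorElement_eq_one_iff_mul_comm] at h2
    have h2 : ∀ y ∈ Sm, ∀ x ∈ X y, ∀ v' ∈ RGD.Sup X Sm, x * v' = v' * x := by
      intro y hy x hx v' hv'
      have h3 : RGD.Sup X Sm ≤ Subgroup.centralizer {x} := RGD.Sup_le fun y' hy' x' hx' => by
        rw [Subgroup.mem_centralizer_singleton_iff]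
        exact (h1 y hy y' hy' x hx x' hx').symm
      exact (Subgroup.mem_centralizer_singleton_iff.1 (h3 hv')).symm
    intro v hv v' hv'
    have h3 : RGD.Sup X Sm ≤ Subgroup.centralizer {v'} := RGD.Sup_le fun y hy x hx => by
      rw [Subgroup.mem_centralizer_singleton_iff]
      exact h2 y hy x hx v' hv'
    exact Subgroup.mem_centralizer_singleton_iff.1 (h3 hv)
  have hzz := C.z_sq b hbR
  have hinv : ∀ v ∈ RGD.Sup X Sm, z b * v * z b = v⁻¹ := by
    let H : Subgroup Y :=
      { carrier := {v | v ∈ RGD.Sup X Sm ∧ z b * v * z b = v⁻¹}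
        mul_mem' := by
          rintro v w ⟨hv, ev⟩ ⟨hw, ew⟩
          refine ⟨mul_mem hv hw, ?_⟩
          calc z b * (v * w) * z b = z b * v * 1 * w * z b := by group
            _ = z b * v * (z b * z b) * w * z b := by rw [hzz]
            _ = (z b * v * z b) * (z b * w * z b) := by group
            _ = v⁻¹ * w⁻¹ := by rw [ev, ew]
            _ = (w * v)⁻¹ := by group
            _ = (v * w)⁻¹ := by rw [habel v hv w hw]
        one_mem' := ⟨one_mem _, by rw [mul_one, hzz, inv_one]⟩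
        inv_mem' := by
          rintro v ⟨hv, ev⟩
          refine ⟨inv_mem hv, ?_⟩
          have h1 : z b * v⁻¹ * z b = (z b * v * z b)⁻¹ := by
            have hzi : (z b)⁻¹ = z b := inv_eq_of_mul_eq_one_left hzz
            rw [mul_inv_rev, mul_inv_rev, hzi, mul_assoc]
          rw [h1, ev] }
    have h1 : RGD.Sup X Sm ≤ H := RGD.Sup_le fun y hy x hx => by
      refine ⟨RGD.le_Sup hy hx, ?_⟩
      refine C.z_inv b hbR y (hS y hy.1).1 ?_ ?_ hy.2.ne x hx
      · rintro rfl
        have h2 := (hS y hy.1).2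
        rw [form_comm, hab] at h2
        exact lt_irrefl 0 h2
      · rintro rfl
        have h2 := (hS _ hy.1).2
        rw [form_neg_left, form_comm, hab, neg_zero] at h2
        exact lt_irrefl 0 h2
    exact fun v hv => (h1 hv).2
  intro x hx
  have h1 : t * x * t ∈ RGD.Sup X S := hI x (RGD.Sup_mono (fun y hy => hy.1) hx)
  have h2 : t * x * t ∈ ((RGD.Sup X Sm ⊔ RGD.Sup X Sp : Subgroup Y) : Set Y) := hsup h1
  rw [Subgroup.coe_mul_of_left_le_normalizer_right _ _ hN, Set.mem_mul] at h2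
  obtain ⟨v, hv, w, hw, e⟩ := h2
  have hv' : v ∈ RGD.Sup X Sm := hv
  have hw' : w ∈ RGD.Sup X Sp := hw
  have h3 : ∀ d ∈ Z b, d * v = v * d := by
    intro d hd
    have h4 := hc d ((le_sup_left : Z b ≤ KK Z b) hd)
    have h5 := hplus x hx d hd
    have h6 : d * (t * x * t) = t * x * t * d := by
      calc d * (t * x * t) = (d * t) * x * t := by group
        _ = (t * d) * x * t := by rw [h4]
        _ = t * (d * x) * t := by group
        _ = t * (x * d) * t := by rw [h5]
        _ = t * x * (d * t) := by group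
        _ = t * x * (t * d) := by rw [h4]
        _ = t * x * t * d := by group
    have h7 := hplus w hw' d hd
    have h8 : v = t * x * t * w⁻¹ := by rw [← e]; group
    have h9 : d * w⁻¹ = w⁻¹ * d := by
      calc d * w⁻¹ = w⁻¹ * (w * d) * w⁻¹ := by group
        _ = w⁻¹ * (d * w) * w⁻¹ := by rw [h7]
        _ = w⁻¹ * d := by group
    rw [h8]
    calc d * (t * x * t * w⁻¹) = (d * (t * x * t)) * w⁻¹ := by group
      _ = t * x * t * (d * w⁻¹) := by rw [h6]; group
      _ = t * x * t * w⁻¹ * d := by rw [h9]; group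
  have h4 : KK Z b ≤ Subgroup.centralizer {v} := by
    refine sup_le (fun d hd => ?_) (fun d hd => ?_)
    · rw [Subgroup.mem_centralizer_singleton_iff]; exact h3 d hd
    · rw [Subgroup.mem_centralizer_singleton_iff]; exact hminus v hv' d hd
  have h5 := Subgroup.mem_centralizer_singleton_iff.1 (h4 (C.z_mem b hbR))
  have h6 := hinv v hv'
  rw [h5, mul_assoc, hzz, mul_one] at h6
  have h7 : v * v = 1 := by
    nth_rewrite 2 [h6]
    exact mul_inv_cancel v
  have h8 : v ∈ VV cs h X a := RGD.Sup_mono (S := Sm) (fun y hy => hS y hy.1) hv'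
  have h9 := eq_one_of_odd (odd_of_pgroup hp hp2 (isPGroup_VV C a) h8) h7
  rw [← e, h9, one_mul]
  exact hw'

/-- two elements of a root group commute -/
theorem X_abel {y : I → ℤ} (hy : IsRoot cs h y) {a b : Y} (ha : a ∈ X y) (hb : b ∈ X y) : a * b = b * a :=
  C.cent y (hR y hy) y hy (form_pos cs h hy.ne_zero).le a ha b (by rw [hZ y hy]; exact hb)

theorem X_comm {y y' : I → ℤ} (hy : IsRoot cs h y) (hy' : IsRoot cs h y') (h0 : 0 ≤ form cs h y y') {a b : Y}
    (ha : a ∈ X y) (hb : b ∈ X y') : a * b = b * a :=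
  C.cent y' (hR y' hy') y hy h0 a ha b (by rw [hZ y' hy']; exact hb)

/-- An element `≠ 1` of `X s` commutes with no element `≠ 1` of `X (-b)`, `(s, b) > 0`. -/
theorem eq_one_of_comm (hs : Sld cs h) {s b : I → ℤ} (hsr : IsRoot cs h s) (hb : IsRoot cs h b)
    (h1 : cpr cs h s b = 1) {x y : Y} (hx : x ∈ X s) (hx1 : x ≠ 1) (hy : y ∈ X (-b)) (hxy : x * y = y * x) :
    y = 1 := by
  by_contra hy1
  obtain ⟨a, ha, c, hc, w, hm, hw⟩ := exists_refl_LL C.rgd hb hy hy1
  have h0 : 0 ≤ form cs h s b := ((cpr_pos_iff cs h s hb).1 (by omega)).le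
  have h2 := X_comm C hR hZ hp hp2 hsr hb h0 hx ha
  have h3 := X_comm C hR hZ hp hp2 hsr hb h0 hx hc
  have h4 : a * y * c * x * (a * y * c)⁻¹ = x := by
    have h5 : a * y * c * x = x * (a * y * c) := by
      calc a * y * c * x = a * y * (c * x) := by group
        _ = a * (y * x) * c := by rw [← h3]; group
        _ = (a * x) * y * c := by rw [← hxy]; group
        _ = x * (a * y * c) := by rw [← h2]; group
    rw [h5]; group
  have h5 := C.rgd.conj_mem hm hsr hx
  rw [h4, hw, h1, one_smul] at h5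
  have hsb : IsRoot cs h (s - b) := by
    have := isRoot_refl cs h hsr hb
    rwa [h1, one_smul] at this
  have hne : s ≠ s - b := by
    intro e
    apply hb.ne_zero
    have : b = s - (s - b) := by abel
    rw [this, ← e, sub_self]
  have h6 : x ∈ X s ⊓ X (s - b) := ⟨hx, h5⟩
  rw [Cfsg.Agent.Nodes.OppDec.X_inf_X C.rgd hsr hsb hne, Subgroup.mem_bot] at h6
  exact hx1 h6

/-- If `t` centralises `KK Z b` and an element `≠ 1` of `X s`, `(s, b) > 0`, then it centralises `X (s - b)`. -/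
theorem cent_step [Finite Y] (hs : Sld cs h) {t : Y} {s b : I → ℤ} (hsr : IsRoot cs h s) (hb : IsRoot cs h b)
    (h1 : cpr cs h s b = 1) (hc : ∀ x ∈ KK Z b, t * x = x * t) {x : Y} (hx : x ∈ X s) (hx1 : x ≠ 1)
    (htx : t * x = x * t) : ∀ w ∈ X (s - b), t * w = w * t := by
  have hsb : IsRoot cs h (s - b) := by
    have := isRoot_refl cs h hsr hb
    rwa [h1, one_smul] at this
  obtain ⟨hne, hne'⟩ := ne_of_cpr hsr hb (by rw [h1]; norm_num)
  have hcomm : ∀ y ∈ X (-b), x * y * x⁻¹ * y⁻¹ ∈ X (s - b) := by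
    intro y hy
    have h2 := C.rgd.comm s (-b) hsr hb.neg hne' (by rwa [neg_neg]) x hx y hy
    have h3 : btw cs h X s (-b) ≤ X (s - b) := by
      unfold Cfsg.Agent.Nodes.Reps.btw
      refine iSup_le ?_
      rintro ⟨v, hv⟩
      have e := btwn_sub hs hsr hb h1 hv
      change X v ≤ X (s - b)
      rw [e]
    have h4 := h3 h2
    rwa [commutatorElement_def] at h4
  -- the elements of `X (s - b)` commute with `X (-b)`
  have h0 : 0 ≤ form cs h (s - b) (-b) := by
    have h2 := two_form_cpr cs h s hb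
    have h3 := form_pos cs h hb.ne_zero
    rw [h1, one_mul] at h2
    rw [form_neg_right, form_sub_left]
    omega
  let f : ↥(X (-b)) → ↥(X (s - b)) := fun y => ⟨x * y * x⁻¹ * (y : Y)⁻¹, hcomm y y.2⟩
  have hinj : Function.Injective f := by
    intro y y' e
    have e1 : x * y * x⁻¹ * (y : Y)⁻¹ = x * y' * x⁻¹ * (y' : Y)⁻¹ := congrArg Subtype.val e
    set c := x * (y' : Y) * x⁻¹ * (y' : Y)⁻¹ with hcd
    have hcm : c ∈ X (s - b) := hcomm _ y'.2
    have e2 : x * (y : Y) * x⁻¹ = c * y := by rw [← e1]; group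
    have e3 : x * (y' : Y) * x⁻¹ = c * y' := by rw [hcd]; group
    have e4 : x * ((y : Y) * (y' : Y)⁻¹) * x⁻¹ = (y : Y) * (y' : Y)⁻¹ := by
      have h2 := X_comm C hR hZ hp hp2 hsb hb.neg h0 hcm (mul_mem y.2 (inv_mem y'.2))
      calc x * ((y : Y) * (y' : Y)⁻¹) * x⁻¹ = (x * y * x⁻¹) * (x * y' * x⁻¹)⁻¹ := by group
        _ = c * y * (c * y')⁻¹ := by rw [e2, e3]
        _ = c * (y * (y' : Y)⁻¹) * c⁻¹ := by group
        _ = (y : Y) * (y' : Y)⁻¹ := by rw [h2]; group
    have e5 : x * ((y : Y) * (y' : Y)⁻¹) = (y : Y) * (y' : Y)⁻¹ * x := by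
      nth_rewrite 2 [← e4]; group
    have e6 := eq_one_of_comm C hR hZ hp hp2 hs hsr hb h1 hx hx1 (mul_mem y.2 (inv_mem y'.2)) e5
    exact Subtype.ext (mul_inv_eq_one.1 e6)
  have hcard : Nat.card ↥(X (-b)) = Nat.card ↥(X (s - b)) := by
    obtain ⟨w, hw⟩ := Cfsg.Agent.Nodes.KindBase.exists_refl cs h hsr
    obtain ⟨k, hk⟩ := exists_rp cs C.rgd.nsys w
    have h2 := C.rgd.conj_rp hk hb.neg
    have h3 := cpr_symm hs hsr hb h1
    rw [hw, cpr_neg cs h _ hsr, h3] at h2
    have h4 : -b - (-1 : ℤ) • s = s - b := by rw [neg_one_smul]; abel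
    rw [h4] at h2
    rw [← h2]
    exact Nat.card_congr ((X (-b)).equivMapOfInjective (MulAut.conj k).toMonoidHom
      (MulAut.conj k).injective).toEquiv
  have hsurj : Function.Surjective f := ((Nat.bijective_iff_injective_and_card f).2 ⟨hinj, hcard⟩).2
  intro w hw
  obtain ⟨y, hy⟩ := hsurj ⟨w, hw⟩
  have e : x * y * x⁻¹ * (y : Y)⁻¹ = w := congrArg Subtype.val hy
  have hty : t * (y : Y) = y * t := hc y ((le_sup_right : Z (-b) ≤ KK Z b) (by rw [hZ _ hb.neg]; exact y.2))
  have hx' : Commute t x := htx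
  have hy' : Commute t (y : Y) := hty
  rw [← e]
  exact ((hx'.mul_right hy').mul_right hx'.inv_right).mul_right hy'.inv_right

end Groups

/-! ### Frames -/

section Frames

variable {I W Y : Type*} [Fintype I] [DecidableEq I] [Group W] [Fintype W] [Group Y] {M : CoxeterMatrix I}
  {cs : CoxeterSystem M W} {A : I → I → ℤ} {h : IsCartan M A} {p : ℕ} {T : Subgroup Y} {n : I → Y}
  {X : (I → ℤ) → Subgroup Y} {R : Set (I → ℤ)} {Z : (I → ℤ) → Subgroup Y} {z : (I → ℤ) → Y}

variable (cs h) in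
/-- The frame of four orthogonal roots in the root system `D₄`. -/
structure Fr {ι : Type*} (g : ι → I → ℤ) : Prop where
  sld : Sld cs h
  root : ∀ k, IsRoot cs h (g k)
  orth : ∀ k l, k ≠ l → form cs h (g k) (g l) = 0
  dich : ∀ y, IsRoot cs h y → (∃ k, y = g k ∨ y = -g k) ∨ ∀ k, |cpr cs h y (g k)| = 1
  det : ∀ y y', IsRoot cs h y → IsRoot cs h y' → (∀ k, cpr cs h y (g k) = cpr cs h y' (g k)) → y = y'

variable {ι : Type*} {g : ι → I → ℤ}

theorem abs_one {a : ℤ} (ha : |a| = 1) : a = 1 ∨ a = -1 := by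
  rcases abs_choice a with h1 | h1 <;> rw [h1] at ha <;> omega

theorem KK_sgn {a : ℤ} (ha : |a| = 1) (r : I → ℤ) : KK Z (a • r) = KK Z r := by
  rcases abs_one ha with h1 | h1
  · rw [h1, one_smul]
  · rw [h1, neg_one_smul, KK_neg]

theorem root_sgn {a : ℤ} (ha : |a| = 1) {r : I → ℤ} (hr : IsRoot cs h r) : IsRoot cs h (a • r) := by
  rcases abs_one ha with h1 | h1
  · rw [h1, one_smul]; exact hr
  · rw [h1, neg_one_smul]; exact hr.neg

/-- the products determine each other -/
theorem sgn_form {y r : I → ℤ} (hr : IsRoot cs h r) (ha : |cpr cs h y r| = 1) :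
    0 < cpr cs h y r * form cs h y r := by
  have h2 := two_form_cpr cs h y hr
  have h3 := form_pos cs h hr.ne_zero
  rcases abs_one ha with h1 | h1
  · rw [h1, one_mul] at h2 ⊢; omega
  · rw [h1] at h2 ⊢; omega

theorem cpr_eq_of_sgn {y s r : I → ℤ} (hr : IsRoot cs h r) (hy : |cpr cs h y r| = 1) (hs : |cpr cs h s r| = 1)
    (h0 : 0 ≤ form cs h y (cpr cs h s r • r)) : cpr cs h y r = cpr cs h s r := by
  have h2 := sgn_form hr hy
  rw [form_smul_right] at h0
  rcases abs_one hy with h1 | h1 <;> rcases abs_one hs with h3 | h3 <;> rw [h1] at h2 ⊢ <;> rw [h3] at h0 ⊢ <;>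
    omega

variable (C : Cls cs h p T n X R Z z) (hR : ∀ x, IsRoot cs h x → x ∈ R) (hZ : ∀ x, IsRoot cs h x → Z x = X x)
  (hp : p.Prime) (hp2 : p ≠ 2)

include C hR hZ hp hp2

open Classical in
/-- **`t` normalises the root groups.** -/
theorem norm_X [Fintype ι] (F : Fr cs h g) {t : Y} (ht : t * t = 1) (hG : Inv t (GG cs h T X))
    (hc : ∀ k, ∀ x ∈ KK Z (g k), t * x = x * t) (k0 : ι) {s : I → ℤ} (hs : IsRoot cs h s)
    (hs1 : ∀ k, |cpr cs h s (g k)| = 1) : Inv t (X s) := by
  let b : ι → I → ℤ := fun k => cpr cs h s (g k) • g k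
  have hb : ∀ k, IsRoot cs h (b k) := fun k => root_sgn (hs1 k) (F.root k)
  have hbc : ∀ k, ∀ x ∈ KK Z (b k), t * x = x * t := fun k x hx => hc k x (by
    rw [← KK_sgn (Z := Z) (hs1 k) (g k)]; exact hx)
  have hbo : ∀ k l, k ≠ l → form cs h (b k) (b l) = 0 := fun k l hkl => by
    change form cs h (cpr cs h s (g k) • g k) (cpr cs h s (g l) • g l) = 0
    rw [form_smul_left, form_smul_right, F.orth k l hkl, mul_zero, mul_zero]
  set a := b k0 with ha
  have claim : ∀ A : Finset ι, k0 ∉ A →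
      Inv t (RGD.Sup X {y | (IsRoot cs h y ∧ 0 < form cs h y a) ∧ ∀ k ∈ A, 0 ≤ form cs h y (b k)}) := by
    intro A
    induction A using Finset.induction_on with
    | empty =>
      intro _
      have h1 := inv_VV C hR hZ hp hp2 ht hG (hb k0) (hbc k0)
      unfold VV at h1
      convert h1 using 3
      ext y
      simp [ha]
    | insert k A hk ih =>
      intro hk0
      rw [Finset.mem_insert, not_or] at hk0
      have h1 := inv_step C hR hZ hp hp2 F.sld ht (hb k0) (hb k) (hbo k0 k hk0.1)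
        (S := {y | (IsRoot cs h y ∧ 0 < form cs h y a) ∧ ∀ k ∈ A, 0 ≤ form cs h y (b k)})
        ⟨⟨hb k0, form_pos cs h (hb k0).ne_zero⟩, fun l hl => (hbo k0 l fun e => hk0.2 (e ▸ hl)).ge⟩
        (fun y hy => hy.1) (hbc k) (ih hk0.2)
      convert h1 using 3
      ext y
      constructor
      · rintro ⟨h2, h3⟩
        exact ⟨⟨h2, fun l hl => h3 l (Finset.mem_insert_of_mem hl)⟩, h3 k (Finset.mem_insert_self _ _)⟩
      · rintro ⟨⟨h2, h3⟩, h4⟩
        refine ⟨h2, fun l hl => ?_⟩
        rcases Finset.mem_insert.1 hl with rfl | hl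
        · exact h4
        · exact h3 l hl
  have h1 := claim (Finset.univ.erase k0) (Finset.notMem_erase _ _)
  set S : Set (I → ℤ) := {y | (IsRoot cs h y ∧ 0 < form cs h y a) ∧
    ∀ k ∈ Finset.univ.erase k0, 0 ≤ form cs h y (b k)} with hS
  have hsS : s ∈ S := by
    refine ⟨⟨hs, ?_⟩, fun k _ => ?_⟩
    · change 0 < form cs h s (cpr cs h s (g k0) • g k0)
      rw [form_smul_right]; exact sgn_form (F.root k0) (hs1 k0)
    · change 0 ≤ form cs h s (cpr cs h s (g k) • g k)
      rw [form_smul_right]; exact (sgn_form (F.root k) (hs1 k)).le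
  have hS2 : ∀ y ∈ S, y = a ∨ y = s := by
    rintro y ⟨⟨hy, hya⟩, hyk⟩
    rcases F.dich y hy with ⟨k, hk⟩ | hk
    · left
      have hkk : k = k0 := by
        by_contra hne
        have h2 : form cs h y a = 0 := by
          change form cs h y (cpr cs h s (g k0) • g k0) = 0
          rcases hk with rfl | rfl
          · rw [form_smul_right, F.orth k k0 hne, mul_zero]
          · rw [form_smul_right, form_neg_left, F.orth k k0 hne, neg_zero, mul_zero]
        omega
      subst hkk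
      have h3 := form_pos cs h (F.root k).ne_zero
      change 0 < form cs h y (cpr cs h s (g k) • g k) at hya
      change y = cpr cs h s (g k) • g k
      rw [form_smul_right] at hya
      rcases hk with rfl | rfl <;> rcases abs_one (hs1 k) with h4 | h4 <;> rw [h4] at hya ⊢
      · rw [one_smul]
      · omega
      · rw [form_neg_left] at hya; omega
      · rw [neg_one_smul]
    · right
      refine F.det y s hy hs fun k => cpr_eq_of_sgn (F.root k) (hk k) (hs1 k) ?_
      by_cases hkk : k = k0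
      · subst hkk; exact hya.le
      · exact hyk k (Finset.mem_erase.2 ⟨hkk, Finset.mem_univ _⟩)
  have hsup : RGD.Sup X S ≤ X a ⊔ X s := RGD.Sup_le fun y hy => by
    rcases hS2 y hy with e | e
    · rw [e]; exact le_sup_left
    · rw [e]; exact le_sup_right
  have has : 0 < form cs h a s := by rw [form_comm]; exact hsS.1.2
  have hN : X a ≤ Subgroup.normalizer (X s : Set Y) := by
    refine le_trans (fun u hu => ?_) (Cfsg.Agent.Nodes.ClsNorm.centralizer_le_normalizer' _)
    rw [Subgroup.mem_centralizer_iff]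
    intro v hv
    exact (X_comm C hR hZ hp hp2 (hb k0) hs has.le hu hv).symm
  intro x hx
  have h2 : t * x * t ∈ ((X a ⊔ X s : Subgroup Y) : Set Y) := hsup (h1 x (RGD.le_Sup hsS hx))
  rw [Subgroup.coe_mul_of_left_le_normalizer_right _ _ hN, Set.mem_mul] at h2
  obtain ⟨u, hu, v, hv, e⟩ := h2
  have hu' : u ∈ X a := hu
  have hv' : v ∈ X s := hv
  have haR := hR a (hb k0)
  have hzz := C.z_sq a haR
  have hzt : t * z a = z a * t := hbc k0 _ (C.z_mem a haR)
  have hsa : s ≠ a := by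
    intro e
    have h3 := hs1 k0
    rw [e] at h3
    change |cpr cs h (cpr cs h s (g k0) • g k0) (g k0)| = 1 at h3
    rw [cpr_smul cs h _ _ (F.root k0), cpr_self cs h (F.root k0), abs_mul, hs1 k0] at h3
    norm_num at h3
  have hsa' : s ≠ -a := by
    intro e
    rw [e, form_neg_right] at has
    have h3 : 0 < form cs h a a := form_pos cs h (hb k0).ne_zero
    omega
  have h3 := C.z_inv a haR s hs hsa hsa' (by rw [form_comm]; exact has.ne') x hx
  have h4 := C.z_inv a haR s hs hsa hsa' (by rw [form_comm]; exact has.ne') v hv'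
  have h5 := C.z_cent a haR u (by rw [hZ a (hb k0)]; exact hu')
  have hti : t⁻¹ = t := inv_eq_of_mul_eq_one_left ht
  have h6 : z a * (t * x * t) * z a = (t * x * t)⁻¹ := by
    have h7 : (t * x * t)⁻¹ = t * x⁻¹ * t := by rw [mul_inv_rev, mul_inv_rev, hti]; group
    rw [h7, ← h3]
    calc z a * (t * x * t) * z a = (z a * t) * x * (t * z a) := by group
      _ = (t * z a) * x * (z a * t) := by rw [hzt]
      _ = t * (z a * x * z a) * t := by group
  rw [← e] at h6
  have h7 : z a * (u * v) * z a = u * v⁻¹ := by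
    calc z a * (u * v) * z a = (z a * u) * v * z a := by group
      _ = u * (z a * v * z a) := by rw [h5]; group
      _ = u * v⁻¹ := by rw [h4]
  rw [h7] at h6
  have h8 := X_comm C hR hZ hp hp2 (hb k0) hs has.le hu' hv'
  have h9 : u * u = 1 := by
    have h10 : u * v⁻¹ * (u * v) = 1 := by rw [h6]; group
    calc u * u = u * v⁻¹ * (v * u) := by group
      _ = u * v⁻¹ * (u * v) := by rw [h8]
      _ = 1 := h10
  have h10 := eq_one_of_odd (odd_of_pgroup hp hp2 (C.rgd.pgrp' (hb k0)) hu') h9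
  rw [← e, h10, one_mul]
  exact hv'

/-- the reflections in the frame roots -/
theorem cent_refl [Finite Y] (F : Fr cs h g) {t : Y} (hc : ∀ k, ∀ x ∈ KK Z (g k), t * x = x * t)
    {s : I → ℤ} (hs : IsRoot cs h s) (hs1 : ∀ k, |cpr cs h s (g k)| = 1) (k : ι)
    (hx : ∃ x ∈ X s, x ≠ 1 ∧ t * x = x * t) :
    IsRoot cs h (s - cpr cs h s (g k) • g k) ∧ (∀ l, |cpr cs h (s - cpr cs h s (g k) • g k) (g l)| = 1) ∧
      (∀ l, l ≠ k → cpr cs h (s - cpr cs h s (g k) • g k) (g l) = cpr cs h s (g l)) ∧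
      cpr cs h (s - cpr cs h s (g k) • g k) (g k) = -cpr cs h s (g k) ∧
      ∀ w ∈ X (s - cpr cs h s (g k) • g k), t * w = w * t := by
  obtain ⟨x, hx, hx1, htx⟩ := hx
  have h1 : ∀ l, cpr cs h (s - cpr cs h s (g k) • g k) (g l) =
      cpr cs h s (g l) - cpr cs h s (g k) * cpr cs h (g k) (g l) := fun l => by
    rw [Cfsg.Agent.Nodes.KindBase.cpr_sub cs h _ _ (F.root l), cpr_smul cs h _ _ (F.root l)]
  have h2 : ∀ l, l ≠ k → cpr cs h (s - cpr cs h s (g k) • g k) (g l) = cpr cs h s (g l) := fun l hl => by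
    rw [h1, (cpr_zero_iff cs h (g k) (F.root l)).2 (F.orth k l (Ne.symm hl)), mul_zero, sub_zero]
  have h3 : cpr cs h (s - cpr cs h s (g k) • g k) (g k) = -cpr cs h s (g k) := by
    rw [h1, cpr_self cs h (F.root k)]; ring
  refine ⟨isRoot_refl cs h hs (F.root k), fun l => ?_, h2, h3, ?_⟩
  · by_cases hl : l = k
    · rw [hl, h3, abs_neg]; exact hs1 k
    · rw [h2 l hl]; exact hs1 l
  · have h4 : cpr cs h s (cpr cs h s (g k) • g k) = 1 := by
      rcases abs_one (hs1 k) with h5 | h5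
      · rw [h5, one_smul, h5]
      · rw [h5, neg_one_smul, cpr_neg_right cs h _ (F.root k), h5]; norm_num
    exact cent_step C hR hZ hp hp2 F.sld hs (root_sgn (hs1 k) (F.root k)) h4 (fun y hy => hc k y (by
      rw [← KK_sgn (Z := Z) (hs1 k) (g k)]; exact hy)) hx hx1 htx

open Classical in
/-- If `t` centralises an element `≠ 1` of a root group not in the frame then it centralises all root groups. -/
theorem cent_all [Fintype ι] [Finite Y] (F : Fr cs h g) {t : Y} (hc : ∀ k, ∀ x ∈ KK Z (g k), t * x = x * t)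
    (k0 : ι) {s : I → ℤ} (hs : IsRoot cs h s) (hs1 : ∀ k, |cpr cs h s (g k)| = 1)
    (hx : ∃ x ∈ X s, x ≠ 1 ∧ t * x = x * t) {y : I → ℤ} (hy : IsRoot cs h y) : ∀ w ∈ X y, t * w = w * t := by
  have hne : ∀ {v : I → ℤ}, IsRoot cs h v → (∀ w ∈ X v, t * w = w * t) → ∃ x ∈ X v, x ≠ 1 ∧ t * x = x * t := by
    intro v hv hw
    by_contra h0
    push Not at h0
    apply Cfsg.Agent.Nodes.Bruhat.X_ne_bot C.rgd hv
    rw [Subgroup.eq_bot_iff_forall]
    intro x hx
    by_contra hx1
    exact h0 x hx hx1 (hw x hx)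
  rcases F.dich y hy with ⟨k, hk⟩ | hk
  · intro w hw
    refine hc k w ?_
    rcases hk with rfl | rfl
    · exact (le_sup_left : Z (g k) ≤ KK Z (g k)) (by rw [hZ _ (F.root k)]; exact hw)
    · exact (le_sup_right : Z (-g k) ≤ KK Z (g k)) (by rw [hZ _ (F.root k).neg]; exact hw)
  have claim : ∀ A : Finset ι, ∃ v, IsRoot cs h v ∧ (∀ k, |cpr cs h v (g k)| = 1) ∧
      (∀ w ∈ X v, t * w = w * t) ∧ ∀ k ∈ A, cpr cs h v (g k) = cpr cs h y (g k) := by
    intro A
    induction A using Finset.induction_on with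
    | empty =>
      obtain ⟨e1, e2, -, -, e3⟩ := cent_refl C hR hZ hp hp2 F hc hs hs1 k0 hx
      exact ⟨_, e1, e2, e3, fun k hk => absurd hk (Finset.notMem_empty k)⟩
    | insert k A hkA ih =>
      obtain ⟨v, hv, hv1, hvw, hvA⟩ := ih
      by_cases hvk : cpr cs h v (g k) = cpr cs h y (g k)
      · refine ⟨v, hv, hv1, hvw, fun l hl => ?_⟩
        rcases Finset.mem_insert.1 hl with rfl | hl
        · exact hvk
        · exact hvA l hl
      · obtain ⟨e1, e2, e3, e4, e5⟩ := cent_refl C hR hZ hp hp2 F hc hv hv1 k (hne hv hvw)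
        refine ⟨_, e1, e2, e5, fun l hl => ?_⟩
        rcases Finset.mem_insert.1 hl with rfl | hl
        · rw [e4]
          rcases abs_one (hv1 l) with h5 | h5 <;> rcases abs_one (hk l) with h6 | h6 <;> rw [h5, h6] at hvk ⊢ <;>
            omega
        · rw [e3 l (fun e => hkA (e ▸ hl))]
          exact hvA l hl
  obtain ⟨v, hv, hv1, hvw, hvA⟩ := claim Finset.univ
  have e := F.det v y hv hy fun k => hvA k (Finset.mem_univ k)
  rw [← e]
  exact hvw

/-- `z (g k)` centralises all frame members -/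
theorem z_cent_KK (F : Fr cs h g) (k l : ι) {x : Y} (hx : x ∈ KK Z (g l)) : z (g k) * x = x * z (g k) := by
  by_cases hkl : k = l
  · subst hkl
    exact (cls_commute_z C (hR _ (F.root k)) hx).symm
  · have h1 := Cfsg.Agent.Nodes.RelFrame.cm_KK C (hR _ (F.root k)) (hR _ (F.root l)) (F.orth k l hkl)
    exact h1 _ (C.z_mem _ (hR _ (F.root k))) x hx

/-- **The dichotomy.** -/
theorem dichotomy [Fintype ι] [Finite Y] (F : Fr cs h g) {t : Y} (ht : t * t = 1) (hG : Inv t (GG cs h T X))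
    (hc : ∀ k, ∀ x ∈ KK Z (g k), t * x = x * t) (k0 : ι) :
    (∀ x ∈ G1 cs h X, t * x = x * t) ∨ ∀ k, ∀ x ∈ G1 cs h X, (t * z (g k)) * x = x * (t * z (g k)) := by
  have red : ∀ {u : Y}, (∀ y, IsRoot cs h y → ∀ w ∈ X y, u * w = w * u) → ∀ x ∈ G1 cs h X, u * x = x * u := by
    intro u hu x hx
    have h1 : G1 cs h X ≤ Subgroup.centralizer {u} := RGD.Sup_le fun y hy w hw => by
      rw [Subgroup.mem_centralizer_singleton_iff]
      exact (hu y hy w hw).symm
    exact (Subgroup.mem_centralizer_singleton_iff.1 (h1 hx)).symm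
  by_cases hcase : ∃ s, IsRoot cs h s ∧ (∀ k, |cpr cs h s (g k)| = 1) ∧ ∃ x ∈ X s, x ≠ 1 ∧ t * x = x * t
  · left
    obtain ⟨s, hs, hs1, hx⟩ := hcase
    exact red fun y hy w hw => cent_all C hR hZ hp hp2 F hc k0 hs hs1 hx hy w hw
  · right
    intro k
    refine red fun y hy w hw => ?_
    rcases F.dich y hy with ⟨l, hl⟩ | hl
    · have hw' : w ∈ KK Z (g l) := by
        rcases hl with rfl | rfl
        · exact (le_sup_left : Z (g l) ≤ KK Z (g l)) (by rw [hZ _ (F.root l)]; exact hw)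
        · exact (le_sup_right : Z (-g l) ≤ KK Z (g l)) (by rw [hZ _ (F.root l).neg]; exact hw)
      rw [mul_assoc, z_cent_KK C hR hZ hp hp2 F k l hw', ← mul_assoc, hc l w hw', mul_assoc]
    · -- `t` inverts `X y`
      have h1 := norm_X C hR hZ hp hp2 F ht hG hc k0 hy hl
      have h2 : t * w * t = w⁻¹ := by
        by_contra h3
        apply hcase
        refine ⟨y, hy, hl, w * (t * w * t), mul_mem hw (h1 w hw), fun h4 => h3 (eq_inv_of_mul_eq_one_right h4), ?_⟩
        have h5 := X_abel C hR hZ hp hp2 hy hw (h1 w hw)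
        calc t * (w * (t * w * t)) = (t * w * t) * w * t := by group
          _ = w * (t * w * t) * t := by rw [← h5]
      have hkR := hR _ (F.root k)
      obtain ⟨n1, n2⟩ := ne_of_cpr hy (F.root k) (hl k)
      have h3 := C.z_inv (g k) hkR y hy n1 n2 (fun h0 => by
        have h4 := (cpr_zero_iff cs h y (F.root k)).2 h0
        have h5 := hl k
        rw [h4] at h5
        norm_num at h5) w hw
      have hzz := C.z_sq (g k) hkR
      have hzi : (z (g k))⁻¹ = z (g k) := inv_eq_of_mul_eq_one_left hzz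
      have h4 : z (g k) * w = w⁻¹ * z (g k) := by
        rw [← h3, mul_assoc, hzz, mul_one]
      have h5 : t * w⁻¹ = w * t := by
        have h6 : t * w⁻¹ * t = w := by
          have h7 : t * (t * w * t) * t = w := by
            calc t * (t * w * t) * t = (t * t) * w * (t * t) := by group
              _ = w := by rw [ht]; group
          rwa [h2] at h7
        calc t * w⁻¹ = t * w⁻¹ * (t * t) := by rw [ht, mul_one]
          _ = (t * w⁻¹ * t) * t := by group
          _ = w * t := by rw [h6]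
      calc t * z (g k) * w = t * (z (g k) * w) := by group
        _ = (t * w⁻¹) * z (g k) := by rw [h4]; group
        _ = w * (t * z (g k)) := by rw [h5]; group

end Frames

end Cfsg.Agent.Cit.TypeDet.DFourAut
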