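import Cfsg.Agent.Cit.TypeDet.Red

/-!
# STEP 1, the case of two `D4`-classes (#6332 (b), shorter version)

Frames with exactly two classes `c`, `d` such that a member of `Om` commuting with `d` and with one member of
`c` is in `c` (true when `Y_c`, `Y_d` are `D4`-groups).  Write `D(c) = Cen Om c` (so `TT F M = D(c)`, `M ∈ d`).
* `norm_TT` : `C(z_K)`, `K ∈ c`, normalises `D(c)`;
* if `K' ∈ D(d)`, `[z_K, z_K'] = 1` and `F' = c' ∪ d ∋ K'` is a frame, then `z_K` acts on `D(c')` as `1` or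
  as `z_M`, `M ∈ d`.  As `1`: `D(c') = D(c)`.  Otherwise `u = z_K z_M` centralises `D(c')` and, by symmetry,
  some `D(d') ≠ D(d)`; `c` and `d` are in different pieces of `⟨Om ∩ C(u)⟩` (T), so `D(c') = D(c)`.
* the graph on `D(d)` with edges `[z, z'] = 1` is connected, so `D(c)` centralises `D(d)`.
-/

set_option autoImplicit false
set_option linter.unusedSectionVars false
set_option linter.unusedVariables false

namespace Cfsg.Agent.Cit.TypeDet.Red

open Subgroup Relation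

variable {G : Type*} [Group G]

/-- one step of the graph 'commuting involutions' -/
def zstp (T : Set (Subgroup G)) (X Y : Subgroup G) : Prop :=
  X ∈ T ∧ Y ∈ T ∧ zz X * zz Y = zz Y * zz X

structure DHyp (Om : Set (Subgroup G)) (Fs : Set (Set (Subgroup G))) : Prop where
  fr : Frames Om Fs
  zcj : ∀ K ∈ Om, ∀ g, zz (cj g K) = g * zz K * g⁻¹
  zsq : ∀ K ∈ Om, zz K * zz K = 1
  zc : ∀ K ∈ Om, ∀ x ∈ K, x * zz K = zz K * x
  /-- at most two classes -/
  two : ∀ F ∈ Fs, ∀ K ∈ F, ∀ M ∈ F, ∀ N ∈ F, app Om F K M ∨ app Om F K N ∨ app Om F M N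
  /-- classes have at least two members -/
  card : ∀ F ∈ Fs, ∀ K ∈ F, ∃ K' ∈ cls Om F K, K' ≠ K
  /-- the `D4`-property of the frame -/
  sgl : ∀ F ∈ Fs, ∀ K ∈ F, ∀ M ∈ F, ¬ app Om F K M → ∀ X ∈ TT Om F K, ∀ N ∈ cls Om F K,
    cm X N → X ∈ cls Om F K
  /-- `[X, z_K] = 1` implies `X = K` or `[X, K] = 1` -/
  lem : ∀ X ∈ Om, ∀ K ∈ Om, (∀ x ∈ X, x * zz K = zz K * x) → X = K ∨ cm X K
  zne : ∀ F ∈ Fs, ∀ K ∈ F, ∀ M ∈ F, ¬ app Om F K M → zz K ≠ zz M
  /-- LEMMA Z for `D4` -/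
  zcon : ∀ F ∈ Fs, ∀ K ∈ F, ∀ M ∈ F, ¬ app Om F K M → ∀ X ∈ TT Om F K,
    ReflTransGen (zstp (TT Om F K)) K X
  /-- an involution of `C(z_K)` centralising the frame of a `D4`-group acts as `1` or as `z_M` -/
  aut : ∀ F ∈ Fs, ∀ K ∈ F, ∀ M ∈ F, ¬ app Om F K M → ∀ t : G, t * t = 1 → t * zz K = zz K * t →
    (∀ X ∈ TT Om F M, cj t X ∈ TT Om F M) → (∀ N ∈ cls Om F M, ∀ x ∈ N, t * x = x * t) →
    (∀ X ∈ TT Om F M, ∀ x ∈ X, t * x = x * t) ∨
      (∀ X ∈ TT Om F M, ∀ x ∈ X, (t * zz M) * x = x * (t * zz M))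
  /-- theorem T for `C(z_K z_M)` -/
  tu : ∀ F ∈ Fs, ∀ K ∈ F, ∀ M ∈ F, ¬ app Om F K M →
    ¬ chn {X | X ∈ Om ∧ ∀ x ∈ X, (zz K * zz M) * x = x * (zz K * zz M)} K M

namespace DHyp

variable {Om : Set (Subgroup G)} {Fs : Set (Set (Subgroup G))} (h : DHyp Om Fs)
  {F : Set (Subgroup G)}

include h

/-- the other members of the class are single chain classes -/
theorem single (hF : F ∈ Fs) {K M N : Subgroup G} (hK : K ∈ F) (hM : M ∈ F)
    (hKM : ¬ app Om F K M) (hN : N ∈ cls Om F K) {X : Subgroup G}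
    (hX : chn (Cen Om {K}) N X) : X = N := by
  have hf := h.fr.frm F hF
  induction hX with
  | refl => rfl
  | @tail Y Z h1 h2 ih =>
    subst ih
    have hZ := mem_Cen_single.mp h2.2.1
    by_cases hall : ∀ P ∈ F \ cls Om F K, cm Z P
    · have h3 : Z ∈ cls Om F K :=
        h.sgl F hF K hK M hM hKM Z ⟨hZ.1, hall⟩ K (self_mem_cls hK) hZ.2
      by_contra hne
      exact h2.2.2 (hf.comm _ hN.1 _ h3.1 (fun e => hne e.symm))
    · exfalso
      push Not at hall
      obtain ⟨P, ⟨hP, hPK⟩, hn⟩ := hall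
      have hPneK : P ≠ K := by
        intro e
        apply hPK
        rw [e]
        exact self_mem_cls hK
      have hNK : Y ≠ K := fun e => by
        have := (mem_Cen_single.mp h2.1).2
        rw [e] at this
        exact hf.not_cm_self hK this
      have h3 : chn (Cen Om {K}) Y P :=
        (ReflTransGen.single h2).tail ⟨h2.2.1, hf.mem_Cen hP hK hPneK, hn⟩
      apply hPK
      exact ⟨hP, app_trans hN.2 (hf.app_of_chn hN.1 hP hK hNK hPneK h3)⟩

/-- `C(z_K)` permutes the class of `K` -/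
theorem cj_mem_cls (hF : F ∈ Fs) {K M : Subgroup G} (hK : K ∈ F) (hM : M ∈ F)
    (hKM : ¬ app Om F K M) {g : G} (hg : g * zz K * g⁻¹ = zz K) : cj g K ∈ cls Om F K := by
  have hf := h.fr.frm F hF
  have hKO := hf.sub hK
  have hK2O : cj g K ∈ Om := h.fr.conj K hKO g
  have hz : zz (cj g K) = zz K := by rw [h.zcj K hKO, hg]
  rcases h.lem (cj g K) hK2O K hKO (fun x hx => by
    have := h.zc _ hK2O x hx
    rwa [hz] at this) with e | hc
  · rw [e]; exact self_mem_cls hK
  by_cases hall : ∀ P ∈ F \ cls Om F K, cm (cj g K) P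
  · exact h.sgl F hF K hK M hM hKM _ ⟨hK2O, hall⟩ K (self_mem_cls hK) hc
  · exfalso
    push Not at hall
    obtain ⟨N, ⟨hN, hNK⟩, hn⟩ := hall
    have hNneK : K ≠ N := fun e => hNK (e ▸ self_mem_cls hK)
    have h1 : ¬ app Om F K N := fun h' => hNK ⟨hN, h'⟩
    rcases h.lem N (hf.sub hN) (cj g K) hK2O (fun x hx => by
      rw [hz]
      exact (hf.comm K hK N hN hNneK (zz K) (zz_mem' K) x hx).symm) with e | hc'
    · apply h.zne F hF K hK N hN h1
      rw [e, hz]
    · exact hn (cm_symm hc')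

/-- `C(z_K)` normalises `D(c)` -/
theorem norm_TT (hF : F ∈ Fs) {K M : Subgroup G} (hK : K ∈ F) (hM : M ∈ F)
    (hKM : ¬ app Om F K M) {g : G} (hg : g * zz K * g⁻¹ = zz K) {X : Subgroup G}
    (hX : X ∈ TT Om F M) : cj g X ∈ TT Om F M := by
  have hf := h.fr.frm F hF
  have hMK : ¬ app Om F M K := fun h' => hKM (app_symm h')
  have hK2 := h.cj_mem_cls hF hK hM hKM hg
  have hK2M : ¬ app Om F (cj g K) M := fun h' => hKM (app_trans hK2.2 h')
  have hMK2 : ¬ app Om F M (cj g K) := fun h' => hK2M (app_symm h')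
  have hneq : M ≠ cj g K := fun e => hMK2 (by rw [← e]; exact app_refl M)
  have himg : ∀ Y ∈ Cen Om {K}, cj g Y ∈ Cen Om {cj g K} := by
    intro Y hY
    have := (Cen_cj h.fr.conj g (B := {K})).mpr hY
    rwa [Set.image_singleton] at this
  have hMKne : M ≠ K := fun e => hMK (by rw [e]; exact app_refl K)
  have hgM : cj g M ∈ Cen Om {cj g K} := himg M (hf.mem_Cen hM hK hMKne)
  -- `M` and `M^g` are in the same chain class
  have key : chn (Cen Om {cj g K}) M (cj g M) := by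
    by_cases hall : ∀ P ∈ F \ cls Om F K, cm (cj g M) P
    · exfalso
      have h1 : cj g M ∈ cls Om F K :=
        h.sgl F hF K hK M hM hKM _ ⟨hgM.1, hall⟩ _ hK2 (mem_Cen_single.mp hgM).2
      obtain ⟨M2, hM2, hM2ne⟩ := h.card F hF M hM
      have h2 : chn (Cen Om {K}) M M2 := hf.chn_of_app hM2.2 hM K hK hMK
      have h3 := chn_cj himg h2
      have h4 : cj g M ∈ cls Om F (cj g K) := by rw [cls_eq hK2.2]; exact h1
      have h5 := h.single hF hK2.1 hM hK2M h4 h3
      exact hM2ne (cj_inj.mp h5)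
    · push Not at hall
      obtain ⟨N, ⟨hN, hNK⟩, hn⟩ := hall
      have hKN : ¬ app Om F K N := fun h' => hNK ⟨hN, h'⟩
      have hMN : app Om F M N := by
        rcases h.two F hF K hK M hM N hN with h' | h' | h'
        · exact absurd h' hKM
        · exact absurd h' hKN
        · exact h'
      have h1 : chn (Cen Om {cj g K}) M N := hf.chn_of_app hMN hM _ hK2.1 hMK2
      have hN2 : N ≠ cj g K := fun e => hKN (by rw [e]; exact hK2.2)
      exact h1.tail ⟨hf.mem_Cen hN hK2.1 hN2, hgM, fun h' => hn (cm_symm h')⟩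
  rw [hf.mem_TT_iff hM hK hMK] at hX
  rw [hf.mem_TT_iff hM hK2.1 hMK2]
  exact ⟨himg X hX.1, key.trans (chn_cj himg hX.2)⟩

variable [Finite G]

/-- a frame containing the class `d` of `M` and `K' ∈ Cen d`: `d` is a class of it -/
theorem cls_eq_of_subset {F' : Set (Subgroup G)} (hF : F ∈ Fs) (hF' : F' ∈ Fs)
    {K M : Subgroup G} (hK : K ∈ F) (hM : M ∈ F) (hKM : ¬ app Om F K M)
    (hsub : cls Om F M ⊆ F') : cls Om F' M = cls Om F M := by
  have hf := h.fr.frm F hF
  have hf' := h.fr.frm F' hF'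
  have hMK : ¬ app Om F M K := fun h' => hKM (app_symm h')
  have hMF' : M ∈ F' := hsub (self_mem_cls hM)
  obtain ⟨e1, -⟩ := card_cls h.fr hF hF' hM hMF'
  refine (Set.eq_of_subset_of_ncard_le (fun N hN => ?_) e1.le (Set.toFinite _)).symm
  refine ⟨hsub hN, ?_⟩
  by_contra hn
  -- `N` is a single chain class in `Cen {M}`
  have hNM : N ≠ M := fun e => hn (by rw [e]; exact app_refl M)
  obtain ⟨N', hN', hne⟩ := h.card F' hF' N (hsub hN)
  have h1 : chn (Cen Om {M}) N N' :=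
    hf'.chn_of_app hN'.2 (hsub hN) M hMF' (fun h' => hn (app_symm h'))
  exact hne (h.single hF hM hK hMK hN h1)

/-- the two possible actions of `z_K` on `D(c')` -/
theorem act {F' : Set (Subgroup G)} (hF : F ∈ Fs) (hF' : F' ∈ Fs)
    {K K' M : Subgroup G} (hK : K ∈ F) (hM : M ∈ F) (hKM : ¬ app Om F K M)
    (hsub : cls Om F M ⊆ F') (hK' : K' ∈ F') (hK'T : K' ∈ TT Om F K)
    (hz : zz K * zz K' = zz K' * zz K) :
    TT Om F' M = TT Om F M ∨
      ∀ X ∈ TT Om F' M, ∀ x ∈ X, (zz K * zz M) * x = x * (zz K * zz M) := by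
  have hf := h.fr.frm F hF
  have hf' := h.fr.frm F' hF'
  have hMK : ¬ app Om F M K := fun h' => hKM (app_symm h')
  have hMF' : M ∈ F' := hsub (self_mem_cls hM)
  have hcls := h.cls_eq_of_subset hF hF' hK hM hKM hsub
  -- `K'` is not in the class of `M` in `F'`
  have hMcls : ∀ N ∈ cls Om F M, N ∉ cls Om F K := fun N hN hN' =>
    hKM (app_trans hN'.2 (app_symm hN.2))
  have hMK' : ¬ app Om F' M K' := by
    intro h'
    have h1 : K' ∈ cls Om F' M := ⟨hK', h'⟩
    rw [hcls] at h1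
    exact hf.not_cm_self h1.1 (hK'T.2 K' ⟨h1.1, hMcls K' h1⟩)
  have hK'M : ¬ app Om F' K' M := fun h' => hMK' (app_symm h')
  have hzK : zz K * zz K = 1 := h.zsq K (hf.sub hK)
  have hzKi : (zz K)⁻¹ = zz K := inv_eq_of_mul_eq_one_right hzK
  have hg : zz K * zz K' * (zz K)⁻¹ = zz K' := by rw [hz]; group
  have hzcomm : ∀ N ∈ cls Om F' M, ∀ x ∈ N, zz K * x = x * zz K := by
    intro N hN x hx
    rw [hcls] at hN
    exact hf.comm K hK N hN.1 (fun e => hMcls N hN (e ▸ self_mem_cls hK)) _ (zz_mem' K) x hx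
  rcases h.aut F' hF' K' hK' M hMF' hK'M (zz K) hzK hz
    (fun X hX => h.norm_TT hF' hK' hMF' hK'M hg hX) hzcomm with h1 | h1
  · left
    obtain ⟨-, e2⟩ := card_cls h.fr hF hF' hM hMF'
    -- every `X ∈ TT F' M` commutes with `K`
    have hcK : ∀ X ∈ TT Om F' M, cm X K := by
      intro X hX
      rcases h.lem X hX.1 K (hf.sub hK) (fun x hx => (h1 X hX x hx).symm) with e | hc
      · exfalso
        -- `K ∈ TT F' M` commutes with `M`, so lies in the class of `M`
        have h2 : X ∈ cls Om F' M := h.sgl F' hF' M hMF' K' hK' hMK' X hX M (self_mem_cls hMF')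
          (by rw [e]; exact hf.comm K hK M hM (fun e => hKM (e ▸ app_refl K)))
        rw [hcls] at h2
        exact hMcls X h2 (by rw [e]; exact self_mem_cls hK)
      · exact hc
    refine (Set.eq_of_subset_of_ncard_le (fun X hX => ?_) e2.ge (Set.toFinite _))
    have hX2 := (hf'.mem_TT_iff hMF' hK' hMK').mp hX
    rw [hf.mem_TT_iff hM hK hMK]
    refine ⟨mem_Cen_single.mpr ⟨hX.1, hcK X hX⟩, ?_⟩
    -- transport the chain
    have key : ∀ Z, chn (Cen Om {K'}) M Z → chn (Cen Om {K}) M Z := by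
      intro Z hZ
      induction hZ with
      | refl => exact ReflTransGen.refl
      | @tail Y Z h2 h3 ih =>
        have hY : Y ∈ TT Om F' M := (hf'.mem_TT_iff hMF' hK' hMK').mpr ⟨h3.1, h2⟩
        have hZ : Z ∈ TT Om F' M := (hf'.mem_TT_iff hMF' hK' hMK').mpr ⟨h3.2.1, h2.tail h3⟩
        exact ih.tail ⟨mem_Cen_single.mpr ⟨hY.1, hcK Y hY⟩,
          mem_Cen_single.mpr ⟨hZ.1, hcK Z hZ⟩, h3.2.2⟩
    exact key X hX2.2
  · exact Or.inr h1

/-- **the main step**: `D(c') = D(c)` when `[z_K, z_K'] = 1` -/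
theorem TT_eq_of_comm {F' : Set (Subgroup G)} (hF : F ∈ Fs) (hF' : F' ∈ Fs)
    {K K' M : Subgroup G} (hK : K ∈ F) (hM : M ∈ F) (hKM : ¬ app Om F K M)
    (hsub : cls Om F M ⊆ F') (hK' : K' ∈ F') (hK'T : K' ∈ TT Om F K)
    (hz : zz K * zz K' = zz K' * zz K) : TT Om F' M = TT Om F M := by
  have hf := h.fr.frm F hF
  have hf' := h.fr.frm F' hF'
  have hMK : ¬ app Om F M K := fun h' => hKM (app_symm h')
  have hMF' : M ∈ F' := hsub (self_mem_cls hM)
  rcases h.act hF hF' hK hM hKM hsub hK' hK'T hz with h0 | h1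
  · exact h0
  by_contra hne
  -- a conjugation interchanging the classes
  obtain ⟨g, hg1, hg2⟩ := h.fr.trans F hF F hF K hK M hM
  have hMg : app Om F K (cj g M) := by
    have hMgF : cj g M ∈ F := by
      rw [← hg1]; exact ⟨M, hM, rfl⟩
    have h2 : ¬ app Om F M (cj g M) := by
      intro h'
      have h3 : app Om (cj g '' F) (cj g K) (cj g M) := by rw [hg1, hg2]; exact h'
      exact hKM ((app_cj_iff h.fr.conj g).mp h3)
    rcases h.two F hF K hK M hM (cj g M) hMgF with h' | h' | h'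
    · exact absurd h' hKM
    · exact h'
    · exact absurd h' h2
  -- the conjugate configuration
  obtain ⟨g', hg'1, hg'2⟩ := h.fr.trans F' hF' F' hF' K' hK' K' hK'
  set F'' := cj g '' F' with hF''
  have hF''s : F'' ∈ Fs := by
    -- `F''` is contained in a frame, hence equal to it by maximality
    obtain ⟨F3, hF3, hsub3⟩ := h.fr.ex F'' (by
      rintro _ ⟨X, hX, rfl⟩
      exact h.fr.conj X (hf'.sub hX) g) (by
      rintro _ ⟨X, hX, rfl⟩ _ ⟨Y, hY, rfl⟩ hXY
      exact cm_cj.mpr (hf'.comm X hX Y hY (fun e => hXY (by rw [e]))))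
    have hcard : F3.ncard = F''.ncard := by
      obtain ⟨x, hx, -⟩ := h.fr.trans F' hF' F3 hF3 M hMF' (cj g M)
        (hsub3 ⟨M, hMF', rfl⟩)
      rw [← hx, hF'', Set.ncard_image_of_injective _ (cj_injective' x),
        Set.ncard_image_of_injective _ (cj_injective' g)]
    have : F'' = F3 := Set.eq_of_subset_of_ncard_le hsub3 hcard.le (Set.toFinite _)
    rw [this]; exact hF3
  have hclsg : cj g '' cls Om F M = cls Om F K := by
    rw [← cls_cj h.fr.conj, hg1]
    exact cls_eq hMg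
  have hsub'' : cls Om F K ⊆ F'' := by
    rw [← hclsg]
    exact Set.image_mono hsub
  have hTT'' : TT Om F'' K = cj g '' TT Om F' M := by
    rw [← TT_cj h.fr.conj]
    -- `K` and `cj g M` are in the same class of `F''`
    have h2 : cls Om F'' K = cls Om F K :=
      h.cls_eq_of_subset hF hF''s hM hK hMK hsub''
    have hMgF : cj g M ∈ F := by rw [← hg1]; exact ⟨M, hM, rfl⟩
    have h3 : cj g M ∈ cls Om F'' K := by rw [h2]; exact ⟨hMgF, hMg⟩
    exact (TT_eq h3.2).symm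
  have hTTK : TT Om F K = cj g '' TT Om F M := by
    rw [← TT_cj h.fr.conj, hg1]
    exact (TT_eq hMg).symm
  have hM'T : cj g K' ∈ TT Om F M := by
    have h2 : TT Om F M = cj g '' TT Om F K := by
      rw [← TT_cj h.fr.conj, hg1, hg2]
    rw [h2]
    exact ⟨K', hK'T, rfl⟩
  have hz'' : zz M * zz (cj g K') = zz (cj g K') * zz M := by
    rw [← hg2, h.zcj K (hf.sub hK), h.zcj K' (hf'.sub hK')]
    exact conj_comm_iff.mpr hz
  rcases h.act hF hF''s hM hK hMK hsub'' ⟨K', hK', rfl⟩ hM'T hz'' with h0 | h2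
  · apply hne
    rw [hTT'', hTTK] at h0
    exact (Set.image_injective.mpr (cj_injective' g)) h0
  · -- `u` centralises both
    have hzz : zz M * zz K = zz K * zz M :=
      (hf.comm K hK M hM (fun e => hKM (e ▸ app_refl K)) _ (zz_mem' K) _ (zz_mem' M)).symm
    set T : Set (Subgroup G) :=
      {X | X ∈ Om ∧ ∀ x ∈ X, (zz K * zz M) * x = x * (zz K * zz M)} with hT
    have hT1 : TT Om F' M ⊆ T := fun X hX => ⟨hX.1, h1 X hX⟩
    have hT2 : TT Om F'' K ⊆ T := fun X hX => ⟨hX.1, fun x hx => by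
      have := h2 X hX x hx
      rwa [hzz] at this⟩
    have hcls := h.cls_eq_of_subset hF hF' hK hM hKM hsub
    have hcls'' : cls Om F'' K = cls Om F K := h.cls_eq_of_subset hF hF''s hM hK hMK hsub''
    have hf'' := h.fr.frm F'' hF''s
    have hnot := h.tu F hF K hK M hM hKM
    -- other class members
    have hMcls : ∀ N ∈ cls Om F M, N ∉ cls Om F K := fun N hN hN' =>
      hKM (app_trans hN'.2 (app_symm hN.2))
    have hMK' : ¬ app Om F' M K' := by
      intro h'
      have h1 : K' ∈ cls Om F' M := ⟨hK', h'⟩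
      rw [hcls] at h1
      exact hf.not_cm_self h1.1 (hK'T.2 K' ⟨h1.1, hMcls K' h1⟩)
    have hKF'' : K ∈ F'' := hsub'' (self_mem_cls hK)
    have hgK' : cj g K' ∈ F'' := ⟨K', hK', rfl⟩
    have hKgK' : ¬ app Om F'' K (cj g K') := by
      intro h'
      have h1 : cj g K' ∈ cls Om F'' K := ⟨hgK', h'⟩
      rw [hcls''] at h1
      exact hf.not_cm_self h1.1 (hM'T.2 _ ⟨h1.1, fun h3 => hMcls _ h3 h1⟩)
    obtain ⟨-, e2⟩ := card_cls h.fr hF hF' hM hMF'
    apply hne
    refine (Set.eq_of_subset_of_ncard_le (fun X hX => ?_) e2.ge (Set.toFinite _))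
    -- `X` commutes with `cls F K`
    refine ⟨hX.1, ?_⟩
    rintro N ⟨hN, hNM⟩
    have hKN : app Om F K N := by
      rcases h.two F hF K hK M hM N hN with h' | h' | h'
      · exact absurd h' hKM
      · exact h'
      · exact absurd ⟨hN, h'⟩ hNM
    have hNcls'' : N ∈ cls Om F'' K := by rw [hcls'']; exact ⟨hN, hKN⟩
    have c1 : chn T M X := by
      refine chn_mono hT1 ?_
      have hX2 := (hf'.mem_TT_iff hMF' hK' hMK').mp hX
      -- chain inside `TT F' M`
      have key : ∀ Z, chn (Cen Om {K'}) M Z → chn (TT Om F' M) M Z := by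
        intro Z hZ
        induction hZ with
        | refl => exact ReflTransGen.refl
        | @tail Y Z h2 h3 ih =>
          exact ih.tail ⟨(hf'.mem_TT_iff hMF' hK' hMK').mpr ⟨h3.1, h2⟩,
            (hf'.mem_TT_iff hMF' hK' hMK').mpr ⟨h3.2.1, h2.tail h3⟩, h3.2.2⟩
      exact key X hX2.2
    have c2 : chn T K N := chn_mono hT2 (hf''.chn_TT hKF'' hNcls''.2 hgK' hKgK')
    have hNT : N ∈ T := by
      apply hT2
      have := hf''.mem_TT_self hNcls''.1
      rwa [TT_eq hNcls''.2] at this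
    exact cm_of_not_chn (hT1 hX) hNT c1 c2 (fun h' => hnot (chn_symm h'))

/-- **two `D4`-classes commute** -/
theorem comm (hF : F ∈ Fs) {K M : Subgroup G} (hK : K ∈ F) (hM : M ∈ F)
    (hKM : ¬ app Om F K M) {X Y : Subgroup G} (hX : X ∈ TT Om F K) (hY : Y ∈ TT Om F M) :
    cm X Y := by
  have hf := h.fr.frm F hF
  have hMcls : ∀ N ∈ cls Om F M, N ∉ cls Om F K := fun N hN hN' =>
    hKM (app_trans hN'.2 (app_symm hN.2))
  have hMK : ¬ app Om F M K := fun h' => hKM (app_symm h')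
  -- frames through `d` and a member of `TT F K`
  have hexF : ∀ Z ∈ TT Om F K, ∃ F' ∈ Fs, cls Om F M ⊆ F' ∧ Z ∈ F' := by
    intro Z hZ
    obtain ⟨F', hF', hsub⟩ := h.fr.ex (insert Z (cls Om F M)) (by
      rintro P (hP | hP)
      · rw [hP]; exact hZ.1
      · exact hf.sub hP.1) (by
      rintro P (hP | hP) Q (hQ | hQ) hPQ
      · exact absurd (hP.trans hQ.symm) hPQ
      · rw [hP]; exact hZ.2 Q ⟨hQ.1, hMcls Q hQ⟩
      · rw [hQ]; exact cm_symm (hZ.2 P ⟨hP.1, hMcls P hP⟩)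
      · exact hf.comm P hP.1 Q hQ.1 hPQ)
    exact ⟨F', hF', fun P hP => hsub (Or.inr hP), hsub (Or.inl rfl)⟩
  -- `TT F' K' = TT F K` for such frames
  have hTTK : ∀ F' ∈ Fs, cls Om F M ⊆ F' → ∀ Z ∈ F', Z ∈ TT Om F K →
      ¬ app Om F' Z M ∧ TT Om F' Z = TT Om F K := by
    intro F' hF' hsub Z hZF' hZ
    have hf' := h.fr.frm F' hF'
    have hcls := h.cls_eq_of_subset hF hF' hK hM hKM hsub
    have hMF' : M ∈ F' := hsub (self_mem_cls hM)
    have hMZ : ¬ app Om F' M Z := by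
      intro h'
      have h1 : Z ∈ cls Om F' M := ⟨hZF', h'⟩
      rw [hcls] at h1
      exact hf.not_cm_self h1.1 (hZ.2 Z ⟨h1.1, hMcls Z h1⟩)
    have hZM : ¬ app Om F' Z M := fun h' => hMZ (app_symm h')
    refine ⟨hZM, ?_⟩
    -- `F' \ cls Z = cls M = F \ cls K`
    have h1 : F' \ cls Om F' Z = cls Om F' M := by
      ext P
      constructor
      · rintro ⟨hP, hPn⟩
        refine ⟨hP, ?_⟩
        rcases h.two F' hF' Z hZF' M hMF' P hP with h' | h' | h'
        · exact absurd h' hZM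
        · exact absurd ⟨hP, h'⟩ hPn
        · exact h'
      · rintro ⟨hP, hPM⟩
        exact ⟨hP, fun h' => hMZ (app_trans hPM (app_symm h'.2))⟩
    have h2 : F \ cls Om F K = cls Om F M := by
      ext P
      constructor
      · rintro ⟨hP, hPn⟩
        refine ⟨hP, ?_⟩
        rcases h.two F hF K hK M hM P hP with h' | h' | h'
        · exact absurd h' hKM
        · exact absurd ⟨hP, h'⟩ hPn
        · exact h'
      · rintro ⟨hP, hPM⟩
        exact ⟨hP, hMcls P ⟨hP, hPM⟩⟩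
    rw [TT, TT, h1, h2, hcls]
  -- induction along the z-chain
  have key : ∀ Z, ReflTransGen (zstp (TT Om F K)) K Z →
      ∀ F' ∈ Fs, cls Om F M ⊆ F' → Z ∈ F' → TT Om F' M = TT Om F M := by
    intro Z hZ
    induction hZ with
    | refl =>
      intro F' hF' hsub hKF'
      exact h.TT_eq_of_comm hF hF' hK hM hKM hsub hKF' (hf.mem_TT_self hK) rfl
    | @tail P Z h1 h2 ih =>
      intro F' hF' hsub hZF'
      obtain ⟨F1, hF1, hsub1, hPF1⟩ := hexF P h2.1
      have h3 := ih F1 hF1 hsub1 hPF1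
      obtain ⟨hPM, hTP⟩ := hTTK F1 hF1 hsub1 P hPF1 h2.1
      have hM1 : M ∈ F1 := hsub1 (self_mem_cls hM)
      have hcls1 := h.cls_eq_of_subset hF hF1 hK hM hKM hsub1
      rw [← h3]
      exact h.TT_eq_of_comm hF1 hF' hPF1 hM1 hPM (by rw [hcls1]; exact hsub) hZF'
        (by rw [hTP]; exact h2.2.1) h2.2.2
  obtain ⟨F', hF', hsub, hXF'⟩ := hexF X hX
  have h1 := key X (h.zcon F hF K hK M hM hKM X hX) F' hF' hsub hXF'
  obtain ⟨hXM, -⟩ := hTTK F' hF' hsub X hXF' hX
  rw [← h1] at hY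
  exact cm_symm (hY.2 X ⟨hXF', fun h' => hXM (app_symm h'.2)⟩)

end DHyp

end Cfsg.Agent.Cit.TypeDet.Red
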