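import Cfsg.Agent.Cit.TypeDet.Blocks
import Cfsg.Agent.Cit.TypeDet.DFour

/-!
# Reducible frames, `r ≥ 5`

`false_of_reducible` : the frame is `≈`-connected.
-/

set_option autoImplicit false
set_option linter.unusedSectionVars false
set_option linter.unusedVariables false

namespace Cfsg.Agent.Cit.TypeDet

open Subgroup Finset Classical Relation Cfsg Cfsg.Agent.Nodes.Chart

universe u

/-! ### Kinds of connected groups -/

namespace Data

variable {F : Type*} [Fintype F] {G : Type*} [Group G] {S : Data F G}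

theorem exists_notMem_four (hr : 5 ≤ Fintype.card F) (a b c d : F) :
    ∃ x, x ≠ a ∧ x ≠ b ∧ x ≠ c ∧ x ≠ d := by
  obtain ⟨x, hx⟩ := exists_notMem (F := F) (A := {a, b, c, d})
    (lt_of_le_of_lt card_le_four (by omega))
  simp only [mem_insert, mem_singleton, not_or] at hx
  exact ⟨x, hx.1, hx.2.1, hx.2.2.1, hx.2.2.2⟩

theorem Kinds.exists_rel (hr : 5 ≤ Fintype.card F) (h : S.Kinds univ) (i j : F) :
    ∃ l, S.rel (univ.erase l) i j := by
  have hc : (univ : Finset F).card = Fintype.card F := card_univ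
  obtain ⟨l, hli, hlj, -, -⟩ := exists_notMem_four hr i j i j
  have hconn : (∀ l ∈ (univ : Finset F), S.Conn (univ.erase l)) → ∃ l, S.rel (univ.erase l) i j :=
    fun h' => ⟨l, h' l (mem_univ _) i (mem_er hli.symm) j (mem_er hlj.symm)⟩
  have hpair : ∀ p : F → F, Pairing (univ : Finset F) p → S.PairSplit univ p →
      ∃ l, S.rel (univ.erase l) i j := by
    intro p hp hs
    obtain ⟨l, h1, h2, h3, h4⟩ := exists_notMem_four hr i j (p i) (p j)
    refine ⟨l, (hs l (mem_univ _) i (mem_univ _) j (mem_univ _) h1.symm h2.symm).mpr ?_⟩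
    have e1 : i ≠ p l := fun e => h3 (by rw [e, (hp l (mem_univ _)).2.2])
    have e2 : j ≠ p l := fun e => h4 (by rw [e, (hp l (mem_univ _)).2.2])
    exact ⟨fun e => absurd e e1, fun e => absurd e e2⟩
  rcases h with h | h | h | h | h | ⟨p, h⟩ | ⟨p, h⟩ | h | h
  · omega
  · omega
  · exact hconn h.2.1
  · have := h.1; omega
  · have := h.1; omega
  · exact hpair p h.2.1 h.2.2.1
  · exact hpair p h.2.1 h.2.2.1
  · exact hconn h.2
  · exact hconn h.conn_erase

end Data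

variable {G : Type u} [Group G] [Finite G] {Om : Set (Subgroup G)}
  {ι : Type u} [Fintype ι] {K : ι → Subgroup G}

theorem exists_index (F : Set (Subgroup G)) :
    ∃ (ι : Type u) (_ : Fintype ι) (K : ι → Subgroup G), Function.Injective K ∧ Set.range K = F :=
  ⟨↥F, Fintype.ofFinite _, Subtype.val, Subtype.val_injective, Subtype.range_val⟩

theorem ifrm_of_frm {F : Set (Subgroup G)} (h : Red.Frm Om F) (hi : Function.Injective K)
    (hr : Set.range K = F) : IFrm Om K where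
  mem i := h.sub (hr ▸ ⟨i, rfl⟩)
  comm i j hij := h.comm _ (hr ▸ ⟨i, rfl⟩) _ (hr ▸ ⟨j, rfl⟩) (hi.ne hij)
  max L hL := by
    obtain ⟨M, hM, hn⟩ := h.max L hL
    rw [← hr] at hM
    obtain ⟨i, rfl⟩ := hM
    exact ⟨i, hn⟩

theorem OmIn_sSup_Cen (B : Set (Subgroup G)) : OmIn Om (sSup (Red.Cen Om B)) = Red.Cen Om B := by
  ext L
  constructor
  · rintro ⟨h1, h2⟩
    refine ⟨h1, fun M hM => cm_mono h2 le_rfl (cm_sSup fun X hX => hX.2 M hM)⟩
  · intro hL
    exact ⟨hL.1, le_sSup hL⟩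

/-! ### The facts used for `D₄` -/

/-- an involution normalising a `D₄`-piece and centralising the members of a frame -/
def AutFact.{v} : Prop :=
  ∀ (G : Type v) [Group G] [Finite G] (Om : Set (Subgroup G)) (_ : Hyp Om) (D : Subgroup G)
    (_ : TyPc Om (.D 4) D) (κ : Type v) [Fintype κ] (K : κ → Subgroup G)
    (_ : ∀ i, K i ∈ OmIn Om D) (_ : ∀ i j, i ≠ j → cm (K i) (K j))
    (_ : ∀ L ∈ OmIn Om D, ∃ i, ¬ cm L (K i)) (t : G) (_ : t * t = 1) (_ : Cit.cj t D = D)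
    (_ : ∀ i, ∀ x ∈ K i, t * x = x * t),
    (∀ x ∈ D, t * x = x * t) ∨ ∀ i, ∀ x ∈ D, (t * zz (K i)) * x = x * (t * zz (K i))

/-- LEMMA Z for `D₄` -/
def ZFact.{v} : Prop :=
  ∀ (G : Type v) [Group G] [Finite G] (Om : Set (Subgroup G)) (_ : Hyp Om) (D : Subgroup G)
    (_ : TyPc Om (.D 4) D), ∀ X ∈ OmIn Om D, ∀ Y ∈ OmIn Om D,
    ReflTransGen (Red.zstp (OmIn Om D)) X Y

namespace IFrm

/-- in a `D₄`-class: a member commuting with a member of the class is in the class -/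
theorem sgl_of_KD4 (f : IFrm Om K) {i : ι} (h4 : f.data.KD4 (f.data.cla i)) {X : Subgroup G}
    (hX : X ∈ OmA Om K (f.data.cla i)) {l : ι} (hl : l ∈ f.data.cla i) (hc : cm X (K l)) :
    ∃ j ∈ f.data.cla i, X = K j := by
  obtain ⟨j, hj⟩ := f.max X hX.1
  have hjB : j ∈ f.data.cla i := by
    by_contra hn
    exact hj (hX.2 j hn)
  have hjl : j ≠ l := fun e => hj (e ▸ hc)
  have hXl : X ∈ OmA Om K ((f.data.cla i).erase l) := by
    refine ⟨hX.1, fun k hk => ?_⟩
    by_cases hkl : k = l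
    · rw [hkl]; exact hc
    · exact hX.2 k (fun h' => hk (mem_erase.mpr ⟨hkl, h'⟩))
  refine ⟨j, hjB, h4.2.2.2.2 j hjB X ⟨hX.1, fun m hm => ?_⟩⟩
  rw [mem_singleton] at hm
  by_cases hmB : m ∈ f.data.cla i
  · by_contra hn
    have hml : m ≠ l := fun e => hn (e ▸ hc)
    refine h4.2.1 l hl j (mem_erase.mpr ⟨hjl, hjB⟩) m (mem_erase.mpr ⟨hml, hmB⟩) (fun e => hm e.symm) ?_
    refine ⟨mem_erase.mpr ⟨hjl, hjB⟩, mem_erase.mpr ⟨hml, hmB⟩, ?_⟩
    have h1 : chn (OmA Om K ((f.data.cla i).erase l)) (K j) X :=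
      ReflTransGen.single ⟨mem_OmA f.mem f.comm (mem_erase.mpr ⟨hjl, hjB⟩), hXl,
        fun h' => hj (cm_symm h')⟩
    exact h1.tail ⟨hXl, mem_OmA f.mem f.comm (mem_erase.mpr ⟨hml, hmB⟩), hn⟩
  · exact hX.2 m hmB

/-- theorem T for `C(z_i z_j)`, `i` and `j` in different classes -/
theorem tu (hKF : KindFact.{u}) (hyp : Hyp Om) (hloc : Loc Om) (f : IFrm Om K)
    (hr : 5 ≤ Fintype.card ι) {i j : ι} (hij : ¬ f.data.app i j) (hz : zz (K i) ≠ zz (K j)) :
    ¬ chn {X | X ∈ Om ∧ ∀ x ∈ X, (zz (K i) * zz (K j)) * x = x * (zz (K i) * zz (K j))}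
      (K i) (K j) := by
  intro hch
  set u := zz (K i) * zz (K j) with hu
  set U : Set (Subgroup G) := {X | X ∈ Om ∧ ∀ x ∈ X, u * x = x * u} with hU
  have hne : i ≠ j := fun e => hij (e ▸ Sys.app_refl _ _)
  have hzi := hyp.zz_mul (f.mem i)
  have hzj := hyp.zz_mul (f.mem j)
  have hcomm : zz (K i) * zz (K j) = zz (K j) * zz (K i) :=
    f.comm i j hne _ (hyp.zz_mem (f.mem i)) _ (hyp.zz_mem (f.mem j))
  have hu2 : orderOf u = 2 := by
    refine orderOf_eq_prime ?_ ?_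
    · rw [pow_two, hu]
      calc zz (K i) * zz (K j) * (zz (K i) * zz (K j)) =
          zz (K i) * (zz (K j) * zz (K i)) * zz (K j) := by group
        _ = zz (K i) * (zz (K i) * zz (K j)) * zz (K j) := by rw [hcomm]
        _ = (zz (K i) * zz (K i)) * (zz (K j) * zz (K j)) := by group
        _ = 1 := by rw [hzi, hzj, one_mul]
    · intro h1
      apply hz
      calc zz (K i) = zz (K i) * (zz (K j) * zz (K j)) := by rw [hzj, mul_one]
        _ = u * zz (K j) := by rw [hu]; group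
        _ = zz (K j) := by rw [h1, one_mul]
  have hUeq : U = OmIn Om (centralizer {u}) := by
    ext X
    constructor
    · rintro ⟨h1, h2⟩
      refine ⟨h1, fun x hx => mem_centralizer_singleton_iff.mpr (h2 x hx).symm⟩
    · rintro ⟨h1, h2⟩
      exact ⟨h1, fun x hx => (mem_centralizer_singleton_iff.mp (h2 hx)).symm⟩
  -- the frame is in `U`
  have hzc : ∀ (k l : ι) (x : G), x ∈ K l → zz (K k) * x = x * zz (K k) := by
    intro k l x hx
    by_cases hkl : k = l
    · rw [hkl]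
      exact (hyp.comm_zz (f.mem l) (le_normalizer hx)).symm
    · exact f.comm k l hkl _ (hyp.zz_mem (f.mem k)) x hx
  have hFU : ∀ k, K k ∈ U := by
    intro k
    refine ⟨f.mem k, fun x hx => ?_⟩
    rw [hu, mul_assoc, hzc j k x hx, ← mul_assoc, hzc i k x hx, mul_assoc]
  by_cases hall : ∀ k, chn U (K i) (K k)
  · -- the piece contains the frame
    set D := piece U (K i) with hD
    have hPc : Cit.Piece Om D := by
      rw [hD, hUeq]
      exact piece_of hyp (hloc u hu2) (by rw [← hUeq]; exact hFU i)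
    have hKD : ∀ k, K k ≤ D := fun k => le_piece (hFU k) (hall k)
    obtain ⟨a, b, c, hab, hac, hbc⟩ := Fintype.two_lt_card_iff.mp (by omega : 2 < Fintype.card ι)
    obtain ⟨τ, hτ⟩ := typed_of_three hyp hPc (f.mem a) (f.mem b) (f.mem c) (hKD a) (hKD b) (hKD c)
      (f.comm a b hab) (f.comm a c hac) (f.comm b c hbc)
    have hK' : ∀ k, K k ∈ OmIn Om D := fun k => ⟨f.mem k, hKD k⟩
    have h1 := hKF G Om hyp D τ hτ ι K hK' f.comm (fun L hL => f.max L hL.1)
    have h2 := h1.kinds ⟨i, mem_univ _⟩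
    obtain ⟨l, hl⟩ := h2.exists_rel hr i j
    apply hij
    refine Sys.app_of_rel _ (k := l) ⟨hl.1, hl.2.1, ?_⟩
    refine chn_mono ?_ hl.2.2
    intro L hL
    exact ⟨hL.1.1, hL.2⟩
  · push Not at hall
    obtain ⟨k, hk⟩ := hall
    apply hij
    have hik : i ≠ k := fun e => hk (e ▸ ReflTransGen.refl)
    have hjk : j ≠ k := fun e => hk (e ▸ hch)
    refine Sys.app_of_rel _ (k := k) ⟨Data.mem_er hik, Data.mem_er hjk, ?_⟩
    -- all members of the chain commute with `K k`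
    have key : ∀ X, chn U (K i) X → chn (OmA Om K (univ.erase k)) (K i) X ∧ X ∈ U := by
      intro X hX
      induction hX with
      | refl => exact ⟨ReflTransGen.refl, hFU i⟩
      | @tail Y Z h1 h2 ih =>
        obtain ⟨c1, c2⟩ := ih
        have hY : Y ∈ OmA Om K (univ.erase k) := by
          rw [OmA_erase_eq]
          exact Red.mem_Cen_single.mpr ⟨c2.1, cm_of_not_chn c2 (hFU k) h1 ReflTransGen.refl hk⟩
        have hZ : Z ∈ OmA Om K (univ.erase k) := by
          rw [OmA_erase_eq]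
          exact Red.mem_Cen_single.mpr ⟨h2.2.1.1,
            cm_of_not_chn h2.2.1 (hFU k) (h1.tail h2) ReflTransGen.refl hk⟩
        exact ⟨c1.tail ⟨hY, hZ, h2.2.2⟩, h2.2.1⟩
    exact (key _ hch).1

end IFrm

/-- a frame of `Frames` as an indexed family, with two given members -/
theorem exists_ifrm {Fs : Set (Set (Subgroup G))} (hfr : Red.Frames Om Fs) {F : Set (Subgroup G)}
    (hF : F ∈ Fs) : ∃ (ι : Type u) (_ : Fintype ι) (K : ι → Subgroup G), IFrm Om K ∧ Set.range K = F := by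
  obtain ⟨ι, i1, K, hi, hr⟩ := exists_index F
  exact ⟨ι, i1, K, ifrm_of_frm (hfr.frm F hF) hi hr, hr⟩

/-- the input of `DHyp` -/
theorem dhyp (hKF : KindFact.{u}) (hAF : AutFact.{u}) (hZF : ZFact.{u}) (hyp : Hyp Om)
    (hloc : Loc Om) {Fs : Set (Set (Subgroup G))} (hfr : Red.Frames Om Fs)
    (h8 : ∀ F ∈ Fs, 5 ≤ F.ncard)
    (two : ∀ F ∈ Fs, ∀ K ∈ F, ∀ M ∈ F, ∀ N ∈ F,
      Red.app Om F K M ∨ Red.app Om F K N ∨ Red.app Om F M N)
    (h4 : ∀ F ∈ Fs, ∀ K ∈ F, TyPc Om (.D 4) (sSup (Red.TT Om F K))) : Red.DHyp Om Fs := by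
  -- the `D₄`-kind
  have hkd : ∀ F ∈ Fs, ∀ K₀ ∈ F, ∀ (ι : Type u) (_ : Fintype ι) (K : ι → Subgroup G)
      (f : IFrm Om K), Set.range K = F → ∀ i, K i = K₀ → f.data.KD4 (f.data.cla i) ∧
        f.data.KT (.D 4) (f.data.cla i) ∧ sSup (Red.TT Om F K₀) = YA Om K (f.data.cla i) ∧
        Red.TT Om F K₀ = OmA Om K (f.data.cla i) := by
    intro F hF K₀ hK₀ ι _ K f hr i hi
    subst hr hi
    have e := f.sSup_TT i
    have h1 := h4 _ hF _ hK₀
    rw [e] at h1
    have h2 := IFrm.kt_of_tyPc hKF hyp f h1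
    exact ⟨h2.2.1 rfl, h2, e, f.TT_eq_OmA i⟩
  have hzne : ∀ F ∈ Fs, ∀ K ∈ F, ∀ M ∈ F, ¬ Red.app Om F K M → zz K ≠ zz M := by
    intro F hF K₀ hK₀ M₀ hM₀ hKM e
    obtain ⟨ι, _, K, f, hr⟩ := exists_ifrm hfr hF
    obtain ⟨i, hi⟩ := hr.symm ▸ hK₀
    obtain ⟨j, hj⟩ := hr.symm ▸ hM₀
    obtain ⟨k1, -, -, -⟩ := hkd F hF K₀ hK₀ ι _ K f hr i hi
    have hjc : j ∉ f.data.cla i := by
      intro h'
      rw [f.mem_cla_iff, hr, hi, hj] at h'
      exact hKM h'.2
    refine k1.2.2.2.1 i (Sys.self_mem_cla _ _) (f.data.cen_congr (k := j) ?_ (f.data.cen_of_notMem hjc))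
    change zz (K j) = zz (K i)
    rw [hi, hj, e]
  refine ⟨hfr, fun K hK g => hyp.zz_cj hK g, fun K hK => hyp.zz_mul hK, ?_, two, ?_, ?_, ?_, hzne, ?_, ?_, ?_⟩
  · -- zc
    intro K hK x hx
    exact hyp.comm_zz hK (le_normalizer hx)
  · -- card
    intro F hF K₀ hK₀
    obtain ⟨ι, _, K, f, hr⟩ := exists_ifrm hfr hF
    obtain ⟨i, hi⟩ := hr.symm ▸ hK₀
    obtain ⟨k1, -, -, -⟩ := hkd F hF K₀ hK₀ ι _ K f hr i hi
    obtain ⟨j, hj, hne⟩ := exists_mem_ne (by have := k1.1; omega : 1 < (f.data.cla i).card) i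
    refine ⟨K j, ?_, ?_⟩
    · have := (f.mem_cla_iff i j).mp hj
      rwa [hr, hi] at this
    · rw [← hi]; exact f.ne.mpr hne
  · -- sgl
    intro F hF K₀ hK₀ M₀ hM₀ hKM X hX N hN hc
    obtain ⟨ι, _, K, f, hr⟩ := exists_ifrm hfr hF
    obtain ⟨i, hi⟩ := hr.symm ▸ hK₀
    obtain ⟨k1, -, -, k4⟩ := hkd F hF K₀ hK₀ ι _ K f hr i hi
    obtain ⟨l, hl⟩ := hr.symm ▸ hN.1
    have hlc : l ∈ f.data.cla i := (f.mem_cla_iff i l).mpr (by rw [hr, hi, hl]; exact hN)
    rw [k4] at hX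
    obtain ⟨j, hj, rfl⟩ := f.sgl_of_KD4 k1 hX hlc (by rw [hl]; exact hc)
    have := (f.mem_cla_iff i j).mp hj
    rwa [hr, hi] at this
  · -- lem
    exact fun X hX K hK hc => lem hyp hloc hX hK hc
  · -- zcon
    intro F hF K₀ hK₀ M₀ hM₀ hKM X hX
    have h1 := hZF G Om hyp _ (h4 F hF K₀ hK₀)
    have e : OmIn Om (sSup (Red.TT Om F K₀)) = Red.TT Om F K₀ := OmIn_sSup_Cen _
    rw [e] at h1
    exact h1 K₀ ((hfr.frm F hF).mem_TT_self hK₀) X hX
  · -- aut
    intro F hF K₀ hK₀ M₀ hM₀ hKM t ht _ hn hcl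
    obtain ⟨ι, _, K, f, hr⟩ := exists_ifrm hfr hF
    obtain ⟨j, hj⟩ := hr.symm ▸ hM₀
    obtain ⟨k1, -, k3, k4⟩ := hkd F hF M₀ hM₀ ι _ K f hr j hj
    set B := f.data.cla j with hB
    have hD := h4 F hF M₀ hM₀
    rw [k3] at hD
    have hle : Cit.cj t (YA Om K B) ≤ YA Om K B := by
      rw [Cit.cj_le_iff, YA]
      refine sSup_le fun L hL => ?_
      rw [← Cit.cj_le_iff]
      refine le_sSup ?_
      rw [← k4] at hL ⊢
      exact hn L hL
    have hcj : Cit.cj t (YA Om K B) = YA Om K B := by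
      refine le_antisymm hle ?_
      have h1 := cj_mono t hle
      rwa [← cj_mul, ht, cj_one] at h1
    have hjB : j ∈ B := Sys.self_mem_cla _ _
    have h1 := hAF G Om hyp (YA Om K B) hD ↥B (fun i => K i.1) (OmIn_mem f.mem f.comm B)
      (fun a b hab => f.comm a.1 b.1 (fun e => hab (Subtype.ext e))) (fun L hL => f.max_in hL) t ht hcj
      (by
        rintro ⟨i, hi⟩ x hx
        have h2 := (f.mem_cla_iff j i).mp hi
        rw [hr, hj] at h2
        exact hcl (K i) h2 x hx)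
    have hTT : ∀ X ∈ Red.TT Om F M₀, X ≤ YA Om K B := by
      intro X hX
      rw [k4] at hX
      exact le_YA hX
    rcases h1 with h1 | h1
    · left
      exact fun X hX x hx => h1 x (hTT X hX hx)
    · right
      intro X hX x hx
      have h2 := h1 ⟨j, hjB⟩ x (hTT X hX hx)
      rwa [show K (⟨j, hjB⟩ : ↥B).1 = M₀ from hj] at h2
  · -- tu
    intro F hF K₀ hK₀ M₀ hM₀ hKM
    obtain ⟨ι, _, K, f, hr⟩ := exists_ifrm hfr hF
    obtain ⟨i, hi⟩ := hr.symm ▸ hK₀
    obtain ⟨j, hj⟩ := hr.symm ▸ hM₀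
    have hcard : 5 ≤ Fintype.card ι := by
      have h1 := h8 F hF
      rw [← hr, ← Set.image_univ, Set.ncard_image_of_injective _ f.inj, Set.ncard_univ,
        Nat.card_eq_fintype_card] at h1
      exact h1
    have happ : ¬ f.data.app i j := by
      rw [f.app_iff, hr, hi, hj]; exact hKM
    have h1 := IFrm.tu hKF hyp hloc f hcard happ (by rw [hi, hj]; exact hzne F hF K₀ hK₀ M₀ hM₀ hKM)
    rwa [hi, hj] at h1

/-- **a frame with at least five members is connected** -/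
theorem connected_of_conn [IsSimpleGroup G] (hKF : KindFact.{u}) (hGF : GenFact.{u})
    (hAF : AutFact.{u}) (hZF : ZFact.{u}) (hyp : Hyp Om)
    (hone : ∀ K ∈ Om, ∀ L ∈ Om, ∃ g, Cit.cj g K = L) (hloc : Loc Om)
    (hconn : ∀ C : Set (Subgroup G), C ⊆ Om → C.Nonempty →
      (∀ K ∈ C, ∀ L ∈ Om, cm K L → L ∈ C) → C = Om)
    (S : Sylow 2 G) (f : IFrm Om K) (hr : Set.range K = OmS Om (S : Subgroup G))
    (h5 : 5 ≤ Fintype.card ι) (i j : ι) : f.data.app i j := by
  by_contra hij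
  have hfr := frames hyp hone hloc
  have hF : Set.range K ∈ sylFrames Om := ⟨S, hr⟩
  have hf := hfr.frm _ hF
  refine Red.false_of_red hfr hF hconn ?_ ⟨K i, ⟨i, rfl⟩, K j, ⟨j, rfl⟩, fun h' => hij ((f.app_iff i j).mpr h')⟩
  -- the classes commute
  rintro _ ⟨a, rfl⟩ _ ⟨b, rfl⟩ hab X hX Y hY
  by_cases hthird : ∃ c : ι, ¬ Red.app Om (Set.range K) (K a) (K c) ∧
      ¬ Red.app Om (Set.range K) (K b) (K c)
  · obtain ⟨c, h1, h2⟩ := hthird
    exact hf.cm_of_three ⟨a, rfl⟩ ⟨b, rfl⟩ ⟨c, rfl⟩ hab h1 h2 hX hY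
  push Not at hthird
  have habI : ¬ f.data.app a b := fun h' => hab ((f.app_iff a b).mp h')
  -- transitivity
  have htr : ∀ k l : ι, ∃ σ : Equiv.Perm ι, f.data.toSys.IsAut σ ∧ σ k = l := by
    intro k l
    obtain ⟨g, hg1, hg2⟩ := hfr.trans _ hF _ hF (K k) ⟨k, rfl⟩ (K l) ⟨l, rfl⟩
    have h1 : ∀ m, ∃ m', Cit.cj g (K m) = K m' := by
      intro m
      have : Cit.cj g (K m) ∈ Set.range K := by
        have h2 : Cit.cj g (K m) ∈ Cit.cj g '' Set.range K := ⟨K m, ⟨m, rfl⟩, rfl⟩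
        rwa [hg1] at h2
      obtain ⟨m', hm'⟩ := this
      exact ⟨m', hm'.symm⟩
    choose s hs using h1
    have hinj : Function.Injective s := by
      intro m m' h2
      have h3 : Cit.cj g (K m) = Cit.cj g (K m') := by rw [hs, hs, h2]
      exact f.inj (cj_inj.mp h3)
    refine ⟨Equiv.ofBijective s (Finite.injective_iff_bijective.mp hinj), ?_, ?_⟩
    · exact (isAut f.mem f.comm hyp.conj (fun i g => hyp.zz_cj (f.mem i) g) (g := g) hs).rel
    · apply f.inj
      change K (s k) = K l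
      rw [← hs, hg2]
  have hcardab : (f.data.cla a).card = (f.data.cla b).card := Sys.card_cla_eq f.data.toSys htr a b
  have hun : (f.data.cla a).card + (f.data.cla b).card = Fintype.card ι := by
    rw [← card_union_of_disjoint, ← card_univ]
    · congr 1
      ext c
      rw [mem_union, Sys.mem_cla, Sys.mem_cla, f.app_iff, f.app_iff]
      refine ⟨fun _ => mem_univ _, fun _ => ?_⟩
      by_cases h' : Red.app Om (Set.range K) (K a) (K c)
      · exact Or.inl h'
      · exact Or.inr (hthird c h')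
    · rw [disjoint_left]
      intro c h1 h2
      rw [Sys.mem_cla] at h1 h2
      exact habI (Sys.app_trans _ h1 (Sys.app_symm _ h2))
  have hs3 : 3 ≤ (f.data.cla a).card := by omega
  -- the class is a block of `F - b`
  have hab' : a ≠ b := fun e => habI (e ▸ Sys.app_refl _ _)
  have hblk : f.data.blk (univ.erase b) a = f.data.cla a := Sys.blk_eq_cla _ habI
  have hPc : Cit.Piece Om (YA Om K (f.data.cla a)) := by
    rw [← hblk]; exact IFrm.piece_blk hyp hloc f hab'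
  obtain ⟨τ, hτ⟩ := IFrm.typed_of_card hyp f hs3 hPc
  have hX' : X ≤ YA Om K (f.data.cla a) := by
    rw [← f.sSup_TT a]; exact le_sSup hX
  by_cases h4 : τ = .D 4
  · -- two `D₄`-classes
    subst h4
    have hcls4 : ∀ F ∈ sylFrames Om, ∀ L ∈ F, TyPc Om (.D 4) (sSup (Red.TT Om F L)) := by
      intro F hF' L hL
      obtain ⟨g, hg1, hg2⟩ := hfr.trans _ hF F hF' (K a) ⟨a, rfl⟩ L hL
      have h1 := hτ.cj hyp g
      have h2 : Cit.cj g (YA Om K (f.data.cla a)) = sSup (Red.TT Om F L) := by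
        rw [← f.sSup_TT a, ← hg1, ← hg2, Red.TT_cj hyp.conj]
        apply le_antisymm
        · rw [Cit.cj_le_iff]
          refine sSup_le fun M hM => ?_
          rw [← Cit.cj_le_iff]
          exact le_sSup ⟨M, hM, rfl⟩
        · refine sSup_le ?_
          rintro _ ⟨M, hM, rfl⟩
          exact cj_mono g (le_sSup hM)
      rwa [h2] at h1
    have h8 : ∀ F ∈ sylFrames Om, 5 ≤ F.ncard := by
      intro F hF'
      obtain ⟨S', rfl⟩ := hF'
      obtain ⟨g, hg⟩ := Cit.exists_cj_sylow S S'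
      rw [← hg, ncard_OmS_cj hyp.conj, ← hr, ← Set.image_univ,
        Set.ncard_image_of_injective _ f.inj, Set.ncard_univ, Nat.card_eq_fintype_card]
      exact h5
    have htwo0 : ∀ L ∈ Set.range K, ∀ M ∈ Set.range K, ∀ N ∈ Set.range K,
        Red.app Om (Set.range K) L M ∨ Red.app Om (Set.range K) L N ∨
          Red.app Om (Set.range K) M N := by
      have h1 : ∀ N ∈ Set.range K, Red.app Om (Set.range K) (K a) N ∨
          Red.app Om (Set.range K) (K b) N := by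
        rintro _ ⟨c, rfl⟩
        by_cases h' : Red.app Om (Set.range K) (K a) (K c)
        · exact Or.inl h'
        · exact Or.inr (hthird c h')
      intro L hL M hM N hN
      rcases h1 L hL with h2 | h2 <;> rcases h1 M hM with h3 | h3 <;> rcases h1 N hN with h5 | h5
      · exact Or.inl (Red.app_trans (Red.app_symm h2) h3)
      · exact Or.inl (Red.app_trans (Red.app_symm h2) h3)
      · exact Or.inr (Or.inl (Red.app_trans (Red.app_symm h2) h5))
      · exact Or.inr (Or.inr (Red.app_trans (Red.app_symm h3) h5))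
      · exact Or.inr (Or.inr (Red.app_trans (Red.app_symm h3) h5))
      · exact Or.inr (Or.inl (Red.app_trans (Red.app_symm h2) h5))
      · exact Or.inl (Red.app_trans (Red.app_symm h2) h3)
      · exact Or.inl (Red.app_trans (Red.app_symm h2) h3)
    have htwo : ∀ F ∈ sylFrames Om, ∀ L ∈ F, ∀ M ∈ F, ∀ N ∈ F,
        Red.app Om F L M ∨ Red.app Om F L N ∨ Red.app Om F M N := by
      intro F hF' L hL M hM N hN
      obtain ⟨g, hg1, -⟩ := hfr.trans _ hF F hF' (K a) ⟨a, rfl⟩ L hL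
      rw [← hg1] at hL hM hN ⊢
      obtain ⟨L', hL', rfl⟩ := hL
      obtain ⟨M', hM', rfl⟩ := hM
      obtain ⟨N', hN', rfl⟩ := hN
      rw [Red.app_cj_iff hyp.conj, Red.app_cj_iff hyp.conj, Red.app_cj_iff hyp.conj]
      exact htwo0 L' hL' M' hM' N' hN'
    exact (dhyp hKF hAF hZF hyp hloc hfr h8 htwo hcls4).comm hF ⟨a, rfl⟩ ⟨b, rfl⟩ hab hX hY
  · -- (GEN)
    have h1 := hGF G Om hyp _ τ hτ h4 ↥(f.data.cla a) (fun i => K i.1)
      (OmIn_mem f.mem f.comm _) (fun c d hcd => f.comm c.1 d.1 (fun e => hcd (Subtype.ext e)))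
      (fun L hL => f.max_in hL) (by rw [Fintype.card_coe]; exact hs3)
    have h2 : cm (sSup {L | L ∈ OmIn Om (YA Om K (f.data.cla a)) ∧
        ∃ i : ↥(f.data.cla a), cm L (K i.1)}) Y := by
      refine cm_sSup ?_
      rintro L ⟨hL, ⟨c, hc⟩, hcm⟩
      have hL' : L ∈ Red.TT Om (Set.range K) (K a) := by
        rw [f.TT_eq_OmA]
        exact mem_OmA_of_le hL.1 hL.2
      exact hf.cm_of_gen ⟨a, rfl⟩ ⟨b, rfl⟩ hab ((f.mem_cla_iff a c).mp hc) hL' hcm hY
    exact cm_mono (hX'.trans h1) le_rfl h2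

end Cfsg.Agent.Cit.TypeDet
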