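import Mathlib
import Cfsg.Agent.Cit.TypeDet.DFourAut
import Cfsg.Agent.Cit.TypeDet.KindsAll
import Cfsg.Agent.Cit.TypeDet.Reduc

/-!
# The facts `KindFact`, `ZFact`, `AutFact` (project CIT, inputs of `Cit/CoreMany.lean`)

helper542.
* `kindFact` : the kinds of the typed pieces (helper601's `KindsAll.kt`);
* `zFact` : LEMMA Z for `D 4`: the members of `Om` in a `D₄`-piece are connected by commuting involutions;
* `autFact` : an involution normalising a `D₄`-piece and centralising a frame centralises the piece, possibly after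
  multiplication with the involutions of the frame.
-/

set_option autoImplicit false
set_option linter.unusedSectionVars false

namespace Cfsg.Agent.Cit.TypeDet.DFourFacts

open Relation
open Cfsg.Agent.Nodes Cfsg.Agent.Nodes.Chart Cfsg.Agent.Nodes.TyStd Cfsg.Agent.Nodes.Coroot
  Cfsg.Agent.Nodes.RootKindsD Cfsg.Agent.ChevalleyStructure.CoxeterGeom Cfsg.Agent.Tits.Roots
  Cfsg.Agent.Tits.Core Cfsg.Agent.Cit.TypeDet Cfsg.Agent.Nodes.Perp Cfsg.Agent.Nodes.ChartFrame
  Cfsg.Agent.Nodes.TypeD Cfsg.Agent.Nodes.RGDLib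

universe v

theorem kindFact : KindFact.{v} := by
  intro G _ _ Om hyp D τ h κ _ K hK hc hmax
  obtain ⟨-, -, -, -, p, c, kind, -, -, -⟩ := h
  exact KindsAll.kt hyp c kind hK hc hmax

/-! ### The root system `D₄` -/

section Root

variable {W : Type*} [Group W] [Fintype W] (cs : CoxeterSystem (TypeD.M 2) W)

/-- `{a, b}` is the pair of `± g l` -/
def Pr (a b : Fin (2 + 2) × Bool) (l : KindD.Ix 2) : Prop :=
  (a = (KindD.i0 (n := 2) l.1, true) ∧ b = (KindD.i1 (n := 2) l.1, l.2)) ∨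
      (b = (KindD.i0 (n := 2) l.1, true) ∧ a = (KindD.i1 (n := 2) l.1, l.2)) ∨
      (a = (KindD.i0 (n := 2) l.1, false) ∧ b = (KindD.i1 (n := 2) l.1, !l.2)) ∨
      (b = (KindD.i0 (n := 2) l.1, false) ∧ a = (KindD.i1 (n := 2) l.1, !l.2))

instance (a b : Fin (2 + 2) × Bool) (l : KindD.Ix 2) : Decidable (Pr a b l) := by
  unfold Pr; infer_instance

/-- the products with the frame are `± 1` -/
def Qr (a b : Fin (2 + 2) × Bool) : Prop :=
  ∀ l : KindD.Ix 2, |KindD.dw (n := 2) a (KindD.i0 (n := 2) l.1, true) +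
      KindD.dw (n := 2) a (KindD.i1 (n := 2) l.1, l.2) + KindD.dw (n := 2) b (KindD.i0 (n := 2) l.1, true) +
      KindD.dw (n := 2) b (KindD.i1 (n := 2) l.1, l.2)| = 1

instance (a b : Fin (2 + 2) × Bool) : Decidable (Qr a b) := by
  unfold Qr; infer_instance

theorem dich_aux : ∀ a b : Fin (2 + 2) × Bool, a.1 ≠ b.1 → (∃ l : KindD.Ix 2, Pr a b l) ∨ Qr a b := by
  decide

theorem fr : DFourAut.Fr cs (TypeD.isCartan 2) (KindD.g (n := 2)) where
  sld x y hx hy h1 h2 := KindD.abs_cpr_le_one cs hx hy h1 h2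
  root k := KindD.isRoot_g cs k
  orth k l hkl := (cpr_zero_iff cs _ _ (KindD.isRoot_g cs l)).1 (KindD.g_orth cs hkl)
  dich y hy := by
    obtain ⟨a, b, hab, rfl⟩ := KindD.exists_rD cs hy
    rcases dich_aux a b hab with ⟨l, h1⟩ | h1
    · left
      refine ⟨l, ?_⟩
      have hg : KindD.g (n := 2) l = KindD.rD (KindD.i0 l.1, true) (KindD.i1 l.1, l.2) := rfl
      have hok := KindD.ok_g (n := 2) l
      have hng : -KindD.g (n := 2) l = KindD.rD (KindD.i0 l.1, false) (KindD.i1 l.1, !l.2) := by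
        rw [hg, KindD.rD_neg hok]; rfl
      rcases h1 with ⟨rfl, rfl⟩ | ⟨rfl, rfl⟩ | ⟨rfl, rfl⟩ | ⟨rfl, rfl⟩
      · exact Or.inl hg.symm
      · left; rw [KindD.rD_comm hab]; exact hg.symm
      · exact Or.inr hng.symm
      · right; rw [KindD.rD_comm hab]; exact hng.symm
    · right
      intro l
      have hg : KindD.g (n := 2) l = KindD.rD (KindD.i0 l.1, true) (KindD.i1 l.1, l.2) := rfl
      rw [hg, KindD.cpr_rD_rD cs hab (KindD.ok_g (n := 2) l)]
      exact h1 l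
  det y y' hy hy' h1 := by
    apply TypeD.ee_injective
    have h2 : ∀ k : Fin 2, ee y (KindD.i0 (n := 2) k) = ee y' (KindD.i0 (n := 2) k) ∧
        ee y (KindD.i1 (n := 2) k) = ee y' (KindD.i1 (n := 2) k) := by
      intro k
      have e1 := h1 (k, true)
      have e2 := h1 (k, false)
      rw [KindD.cpr_g_true, KindD.cpr_g_true] at e1
      rw [KindD.cpr_g_false, KindD.cpr_g_false] at e2
      constructor <;> omega
    funext j
    fin_cases j
    · exact (h2 0).1
    · exact (h2 0).2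
    · exact (h2 1).1
    · exact (h2 1).2

end Root

/-! ### The standard chart of a `D₄`-piece -/

variable {G : Type v} [Group G] [Finite G] {Om : Set (Subgroup G)}

/-- a chart of type `D 4` with the standard frame -/
theorem exists_chart {D : Subgroup G} (hty : TyPc Om (.D 4) D) : ∃ (p : ℕ) (C : Chart.Chart Om p D)
    (g : Fin 2 × Bool → C.I → ℤ), (∀ x, IsRoot C.cs C.h x → x ∈ C.R) ∧
      (∀ x, IsRoot C.cs C.h x → C.Z x = C.X x) ∧ KindBase.FrameSys C.cs C.h C.R g ∧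
      DFourAut.Fr C.cs C.h g ∧ ∀ r ∈ C.R, C.z r ≠ 1 := by
  obtain ⟨-, -, -, -, p, c, kind, -, -, zx⟩ := hty
  have hzx : ∀ r ∈ c.R, c.Z r = c.X r := by
    rcases zx with h | ⟨n, h⟩
    · exact h
    · cases h
  obtain ⟨_, e, hM, hA, hroot, hact, hR, htr, -⟩ := KindsD.exists_std c kind
  have FS : KindBase.FrameSys (TypeD.M (4 - 2)).toCoxeterSystem (Ty.D 4).isCartan
      (RR (TypeD.M (4 - 2)).toCoxeterSystem) (KindD.g (n := 2)) := KindD.frameSys _
  have F : DFourAut.Fr (TypeD.M (4 - 2)).toCoxeterSystem (Ty.D 4).isCartan (KindD.g (n := 2)) := fr _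
  refine ⟨p, reindex c e hM hA (TypeD.M (4 - 2)).toCoxeterSystem (Ty.D 4).isCartan hroot hact hR htr,
    KindD.g (n := 2), fun x hx => hx, fun x hx => ?_, FS, F, ?_⟩
  · exact hzx _ ((mem_R_iff (cs := c.cs) (h := c.h) e hM hA (TypeD.M (4 - 2)).toCoxeterSystem
      (Ty.D 4).isCartan c.cls.act hact hR hx).2 hx)
  · obtain ⟨x, hx, h1⟩ : ∃ x, IsRoot (TypeD.M (4 - 2)).toCoxeterSystem (Ty.D 4).isCartan x ∧
        ∀ k, |cpr (TypeD.M (4 - 2)).toCoxeterSystem (Ty.D 4).isCartan x (KindD.g (n := 2) k)| = 1 := by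
      have hok : Ok (n := 2) (0, true) (2, true) := by unfold Ok; decide
      refine ⟨KindD.rD (n := 2) (0, true) (2, true), KindD.isRoot_rD (n := 2) _ hok, fun k => ?_⟩
      have hg : KindD.g (n := 2) k = KindD.rD (KindD.i0 k.1, true) (KindD.i1 k.1, k.2) := rfl
      rw [hg]
      refine (congrArg abs (KindD.cpr_rD_rD (n := 2) (TypeD.M 2).toCoxeterSystem hok
        (KindD.ok_g (n := 2) k))).trans ?_
      clear hg
      revert k
      decide
    have h2 := h1 (0, true)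
    have h3 := F.root (0, true)
    obtain ⟨n1, n2⟩ := DFourAut.ne_of_cpr hx h3 h2
    exact KindsOf.z_ne_one (reindex c e hM hA (TypeD.M (4 - 2)).toCoxeterSystem (Ty.D 4).isCartan hroot hact
      hR htr) (r := KindD.g (n := 2) (0, true)) (x := x) h3 hx n1 n2 (fun h0 => by
        have h4 := (cpr_zero_iff (TypeD.M (4 - 2)).toCoxeterSystem (Ty.D 4).isCartan x h3).2 h0
        rw [h4] at h2
        norm_num at h2)

/-! ### LEMMA Z -/

theorem zstp_symm {T : Set (Subgroup G)} {X Y : Subgroup G} (h : Red.zstp T X Y) : Red.zstp T Y X :=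
  ⟨h.2.1, h.1, h.2.2.symm⟩

theorem chain_symm {T : Set (Subgroup G)} {X Y : Subgroup G} (h : ReflTransGen (Red.zstp T) X Y) :
    ReflTransGen (Red.zstp T) Y X := by
  induction h with
  | refl => exact ReflTransGen.refl
  | tail _ h2 ih => exact ReflTransGen.head (zstp_symm h2) ih

theorem zstp_cj (hyp : Hyp Om) {D X Y : Subgroup G} {g : G} (hg : g ∈ D) (h : Red.zstp (OmIn Om D) X Y) :
    Red.zstp (OmIn Om D) (Cit.cj g X) (Cit.cj g Y) := by
  obtain ⟨hX, hY, hc⟩ := h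
  have hle : ∀ {K : Subgroup G}, K ≤ D → Cit.cj g K ≤ D := by
    intro K hK x hx
    rw [mem_cj] at hx
    have h2 : x = g * (g⁻¹ * x * g) * g⁻¹ := by group
    rw [h2]
    exact mul_mem (mul_mem hg (hK hx)) (inv_mem hg)
  refine ⟨⟨hyp.conj _ hX.1 g, hle hX.2⟩, ⟨hyp.conj _ hY.1 g, hle hY.2⟩, ?_⟩
  rw [hyp.zz_cj hX.1, hyp.zz_cj hY.1]
  calc g * zz X * g⁻¹ * (g * zz Y * g⁻¹) = g * (zz X * zz Y) * g⁻¹ := by group
    _ = g * (zz Y * zz X) * g⁻¹ := by rw [hc]
    _ = _ := by group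

theorem chain_cj (hyp : Hyp Om) {D X Y : Subgroup G} {g : G} (hg : g ∈ D)
    (h : ReflTransGen (Red.zstp (OmIn Om D)) X Y) :
    ReflTransGen (Red.zstp (OmIn Om D)) (Cit.cj g X) (Cit.cj g Y) :=
  h.lift (Cit.cj g) fun _ _ h0 => zstp_cj hyp hg h0

theorem zFact_of (hyp : Hyp Om) {D : Subgroup G} {p : ℕ} (C : Chart.Chart Om p D)
    (hz : ∀ r ∈ C.R, C.z r ≠ 1) (horth : ∀ y, IsRoot C.cs C.h y → ∃ s ∈ C.R, form C.cs C.h y s = 0) :
    ∀ X ∈ OmIn Om D, ∀ Y ∈ OmIn Om D, ReflTransGen (Red.zstp (OmIn Om D)) X Y := by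
  obtain ⟨r0, hr0⟩ := C.Rne
  have hKin : ∀ r ∈ C.R, KK C.Z r ∈ OmIn Om D := fun r hr => ⟨KK_mem_Om C hr, KK_le C hr⟩
  have h1 : ∀ r ∈ C.R, ∀ s ∈ C.R, Red.zstp (OmIn Om D) (KK C.Z r) (KK C.Z s) := by
    intro r hr s hs
    refine ⟨hKin r hr, hKin s hs, ?_⟩
    have e1 : zz (KK C.Z r) = C.z r := StdConn.zz_eq hyp C hr (hz r hr)
    have e2 : zz (KK C.Z s) = C.z s := StdConn.zz_eq hyp C hs (hz s hs)
    rw [e1, e2]
    exact ZRel.z_comm C.cls hr hs
  -- the conjugates of `KK r0`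
  have h2 : ∀ g ∈ D, ReflTransGen (Red.zstp (OmIn Om D)) (KK C.Z r0) (Cit.cj g (KK C.Z r0)) := by
    have hD : D = Subgroup.closure (⋃ x : {x | IsRoot C.cs C.h x}, (C.X x.1 : Set G)) := by
      refine C.gen.symm.trans ?_
      unfold G1 Cfsg.Agent.Nodes.BNOf.RGD.Sup
      exact Subgroup.iSup_eq_closure _
    have h3 : ∀ g ∈ Subgroup.closure (⋃ x : {x | IsRoot C.cs C.h x}, (C.X x.1 : Set G)),
        ReflTransGen (Red.zstp (OmIn Om D)) (KK C.Z r0) (Cit.cj g (KK C.Z r0)) := by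
      intro g hg
      induction hg using Subgroup.closure_induction with
      | mem g hg =>
        rw [Set.mem_iUnion] at hg
        obtain ⟨⟨y, hy⟩, hgy⟩ := hg
        obtain ⟨s, hs, h0⟩ := horth y hy
        have hgD : g ∈ D := X_le C hy hgy
        have h4 : Cit.cj g (KK C.Z s) = KK C.Z s := by
          have h5 : g ∈ Subgroup.normalizer (KK C.Z s : Set G) :=
            Cfsg.Agent.Nodes.ClsNorm.centralizer_le_normalizer' _
              (Cfsg.Agent.Cit.TypeDet.cm_iff_le_centralizer.1 (X_cm_KK C.cls hs hy h0) hgy)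
          exact Cfsg.Agent.Nodes.Reps.mem_normalizer_iff_cj.1 h5
        have h5 := h1 r0 hr0 s hs
        have h6 := zstp_cj hyp hgD (h1 s hs r0 hr0)
        rw [h4] at h6
        exact (ReflTransGen.single h5).tail h6
      | one => rw [cj_one]
      | mul x y hx hy ihx ihy =>
        rw [← hD] at hx
        have h4 := chain_cj hyp hx ihy
        rw [← cj_mul] at h4
        exact ihx.trans h4
      | inv x hx ih =>
        rw [← hD] at hx
        have h4 := chain_cj hyp (inv_mem hx) ih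
        rw [cj_inv_cj] at h4
        exact chain_symm h4
    intro g hg
    exact h3 g (by rw [← hD]; exact hg)
  have h3 : ∀ X ∈ OmIn Om D, ReflTransGen (Red.zstp (OmIn Om D)) (KK C.Z r0) X := by
    rintro X ⟨hX, hXD⟩
    obtain ⟨r, hr, g, hg, e⟩ := C.om_conj X hX hXD
    have e' : X = Cit.cj g (KK C.Z r) := e
    rw [e']
    exact (h2 g hg).tail (zstp_cj hyp hg (h1 r0 hr0 r hr))
  intro X hX Y hY
  exact (chain_symm (h3 X hX)).trans (h3 Y hY)

theorem zFact : ZFact.{v} := by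
  intro G _ _ Om hyp D hty
  obtain ⟨p, C, g, hR, hZ, FS, F, hz⟩ := exists_chart hty
  refine zFact_of hyp C hz fun y hy => ?_
  obtain ⟨w, hw⟩ := C.trans _ (FS.mem (0, true)) y (hR y hy)
  refine ⟨rep C.cs C.h w (g (0, false)), C.cls.act _ (FS.mem _) w, ?_⟩
  rw [hw, form_rep]
  exact F.orth _ _ (by decide)

/-! ### The automorphism fact -/

theorem autFact : AutFact.{v} := by
  intro G _ _ Om hyp D hty κ _ K hK hc hmax t ht hD htK
  obtain ⟨p, C, g, hR, hZ, FS, F, hz⟩ := exists_chart hty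
  obtain ⟨s, d, hF⟩ := exists_frameIn C hK hc
  obtain ⟨σ, e, hF'⟩ := hF.exists_std hyp.conj (fun L' hL' h0 => by
    obtain ⟨i, hi⟩ := hmax L' hL'
    exact hi (h0 i)) FS
  have hti : t⁻¹ = t := inv_eq_of_mul_eq_one_left ht
  have htD : ∀ x ∈ D, t * x * t ∈ D := by
    intro x hx
    rw [← hD, mem_cj, hti]
    have h1 : t * (t * x * t) * t = x := by
      calc t * (t * x * t) * t = (t * t) * x * (t * t) := by group
        _ = x := by rw [ht]; group
    rw [h1]; exact hx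
  set u := e * t * e⁻¹ with hu
  have huu : u * u = 1 := by
    rw [hu]
    calc e * t * e⁻¹ * (e * t * e⁻¹) = e * (t * t) * e⁻¹ := by group
      _ = 1 := by rw [ht]; group
  have hG : DFourAut.Inv u (Cfsg.Agent.Nodes.Bruhat.GG C.cs C.h C.T C.X) := by
    intro x hx
    rw [GG_eq C] at hx ⊢
    have h1 : u * x * u = e * (t * (e⁻¹ * x * e) * t) * e⁻¹ := by rw [hu]; group
    rw [h1]
    exact mul_mem (mul_mem hF'.mem (htD _ (mul_mem (mul_mem (inv_mem hF'.mem) hx) hF'.mem)))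
      (inv_mem hF'.mem)
  have hcu : ∀ k, ∀ x ∈ KK C.Z (g k), u * x = x * u := by
    intro k x hx
    obtain ⟨i, rfl⟩ := σ.surjective k
    have h1 : Cit.cj e (K i) = KK C.Z (g (σ i)) := hF'.eq i
    rw [← h1, mem_cj] at hx
    have h2 := htK i _ hx
    calc u * x = e * (t * (e⁻¹ * x * e)) * e⁻¹ := by rw [hu]; group
      _ = e * (e⁻¹ * x * e * t) * e⁻¹ := by rw [h2]
      _ = x * u := by rw [hu]; group
  have hGD : ∀ x ∈ D, e * x * e⁻¹ ∈ G1 C.cs C.h C.X := by
    intro x hx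
    have h1 : G1 C.cs C.h C.X = D := C.gen
    rw [h1]
    exact mul_mem (mul_mem hF'.mem hx) (inv_mem hF'.mem)
  rcases DFourAut.dichotomy C.cls hR hZ C.prime C.odd F huu hG hcu (0, true) with h1 | h1
  · left
    intro x hx
    have h2 := h1 _ (hGD x hx)
    calc t * x = e⁻¹ * (u * (e * x * e⁻¹)) * e := by rw [hu]; group
      _ = e⁻¹ * (e * x * e⁻¹ * u) * e := by rw [h2]
      _ = x * t := by rw [hu]; group
  · right
    intro i x hx
    have h2 := h1 (σ i) _ (hGD x hx)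
    have h3 : e * zz (K i) * e⁻¹ = C.z (g (σ i)) := KindsOf.FrameIn_zz hyp hF' hK hz i
    rw [← h3] at h2
    calc t * zz (K i) * x = e⁻¹ * (u * (e * zz (K i) * e⁻¹) * (e * x * e⁻¹)) * e := by rw [hu]; group
      _ = e⁻¹ * (e * x * e⁻¹ * (u * (e * zz (K i) * e⁻¹))) * e := by rw [h2]
      _ = x * (t * zz (K i)) := by rw [hu]; group

end Cfsg.Agent.Cit.TypeDet.DFourFacts
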