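import Cfsg.Agent.Cit.TypeDet.Blocks

/-!
# Conjugate frames

`IFrm.cjf f g` : the frame `(cj g (K i))_i`; `IFrm.hom_cj` : its data; `kd4_unique` : a typed kind which is `KD4` is of
type `D 4`.
-/

set_option autoImplicit false
set_option linter.unusedSectionVars false

namespace Cfsg.Agent.Cit.TypeDet

open Subgroup Finset Classical Relation Cfsg Cfsg.Agent.Nodes.Chart

universe u

variable {G : Type u} [Group G] [Finite G] {Om : Set (Subgroup G)}
  {ι : Type u} [Fintype ι] {K : ι → Subgroup G}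

theorem OmA_cj (hO : ∀ L ∈ Om, ∀ g, cj g L ∈ Om) (g : G) (A : Finset ι) {L : Subgroup G} :
    cj g L ∈ OmA Om (fun i => cj g (K i)) A ↔ L ∈ OmA Om K A := by
  constructor
  · rintro ⟨h1, h2⟩
    exact ⟨by have := hO _ h1 g⁻¹; rwa [cj_inv_cj] at this, fun k hk => cm_cj.mp (h2 k hk)⟩
  · rintro ⟨h1, h2⟩
    exact ⟨hO _ h1 g, fun k hk => cm_cj.mpr (h2 k hk)⟩

theorem YA_cj (hO : ∀ L ∈ Om, ∀ g, cj g L ∈ Om) (g : G) (A : Finset ι) :
    YA Om (fun i => cj g (K i)) A = cj g (YA Om K A) := by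
  apply le_antisymm
  · refine sSup_le fun L hL => ?_
    rw [← cj_cj_inv g L]
    refine cj_mono g (le_YA ?_)
    rw [← OmA_cj hO g, cj_cj_inv]
    exact hL
  · rw [← cj_le_cj (g := g⁻¹), cj_inv_cj]
    refine sSup_le fun L hL => ?_
    rw [← cj_inv_cj g L]
    exact cj_mono g⁻¹ (le_YA ((OmA_cj hO g A).mpr hL))

namespace IFrm

/-- the conjugate frame -/
theorem cjf (f : IFrm Om K) (hO : ∀ L ∈ Om, ∀ g, cj g L ∈ Om) (g : G) : IFrm Om (fun i => cj g (K i)) where
  mem i := hO _ (f.mem i) g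
  comm i j hij := cm_cj.mpr (f.comm i j hij)
  max L hL := by
    obtain ⟨i, hi⟩ := f.max (cj g⁻¹ L) (hO _ hL g⁻¹)
    refine ⟨i, fun h => hi ?_⟩
    rw [← cm_cj (g := g), cj_cj_inv]
    exact h

theorem hom_cj (f : IFrm Om K) (hyp : Hyp Om) (g : G) :
    Data.Hom f.data (f.cjf hyp.conj g).data (Function.Embedding.refl ι) := by
  have hm : ∀ A : Finset ι, A.map (Function.Embedding.refl ι) = A := fun A => map_refl
  have hz : ∀ i, zz (cj g (K i)) = g * zz (K i) * g⁻¹ := fun i => hyp.zz_cj (f.mem i) g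
  refine ⟨?_, ?_, ?_, ?_, ?_⟩
  · intro A i j
    rw [hm]
    change (i ∈ A ∧ j ∈ A ∧ chn (OmA Om (fun i => cj g (K i)) A) (cj g (K i)) (cj g (K j))) ↔
      (i ∈ A ∧ j ∈ A ∧ chn (OmA Om K A) (K i) (K j))
    refine and_congr_right fun _ => and_congr_right fun _ => ?_
    constructor
    · intro h
      have := chn_cj (g := g⁻¹) (T' := OmA Om K A) (fun L hL => by
        rw [← OmA_cj hyp.conj g, cj_cj_inv]; exact hL) h
      rwa [cj_inv_cj, cj_inv_cj] at this
    · exact chn_cj fun L hL => (OmA_cj hyp.conj g A).mpr hL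
  · intro a b c d
    change zz (cj g (K a)) * zz (cj g (K b)) * zz (cj g (K c)) * zz (cj g (K d)) = 1 ↔
      zz (K a) * zz (K b) * zz (K c) * zz (K d) = 1
    rw [hz, hz, hz, hz]
    have : g * zz (K a) * g⁻¹ * (g * zz (K b) * g⁻¹) * (g * zz (K c) * g⁻¹) *
        (g * zz (K d) * g⁻¹) = g * (zz (K a) * zz (K b) * zz (K c) * zz (K d)) * g⁻¹ := by group
    rw [this, conj_eq_one_iff]
  · intro a b
    change zz (cj g (K a)) = zz (cj g (K b)) ↔ zz (K a) = zz (K b)
    rw [hz, hz]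
    constructor
    · intro h; exact mul_left_cancel (mul_right_cancel h)
    · intro h; rw [h]
  · intro a
    change (∀ L ∈ OmA Om (fun i => cj g (K i)) {a}, L = cj g (K a)) ↔ ∀ L ∈ OmA Om K {a}, L = K a
    constructor
    · intro h L hL
      exact cj_injective' g (h (cj g L) ((OmA_cj hyp.conj g _).mpr hL))
    · intro h L hL
      have := h (cj g⁻¹ L) (by rw [← OmA_cj hyp.conj g, cj_cj_inv]; exact hL)
      rw [← this, cj_cj_inv]
  · intro A k
    rw [hm]
    change (∀ x ∈ YA Om (fun i => cj g (K i)) A, x * zz (cj g (K k)) = zz (cj g (K k)) * x) ↔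
      ∀ x ∈ YA Om K A, x * zz (K k) = zz (K k) * x
    rw [YA_cj hyp.conj, hz]
    constructor
    · intro h x hx
      exact conj_comm_iff.mp (h _ (conj_mem_cj hx))
    · intro h x hx
      rw [mem_cj] at hx
      have h1 := (conj_comm_iff (g := g)).mpr (h _ hx)
      have h2 : g * (g⁻¹ * x * g) * g⁻¹ = x := by group
      rwa [h2] at h1

end IFrm

namespace Data

variable {F : Type*} [Fintype F] {S : Data F G}

/-- a typed kind which is `KD4` is of type `D 4` -/
theorem eq_D4_of_KD4 {τ : Nodes.Chart.Ty} {B : Finset F} (h4 : S.KD4 B) (h : S.KT τ B) : τ = .D 4 := by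
  have h40 := h4.1
  obtain ⟨l, hl⟩ : B.Nonempty := card_pos.mp (by omega)
  have h3 : (B.erase l).card = 3 := by rw [card_erase_of_mem hl]; omega
  obtain ⟨a, ha⟩ : (B.erase l).Nonempty := card_pos.mp (by omega)
  obtain ⟨b, hb, hba⟩ := exists_mem_ne (by omega : 1 < (B.erase l).card) a
  have hnc : ¬ S.Conn (B.erase l) := fun hc => h4.2.1 l hl a ha b hb hba.symm (hc a ha b hb)
  have hpair : ∀ p : F → F, Pairing B p → S.PairSplit B p → False := by
    intro p hp hs
    obtain ⟨h5, h6, -⟩ := hp l hl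
    -- the two points of `B - {l, p l}`
    have h7 : ((B.erase l).erase (p l)).card = 2 := by
      rw [card_erase_of_mem (mem_erase.mpr ⟨h6, h5⟩)]; omega
    obtain ⟨x, y, hxy, hxy'⟩ := card_eq_two.mp h7
    have hx : x ∈ (B.erase l).erase (p l) := by rw [hxy']; simp
    have hy : y ∈ (B.erase l).erase (p l) := by rw [hxy']; simp
    rw [mem_erase, mem_erase] at hx hy
    refine h4.2.1 l hl x (mem_erase.mpr hx.2) y (mem_erase.mpr hy.2) hxy ?_
    rw [hs l hl x hx.2.2 y hy.2.2 hx.2.1 hy.2.1]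
    exact ⟨fun e => absurd e hx.1, fun e => absurd e hy.1⟩
  cases τ with
  | A n => exact absurd ((h.2 (by omega)).2.1 l hl) hnc
  | B n =>
    obtain ⟨p, hp⟩ := h.2 (by omega)
    exact (hpair p hp.2.1 hp.2.2.1).elim
  | C n => exact absurd ((h.2 (by omega)).2.1 l hl) hnc
  | D n =>
    obtain ⟨h5, h6, h7, h8⟩ := h
    by_cases hn : n = 4
    · rw [hn]
    · exfalso
      rcases Nat.mod_two_eq_zero_or_one n with h9 | h9
      · obtain ⟨p, hp⟩ := h8 (by omega) h9
        exact hpair p hp.2.1 hp.2.2.1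
      · obtain ⟨p, hp⟩ := h7 (by omega) h9
        exact hpair p hp.2.1 hp.2.2.1
  | E6 => exact absurd (h.2.1 l hl) hnc
  | E7 => exact absurd (h.2 l hl) hnc
  | E8 => exact absurd (KE8.conn_erase h l hl) hnc
  | F4 => exact absurd (h.2.1 l hl) hnc
  | G2 =>
    have : B.card = 1 := h
    omega

end Data

end Cfsg.Agent.Cit.TypeDet
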