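import Cfsg.Agent.Cit.PieceG
import Cfsg.Agent.Cit.TypeDet.LemLoc

/-!
# (GEN) modulo odd cores

* `DL_le_of_cover` : a subgroup `M` of `G` which covers the piece `D'` modulo `O(H)` contains the lift `DL Om H D'`;
* `cm_of_cm_DL` : a member commuting with the lift of a piece commutes with all members over the piece;
* `comm_of_qm` : `t ∈ H` commuting with `X ∈ Om` modulo `O(H)` commutes with `X` (`O(X) = 1`).
-/

set_option autoImplicit false
set_option linter.unusedSectionVars false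

namespace Cfsg.Agent.Cit.TypeDet

open Subgroup Relation Cfsg Cfsg.Agent.Cit.UseT Cfsg.Agent.Cit.PieceLift Cfsg.Agent.Cit.PieceG

open scoped commutatorElement

variable {G : Type*} [Group G] [Finite G] {Om : Set (Subgroup G)} {H : Subgroup G}

/-- a subgroup covering the piece contains its lift -/
theorem DL_le_of_cover (C : CorG Om H) {D' : Subgroup (HQ H)} {M : Subgroup G} (h : D' ≤ bar H M) :
    DL Om H D' ≤ M := by
  rw [DL, Subgroup.map_le_iff_le_comap]
  refine sSup_le ?_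
  rintro P ⟨hP, J, hJ, hPJ, hJD⟩ x hx
  obtain ⟨m, hm, hmx⟩ := h (hJD ⟨x, hPJ hx, rfl⟩)
  change (x : G) ∈ M
  have hker : m⁻¹ * x ∈ (qm H).ker := by
    rw [MonoidHom.mem_ker, map_mul, map_inv, hmx, inv_mul_cancel]
  set a := m⁻¹ * x with ha
  have hc : Commute x a := ((mem_centralizer_iff.1 (C.cor'.cor J hJ P hPJ hP hx)) a hker).symm
  have hodd : Odd (orderOf a) := odd_orderOf C.cor'.odd hker
  have hmx' : m = x * a⁻¹ := by rw [ha]; group
  have h4 : m ^ orderOf a = x ^ orderOf a := by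
    rw [hmx', hc.inv_right.mul_pow, inv_pow, pow_orderOf_eq_one, inv_one, mul_one]
  obtain ⟨k, hk⟩ := hP ⟨x, hx⟩
  have hk' : x ^ 2 ^ k = 1 := congrArg Subtype.val hk
  have hcop : (orderOf a).Coprime (orderOf x) := by
    have h3 : orderOf x ∣ 2 ^ k := orderOf_dvd_of_pow_eq_one hk'
    exact Nat.Coprime.coprime_dvd_right h3 (Nat.Coprime.pow_right k hodd.coprime_two_right)
  obtain ⟨n, hn⟩ := exists_pow_eq_self_of_coprime hcop
  have h5 : x = m ^ (orderOf a * n) := by rw [pow_mul, h4, hn]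
  rw [h5, Subgroup.coe_pow]
  exact pow_mem hm _

/-- a member commuting with the lift of a piece commutes with all members over the piece -/
theorem cm_of_cm_DL (hl : Lem Om) (C : CorG Om H) {D' : Subgroup (HQ H)} {X Y : Subgroup G} (hX : X ∈ Om)
    (hXH : X ≤ H) (hXD : bar H X ≤ D') (hY : Y ∈ Om) (hc : cm (DL Om H D') Y) : cm X Y := by
  have hz : zz X ∈ DL Om H D' := zz_mem_DL C.hyp hX hXH hXD
  rcases hl Y hY X hX (fun y hy => (hc _ hz y hy).symm) with e | e
  · exfalso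
    subst e
    obtain ⟨Q, hQ⟩ := Hyp.exists_syl Y
    obtain ⟨c, v, n, hq⟩ := C.hyp.exists_gq hY hQ
    have hQD : Q ≤ DL Om H D' := le_DL hX hXH hQ.2.1 hQ.1 hXD
    exact hq.not_comm (hc _ (hQD hq.v_mem) _ (hQ.1 hq.c_mem))
  · exact cm_symm e

/-- an odd normal subgroup of `H` meets the members with trivial odd core trivially -/
theorem inf_OO_eq_bot {X : Subgroup G} (hXH : X ≤ H) (hO : OO X = ⊥) : X ⊓ OO H = ⊥ := by
  rw [eq_bot_iff, ← hO]
  refine le_OO inf_le_left ?_ ?_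
  · intro x hx
    rw [mem_normalizer_iff]
    intro y
    rw [mem_inf, mem_inf, ← mem_normalizer_iff.1 (le_normalizer hx) y,
      ← mem_normalizer_iff.1 (le_normalizer_OO H (hXH hx)) y]
  · intro h2
    exact odd_OO H (h2.trans (card_dvd_of_le inf_le_right))

/-- `t ∈ H` commuting with the member `X` modulo `O(H)` commutes with `X` -/
theorem comm_of_qm (C : CorG Om H) {X : Subgroup G} (hX : X ∈ Om) (hXH : X ≤ H) (hO : OO X = ⊥) {t : G}
    (ht : t ∈ H) (hc : ∀ y ∈ bar H X, qm H ⟨t, ht⟩ * y = y * qm H ⟨t, ht⟩) : ∀ x ∈ X, t * x = x * t := by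
  have h1 : cj t X = X := by
    refine eq_of_bar_eq C (C.hyp.conj X hX t) hX ?_ hXH ?_
    · have := cj_mono t hXH
      rwa [mem_normalizer_iff_cj.1 (le_normalizer ht)] at this
    · have h2 := cj_bar (H := H) (K := X) ⟨t, ht⟩
      change bar H (cj t X) = _ at h2
      rw [h2]
      ext y
      rw [Cit.mem_cj]
      constructor
      · intro hy
        have h3 := hc _ hy
        have h4 : (qm H ⟨t, ht⟩)⁻¹ * y * qm H ⟨t, ht⟩ = y := by
          have h5 : y = qm H ⟨t, ht⟩ * ((qm H ⟨t, ht⟩)⁻¹ * y * qm H ⟨t, ht⟩) * (qm H ⟨t, ht⟩)⁻¹ := by group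
          rw [h3] at h5
          rw [mul_assoc ((qm H ⟨t, ht⟩)⁻¹ * y * qm H ⟨t, ht⟩), mul_inv_cancel, mul_one] at h5
          exact h5.symm
        rwa [h4] at hy
      · intro hy
        have h3 := hc _ hy
        rw [mul_assoc, ← h3, inv_mul_cancel_left]
        exact hy
  intro x hx
  have h2 : t * x * t⁻¹ * x⁻¹ ∈ X ⊓ OO H := by
    refine mem_inf.2 ⟨mul_mem ?_ (inv_mem hx), ?_⟩
    · rw [← h1]; exact conj_mem_cj hx
    · have h3 : qm H (⟨t, ht⟩ * ⟨x, hXH hx⟩ * (⟨t, ht⟩)⁻¹ * (⟨x, hXH hx⟩)⁻¹) = 1 := by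
        rw [map_mul, map_mul, map_mul, map_inv, map_inv, hc _ (mem_bar (x := ⟨x, hXH hx⟩) hx)]
        group
      exact qm_eq_one_iff.1 h3
  rw [inf_OO_eq_bot hXH hO, mem_bot] at h2
  have h3 : t * x = t * x * t⁻¹ * x⁻¹ * (x * t) := by group
  rw [h3, h2, one_mul]

end Cfsg.Agent.Cit.TypeDet
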