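import Cfsg.Agent.Cit.TypeDet.LocalBar
import Cfsg.Agent.Cit.TypeDet.BarGen
import Cfsg.Agent.Cit.TypeDet.BarConj
import Cfsg.Agent.Cit.TypeDet.Reduc
import Cfsg.Agent.Cit.TypeDet.KindsAll
import Cfsg.Agent.Nodes.GenFrame

/-!
# The type determination modulo odd cores, `|Om(S)| ≥ 5` (project CIT, (EX))

Local input: `LocB Om` and (C) + THEOREM T modulo the odd core at `zz K * zz L`, `[K, L] = 1`.

* `genFact` : (GEN);
* `tu_bar`, `aut_bar`, `zcon_bar`, `dhyp_bar` : two `D₄`-classes;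
* `connected_bar` : a frame with at least five members is connected.
-/

set_option autoImplicit false
set_option linter.unusedSectionVars false
set_option linter.unusedVariables false

namespace Cfsg.Agent.Cit.TypeDet

open Subgroup Finset Classical Relation Cfsg Cfsg.Agent.Nodes.Chart
open Cfsg.Agent.Cit.UseT Cfsg.Agent.Cit.PieceG Cfsg.Agent.Cit.TypeDet.LocalBar

universe u

section Facts

/-- `GenFact` -/
theorem genFact : GenFact.{u} := by
  intro G _ _ Om hyp D τ h hτ κ _ K hK hc hmax h3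
  obtain ⟨-, -, -, -, p, c, h5, -⟩ := h
  exact Nodes.GenFrame.gen hyp c hK hc hmax h3 (fun L' hL' k hk => le_sSup ⟨hL', k, hk⟩) h5 hτ

variable {G : Type u} [Group G] [Finite G] {Om : Set (Subgroup G)}

theorem LocalBar.LocB.toLem (b : LocB Om) : Lem Om := fun _ hX _ hK hc => b.lem hX hK hc

end Facts

section Blocks

variable {G : Type u} [Group G] [Finite G] {Om : Set (Subgroup G)} {ι : Type u} [Fintype ι] {K : ι → Subgroup G}

/-- members over a piece of the frame -/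
theorem LocalBar.Blk.mem_iff' {H : Subgroup G} {Oa : Set (Subgroup G)}
    {D' : Subgroup (HQ H)} {B : Finset ι} (b : Blk Om H Oa K D' B) {L : Subgroup G} :
    L ∈ OmA Oa K B ↔ L ∈ Om ∧ L ≤ H ∧ bar H L ≤ D' := by
  have hmem := fun i => b.sub (b.mem i)
  constructor
  · intro hL
    have h1 := b.le_of L hL.1 hL.2
    refine ⟨b.sub hL.1, h1, ?_⟩
    rcases b.cases _ (bar_mem (b.sub hL.1) h1) with h2 | h2
    · exact h2
    · exfalso
      obtain ⟨i, hi⟩ := b.max L hL.1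
      by_cases hiB : i ∈ B
      · apply hi
        rw [← cm_bar_iff b.cor b.core (b.sub hL.1) (hmem i) h1 (b.le i)]
        exact cm_mono le_rfl ((b.iff i).1 hiB) h2
      · exact hi (hL.2 i hiB)
  · rintro ⟨h1, h2, h3⟩
    refine ⟨b.sup ⟨h1, h2⟩, fun i hi => ?_⟩
    rw [← cm_bar_iff b.cor b.core h1 (hmem i) h2 (b.le i)]
    have h4 := (b.cases _ (bar_mem (hmem i) (b.le i))).resolve_left (fun h => hi ((b.iff i).2 h))
    exact cm_mono h3 le_rfl (cm_symm h4)

/-- a block with at least three members is typed -/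
theorem LocalBar.Blk.typed (hKF : KindFact.{u}) {H : Subgroup G} {Oa : Set (Subgroup G)}
    {X : Subgroup G} {B : Finset ι} (hX : X ∈ OmIn Om H) (b : Blk Om H Oa K (PT Om H X) B) (h3 : 3 ≤ B.card) :
    ∃ τ, (data Oa K b.mem b.comm).KT τ B ∧ TyPc (fb Om H) τ (PT Om H X) := by
  obtain ⟨a, ha, c, hc, d, hd, hac, had, hcd⟩ := two_lt_card.mp (by omega : 2 < B.card)
  have hyp' := fb_hyp b.cor.hyp H
  have hP : Cit.Piece (fb Om H) (PT Om H X) := b.cor.pcs.piece hyp' (bar_mem hX.1 hX.2)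
  have hb : ∀ i, bar H (K i) ∈ fb Om H := fun i => bar_mem (b.sub (b.mem i)) (b.le i)
  have hcm : ∀ i j, i ≠ j → cm (bar H (K i)) (bar H (K j)) := fun i j hij =>
    (cm_bar_iff b.cor b.core (b.sub (b.mem i)) (b.sub (b.mem j)) (b.le i) (b.le j)).2 (b.comm i j hij)
  obtain ⟨τ, hτ⟩ := typed_of_three hyp' hP (hb a) (hb c) (hb d) ((b.iff a).1 ha) ((b.iff c).1 hc)
    ((b.iff d).1 hd) (hcm a c hac) (hcm a d had) (hcm c d hcd)
  exact ⟨τ, b.kt (hKF (HQ H) (fb Om H) hyp' _ τ hτ ↥B (fun i : ↥B => bar H (K i.1)) b.bar_mem_OmIn b.bar_comm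
    b.bar_max), hτ⟩

end Blocks

/-! ### `D₄`-classes -/

section DFour

variable {G : Type u} [Group G] [Finite G] {Om : Set (Subgroup G)} {ι : Type u} [Fintype ι] {K : ι → Subgroup G}

/-- THEOREM T for `C(z_i z_j)`, `i` and `j` in different classes -/
theorem tu_bar (hKF : KindFact.{u}) (hyp : Hyp Om) (b : LocB Om) (f : IFrm Om K) (hr : 5 ≤ Fintype.card ι)
    {i j : ι} (hij : ¬ f.data.app i j)
    (C : CorG Om (centralizer {zz (K i) * zz (K j)})) :
    ¬ chn {X | X ∈ Om ∧ ∀ x ∈ X, (zz (K i) * zz (K j)) * x = x * (zz (K i) * zz (K j))}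
      (K i) (K j) := by
  intro hch
  set u := zz (K i) * zz (K j) with hu
  set U : Set (Subgroup G) := {X | X ∈ Om ∧ ∀ x ∈ X, u * x = x * u} with hU
  have hne : i ≠ j := fun e => hij (e ▸ Sys.app_refl _ _)
  have hUeq : U = OmIn Om (centralizer {u}) := by
    ext X
    constructor
    · rintro ⟨h1, h2⟩
      refine ⟨h1, fun x hx => mem_centralizer_singleton_iff.mpr (h2 x hx).symm⟩
    · rintro ⟨h1, h2⟩
      exact ⟨h1, fun x hx => (mem_centralizer_singleton_iff.mp (h2 hx)).symm⟩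
  -- the frame is in `U`
  have hzc : ∀ (k l : ι) (x : G), x ∈ K l → zz (K k) * x = x * zz (K k) := by
    intro k l x hx
    by_cases hkl : k = l
    · rw [hkl]
      exact (hyp.comm_zz (f.mem l) (le_normalizer hx)).symm
    · exact f.comm k l hkl _ (hyp.zz_mem (f.mem k)) x hx
  have hFU : ∀ k, K k ∈ U := by
    intro k
    refine ⟨f.mem k, fun x hx => ?_⟩
    rw [hu, mul_assoc, hzc j k x hx, ← mul_assoc, hzc i k x hx, mul_assoc]
  have hFH : ∀ k, K k ∈ OmIn Om (centralizer {u}) := fun k => hUeq ▸ hFU k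
  by_cases hall : ∀ k, chn U (K i) (K k)
  · -- the piece contains the frame
    rw [hUeq] at hall
    have hbar : ∀ k, bar (centralizer {u}) (K k) ≤ PT Om (centralizer {u}) (K i) := fun k =>
      (chn_iff_le_PT C b.core (hFH i) (hFH k)).1 (hall k)
    have B : Blk Om (centralizer {u}) (OmIn Om (centralizer {u})) K (PT Om (centralizer {u}) (K i)) univ :=
      { cor := C
        core := b.core
        sub := fun L hL => hL.1
        sup := le_rfl
        mem := hFH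
        le := fun k => (hFH k).2
        comm := f.comm
        max := fun L hL => f.max L hL.1
        iff := fun k => ⟨fun _ => hbar k, fun _ => mem_univ k⟩
        cases := fun J hJ => le_or_cm (bar_mem (f.mem i) (hFH i).2) hJ
        le_of := fun L hL _ => hL.2 }
    obtain ⟨τ, hkt, -⟩ := B.typed hKF (hFH i) (by rw [card_univ]; omega)
    have h2 := hkt.kinds ⟨i, mem_univ _⟩
    obtain ⟨l, hl⟩ := h2.exists_rel hr i j
    apply hij
    refine Sys.app_of_rel _ (k := l) ⟨hl.1, hl.2.1, ?_⟩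
    refine chn_mono ?_ hl.2.2
    intro L hL
    exact ⟨hL.1.1, hL.2⟩
  · push Not at hall
    obtain ⟨k, hk⟩ := hall
    apply hij
    have hik : i ≠ k := fun e => hk (e ▸ ReflTransGen.refl)
    have hjk : j ≠ k := fun e => hk (e ▸ hch)
    refine Sys.app_of_rel _ (k := k) ⟨Data.mem_er hik, Data.mem_er hjk, ?_⟩
    -- all members of the chain commute with `K k`
    have key : ∀ X, chn U (K i) X → chn (OmA Om K (univ.erase k)) (K i) X ∧ X ∈ U := by
      intro X hX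
      induction hX with
      | refl => exact ⟨ReflTransGen.refl, hFU i⟩
      | @tail Y Z h1 h2 ih =>
        obtain ⟨c1, c2⟩ := ih
        have hY : Y ∈ OmA Om K (univ.erase k) := by
          rw [IFrm.OmA_erase_eq]
          exact Red.mem_Cen_single.mpr ⟨c2.1, cm_of_not_chn c2 (hFU k) h1 ReflTransGen.refl hk⟩
        have hZ : Z ∈ OmA Om K (univ.erase k) := by
          rw [IFrm.OmA_erase_eq]
          exact Red.mem_Cen_single.mpr ⟨h2.2.1.1,
            cm_of_not_chn h2.2.1 (hFU k) (h1.tail h2) ReflTransGen.refl hk⟩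
        exact ⟨c1.tail ⟨hY, hZ, h2.2.2⟩, h2.2.1⟩
    exact (key _ hch).1

/-- an involution of `C(z_k)` centralising the members of a `D₄`-block of `F - k` -/
theorem aut_bar (hAF : AutFact.{u}) {H : Subgroup G} {j : ι} (hj : K j ∈ OmIn Om H) {B : Finset ι}
    (b : Blk Om H Om K (PT Om H (K j)) B) (hjB : j ∈ B) (hT : TyPc (fb Om H) (.D 4) (PT Om H (K j)))
    {t : G} (ht : t * t = 1) (htH : t ∈ H) (hc : ∀ i ∈ B, ∀ x ∈ K i, t * x = x * t) :
    (∀ X ∈ OmA Om K B, ∀ x ∈ X, t * x = x * t) ∨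
      ∀ X ∈ OmA Om K B, ∀ x ∈ X, (t * zz (K j)) * x = x * (t * zz (K j)) := by
  have C := b.cor
  have hyp := C.hyp
  have hf := fb_hyp hyp H
  set t' : HQ H := qm H ⟨t, htH⟩ with ht'
  have h1 : t' * t' = 1 := by
    rw [ht', ← map_mul]
    have : (⟨t, htH⟩ * ⟨t, htH⟩ : H) = 1 := Subtype.ext ht
    rw [this, map_one]
  have hcb : ∀ i ∈ B, ∀ x ∈ bar H (K i), t' * x = x * t' := by
    rintro i hi _ ⟨x, hx, rfl⟩
    rw [ht', ← map_mul, ← map_mul]
    congr 1
    exact Subtype.ext (hc i hi x hx)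
  have h2 : Cit.cj t' (PT Om H (K j)) = PT Om H (K j) := by
    rw [PT, cj_pc hf.conj]
    congr 1
    ext y
    rw [Cit.mem_cj]
    constructor
    · intro hy
      have h3 := hcb j hjB _ hy
      have h4 : t'⁻¹ * y * t' = y := by
        have h5 : y = t' * (t'⁻¹ * y * t') * t'⁻¹ := by group
        rw [h3, mul_assoc (t'⁻¹ * y * t'), mul_inv_cancel, mul_one] at h5
        exact h5.symm
      rwa [h4] at hy
    · intro hy
      rw [mul_assoc, ← hcb j hjB y hy, inv_mul_cancel_left]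
      exact hy
  have key : ∀ s (hs : s ∈ H), (∀ x ∈ PT Om H (K j), qm H ⟨s, hs⟩ * x = x * qm H ⟨s, hs⟩) →
      ∀ X ∈ OmA Om K B, ∀ x ∈ X, s * x = x * s := by
    intro s hs h3 X hX
    obtain ⟨m1, m2, m3⟩ := b.mem_iff'.1 hX
    exact TypeDet.comm_of_qm C m1 m2 (b.core X m1) hs fun y hy => h3 y (m3 hy)
  rcases hAF (HQ H) (fb Om H) hf _ hT ↥B (fun i : ↥B => bar H (K i.1)) b.bar_mem_OmIn b.bar_comm b.bar_max t' h1 h2
    (fun i => hcb i.1 i.2) with h3 | h3
  · exact Or.inl (key t htH h3)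
  · right
    have hz : zz (K j) ∈ H := hj.2 (hyp.zz_mem hj.1)
    refine key (t * zz (K j)) (mul_mem htH hz) fun x hx => ?_
    have h4 := h3 ⟨j, hjB⟩ x hx
    have h5 : zz (bar H (K j)) = qm H ⟨zz (K j), hz⟩ := zz_bar hyp hj.1 hj.2
    have h6 : qm H ⟨t * zz (K j), mul_mem htH hz⟩ = t' * zz (bar H (K j)) := by
      rw [h5, ht', ← map_mul]
      rfl
    rw [h6]
    exact h4

/-- LEMMA Z for a `D₄`-block -/
theorem zcon_bar (hZF : ZFact.{u}) {H : Subgroup G} {X₀ : Subgroup G} {B : Finset ι}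
    (b : Blk Om H Om K (PT Om H X₀) B) (hT : TyPc (fb Om H) (.D 4) (PT Om H X₀))
    {X Y : Subgroup G} (hX : X ∈ OmA Om K B) (hY : Y ∈ OmA Om K B) :
    ReflTransGen (Red.zstp (OmA Om K B)) X Y := by
  have C := b.cor
  have hf := fb_hyp C.hyp H
  obtain ⟨x1, x2, x3⟩ := b.mem_iff'.1 hX
  obtain ⟨y1, y2, y3⟩ := b.mem_iff'.1 hY
  have h1 := hZF (HQ H) (fb Om H) hf _ hT _ ⟨bar_mem x1 x2, x3⟩ _ ⟨bar_mem y1 y2, y3⟩
  have key : ∀ Y', ReflTransGen (Red.zstp (OmIn (fb Om H) (PT Om H X₀))) (bar H X) Y' →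
      ∃ Y ∈ OmA Om K B, bar H Y = Y' ∧ ReflTransGen (Red.zstp (OmA Om K B)) X Y := by
    intro Y' hc
    induction hc with
    | refl => exact ⟨X, hX, rfl, ReflTransGen.refl⟩
    | @tail Y' Z' _ h3 ih =>
      obtain ⟨Y, hY, rfl, hc⟩ := ih
      obtain ⟨Z, hZ, rfl⟩ := exists_bar' h3.2.1.1
      have hZ' : Z ∈ OmA Om K B := b.mem_iff'.2 ⟨hZ.1, hZ.2, h3.2.1.2⟩
      obtain ⟨m1, m2, m3⟩ := b.mem_iff'.1 hY
      refine ⟨Z, hZ', rfl, hc.tail ⟨hY, hZ', ?_⟩⟩
      have h4 := h3.2.2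
      rw [zz_bar C.hyp m1 m2] at h4
      exact (comm_zz_iff C hZ.1 hZ.2 (m2 (C.hyp.zz_mem m1))).1 h4
  obtain ⟨Y₁, hY₁, e, hc⟩ := key _ h1
  obtain ⟨m1, m2, m3⟩ := b.mem_iff'.1 hY₁
  rwa [eq_of_bar_eq C m1 y1 m2 y2 e] at hc

/-- the `D₄`-blocks -/
theorem dhyp_bar (hKF : KindFact.{u}) (hAF : AutFact.{u}) (hZF : ZFact.{u}) (hyp : Hyp Om) (b : LocB Om)
    (cor2 : ∀ K ∈ Om, ∀ L ∈ Om, cm K L → zz K ≠ zz L → CorG Om (centralizer {zz K * zz L}))
    {Fs : Set (Set (Subgroup G))} (hfr : Red.Frames Om Fs)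
    (h5 : ∀ F ∈ Fs, 5 ≤ F.ncard)
    (two : ∀ F ∈ Fs, ∀ K ∈ F, ∀ M ∈ F, ∀ N ∈ F,
      Red.app Om F K M ∨ Red.app Om F K N ∨ Red.app Om F M N)
    (hkd0 : ∀ F ∈ Fs, ∀ K₀ ∈ F, ∃ (ι : Type u) (_ : Fintype ι) (K : ι → Subgroup G) (f : IFrm Om K) (i : ι),
      Set.range K = F ∧ K i = K₀ ∧ f.data.KD4 (f.data.cla i)) : Red.DHyp Om Fs := by
  have hzne : ∀ F ∈ Fs, ∀ K ∈ F, ∀ M ∈ F, ¬ Red.app Om F K M → zz K ≠ zz M := by
    intro F hF K₀ hK₀ M₀ hM₀ hKM e
    obtain ⟨ι, _, K, f, i, hr, hi, k1⟩ := hkd0 F hF K₀ hK₀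
    obtain ⟨j, hj⟩ := hr.symm ▸ hM₀
    have hjc : j ∉ f.data.cla i := by
      intro h'
      rw [f.mem_cla_iff, hr, hi, hj] at h'
      exact hKM h'.2
    refine k1.2.2.2.1 i (Sys.self_mem_cla _ _) (f.data.cen_congr (k := j) ?_ (f.data.cen_of_notMem hjc))
    change zz (K j) = zz (K i)
    rw [hi, hj, e]
  -- the block of `K₀` in `F - M₀`
  have hblk : ∀ F ∈ Fs, ∀ K₀ ∈ F, ∀ M₀ ∈ F, ¬ Red.app Om F M₀ K₀ →
      ∃ (ι : Type u) (_ : Fintype ι) (K : ι → Subgroup G) (f : IFrm Om K) (i k : ι),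
      Set.range K = F ∧ K i = K₀ ∧ K k = M₀ ∧ i ≠ k ∧
      Blk Om (centralizer {zz M₀}) Om K (PT Om (centralizer {zz M₀}) K₀) (f.data.cla i) ∧
      TyPc (fb Om (centralizer {zz M₀})) (.D 4) (PT Om (centralizer {zz M₀}) K₀) ∧
      Red.TT Om F K₀ = OmA Om K (f.data.cla i) := by
    intro F hF K₀ hK₀ M₀ hM₀ hMK
    obtain ⟨ι, _, K, f, i, hr, hi, k1⟩ := hkd0 F hF K₀ hK₀
    obtain ⟨k, hk⟩ := hr.symm ▸ hM₀
    subst hr hi hk
    have hik : ¬ f.data.app i k := fun h' => hMK (Red.app_symm ((f.app_iff i k).mp h'))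
    have hik' : i ≠ k := fun e => hik (e ▸ Sys.app_refl _ _)
    have hb := b.blk f.mem f.comm f.max hik'
    have e1 : f.data.blk (univ.erase k) i = f.data.cla i := Sys.blk_eq_cla _ hik
    change Blk Om _ Om K _ (f.data.blk (univ.erase k) i) at hb
    rw [e1] at hb
    have hX : K i ∈ OmIn Om (centralizer {zz (K k)}) := ⟨f.mem i, fun x hx =>
      mem_centralizer_singleton_iff.2 (f.comm i k hik' x hx _ (hyp.zz_mem (f.mem k)))⟩
    obtain ⟨τ, h1, h2⟩ := hb.typed hKF hX (by have := k1.1; omega)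
    have h3 := Data.eq_D4_of_KD4 k1 h1
    rw [h3] at h2
    exact ⟨ι, _, K, f, i, k, rfl, rfl, rfl, hik', hb, h2, f.TT_eq_OmA i⟩
  refine ⟨hfr, fun K hK g => hyp.zz_cj hK g, fun K hK => hyp.zz_mul hK, ?_, two, ?_, ?_, ?_, hzne, ?_, ?_, ?_⟩
  · -- zc
    intro K hK x hx
    exact hyp.comm_zz hK (le_normalizer hx)
  · -- card
    intro F hF K₀ hK₀
    obtain ⟨ι, _, K, f, i, hr, hi, k1⟩ := hkd0 F hF K₀ hK₀
    obtain ⟨j, hj, hne⟩ := exists_mem_ne (by have := k1.1; omega : 1 < (f.data.cla i).card) i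
    refine ⟨K j, ?_, ?_⟩
    · have := (f.mem_cla_iff i j).mp hj
      rwa [hr, hi] at this
    · rw [← hi]; exact f.ne.mpr hne
  · -- sgl
    intro F hF K₀ hK₀ M₀ hM₀ hKM X hX N hN hc
    obtain ⟨ι, _, K, f, i, hr, hi, k1⟩ := hkd0 F hF K₀ hK₀
    obtain ⟨l, hl⟩ := hr.symm ▸ hN.1
    have hlc : l ∈ f.data.cla i := (f.mem_cla_iff i l).mpr (by rw [hr, hi, hl]; exact hN)
    have k4 : Red.TT Om F K₀ = OmA Om K (f.data.cla i) := by rw [← hi, ← hr]; exact f.TT_eq_OmA i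
    rw [k4] at hX
    obtain ⟨j, hj, rfl⟩ := f.sgl_of_KD4 k1 hX hlc (by rw [hl]; exact hc)
    have := (f.mem_cla_iff i j).mp hj
    rwa [hr, hi] at this
  · -- lem
    exact fun X hX K hK hc => b.lem hX hK hc
  · -- zcon
    intro F hF K₀ hK₀ M₀ hM₀ hKM X hX
    obtain ⟨ι, _, K, f, i, k, hr, hi, hk, hik, hb, hT, k4⟩ := hblk F hF K₀ hK₀ M₀ hM₀ (fun h' => hKM (Red.app_symm h'))
    have hK' := (hfr.frm F hF).mem_TT_self hK₀
    rw [k4] at hX hK' ⊢
    exact zcon_bar hZF hb hT hK' hX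
  · -- aut
    intro F hF K₀ hK₀ M₀ hM₀ hKM t ht htz hn hcl
    obtain ⟨ι, _, K, f, i, k, hr, hi, hk, hik, hb, hT, k4⟩ := hblk F hF M₀ hM₀ K₀ hK₀ hKM
    subst hr hi hk
    have hX : K i ∈ OmIn Om (centralizer {zz (K k)}) := ⟨f.mem i, fun x hx =>
      mem_centralizer_singleton_iff.2 (f.comm i k hik x hx _ (hyp.zz_mem (f.mem k)))⟩
    have h1 := aut_bar hAF hX hb (Sys.self_mem_cla _ _) hT ht (mem_centralizer_singleton_iff.2 htz) (by
      intro l hl
      exact hcl (K l) ((f.mem_cla_iff i l).mp hl))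
    rw [k4]
    exact h1
  · -- tu
    intro F hF K₀ hK₀ M₀ hM₀ hKM
    obtain ⟨ι, _, K, f, i, hr, hi, k1⟩ := hkd0 F hF K₀ hK₀
    obtain ⟨j, hj⟩ := hr.symm ▸ hM₀
    have hcard : 5 ≤ Fintype.card ι := by
      have h1 := h5 F hF
      rw [← hr, ← Set.image_univ, Set.ncard_image_of_injective _ f.inj, Set.ncard_univ,
        Nat.card_eq_fintype_card] at h1
      exact h1
    have happ : ¬ f.data.app i j := by
      rw [f.app_iff, hr, hi, hj]; exact hKM
    have hij : i ≠ j := fun e => happ (e ▸ Sys.app_refl _ _)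
    have h1 := tu_bar hKF hyp b f hcard happ (cor2 _ (f.mem i) _ (f.mem j) (f.comm i j hij)
      (by rw [hi, hj]; exact hzne F hF K₀ hK₀ M₀ hM₀ hKM))
    rwa [hi, hj] at h1

end DFour

/-! ### Connected frames -/

section Conn

variable {G : Type u} [Group G] [Finite G] {Om : Set (Subgroup G)} {ι : Type u} [Fintype ι] {K : ι → Subgroup G}

/-- (GEN) modulo cores: a member `Y` commuting with the members over `D'` which commute with a member of the frame
of `D'` commutes with all members over `D'` -/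
theorem gen_bar (hGF : GenFact.{u}) (b : LocB Om) {H : Subgroup G} {X₀ : Subgroup G} {B : Finset ι}
    (bk : Blk Om H Om K (PT Om H X₀) B) {τ : Nodes.Chart.Ty} (hT : TyPc (fb Om H) τ (PT Om H X₀)) (h4 : τ ≠ .D 4)
    (h3 : 3 ≤ B.card) {X Y : Subgroup G} (hX : X ∈ OmA Om K B) (hY : Y ∈ Om)
    (hc : ∀ i ∈ B, ∀ L ∈ OmA Om K B, cm L (K i) → cm L Y) : cm X Y := by
  have C := bk.cor
  have hf := fb_hyp C.hyp H
  set T : Set (Subgroup G) := {L | L ∈ OmA Om K B ∧ ∃ i ∈ B, cm L (K i)} with hTd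
  have h1 := hGF (HQ H) (fb Om H) hf _ τ hT h4 ↥B (fun i : ↥B => bar H (K i.1)) bk.bar_mem_OmIn bk.bar_comm
    bk.bar_max (by rw [Fintype.card_coe]; exact h3)
  have h2 : PT Om H X₀ ≤ bar H (sSup T) := by
    refine h1.trans (sSup_le ?_)
    rintro L' ⟨hL', ⟨i, hi⟩, hcm⟩
    obtain ⟨L, hL, rfl⟩ := exists_bar' hL'.1
    refine bar_mono (le_sSup ⟨bk.mem_iff'.2 ⟨hL.1, hL.2, hL'.2⟩, i, hi, ?_⟩)
    exact (cm_bar_iff C bk.core hL.1 (bk.sub (bk.mem i)) hL.2 (bk.le i)).1 hcm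
  have h5 := DL_le_of_cover C h2
  have h6 : cm (DL Om H (PT Om H X₀)) Y := by
    refine cm_mono h5 le_rfl (cm_sSup ?_)
    rintro L ⟨hL, i, hi, hcm⟩
    exact hc i hi L hL hcm
  obtain ⟨m1, m2, m3⟩ := bk.mem_iff'.1 hX
  exact cm_of_cm_DL b.toLem C m1 m2 m3 hY h6

/-- **a frame with at least five members is connected** -/
theorem connected_bar [IsSimpleGroup G] (hKF : KindFact.{u}) (hAF : AutFact.{u}) (hZF : ZFact.{u}) (hyp : Hyp Om)
    (hone : ∀ K ∈ Om, ∀ L ∈ Om, ∃ g, Cit.cj g K = L) (b : LocB Om)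
    (cor2 : ∀ K ∈ Om, ∀ L ∈ Om, cm K L → zz K ≠ zz L → CorG Om (centralizer {zz K * zz L}))
    (hconn : ∀ C : Set (Subgroup G), C ⊆ Om → C.Nonempty →
      (∀ K ∈ C, ∀ L ∈ Om, cm K L → L ∈ C) → C = Om)
    (S : Sylow 2 G) (f : IFrm Om K) (hr : Set.range K = OmS Om (S : Subgroup G))
    (h5 : 5 ≤ Fintype.card ι) (i j : ι) : f.data.app i j := by
  by_contra hij
  have hfr := LocB.frames hyp b hone
  have hF : Set.range K ∈ sylFrames Om := ⟨S, hr⟩
  have hf := hfr.frm _ hF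
  refine Red.false_of_red hfr hF hconn ?_ ⟨K i, ⟨i, rfl⟩, K j, ⟨j, rfl⟩, fun h' => hij ((f.app_iff i j).mpr h')⟩
  -- the classes commute
  rintro _ ⟨a, rfl⟩ _ ⟨c, rfl⟩ hab X hX Y hY
  by_cases hthird : ∃ d : ι, ¬ Red.app Om (Set.range K) (K a) (K d) ∧
      ¬ Red.app Om (Set.range K) (K c) (K d)
  · obtain ⟨d, h1, h2⟩ := hthird
    exact hf.cm_of_three ⟨a, rfl⟩ ⟨c, rfl⟩ ⟨d, rfl⟩ hab h1 h2 hX hY
  push Not at hthird
  have habI : ¬ f.data.app a c := fun h' => hab ((f.app_iff a c).mp h')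
  -- transitivity
  have htr : ∀ k l : ι, ∃ σ : Equiv.Perm ι, f.data.toSys.IsAut σ ∧ σ k = l := by
    intro k l
    obtain ⟨g, hg1, hg2⟩ := hfr.trans _ hF _ hF (K k) ⟨k, rfl⟩ (K l) ⟨l, rfl⟩
    have h1 : ∀ m, ∃ m', Cit.cj g (K m) = K m' := by
      intro m
      have : Cit.cj g (K m) ∈ Set.range K := by
        have h2 : Cit.cj g (K m) ∈ Cit.cj g '' Set.range K := ⟨K m, ⟨m, rfl⟩, rfl⟩
        rwa [hg1] at h2
      obtain ⟨m', hm'⟩ := this
      exact ⟨m', hm'.symm⟩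
    choose s hs using h1
    have hinj : Function.Injective s := by
      intro m m' h2
      have h3 : Cit.cj g (K m) = Cit.cj g (K m') := by rw [hs, hs, h2]
      exact f.inj (cj_inj.mp h3)
    refine ⟨Equiv.ofBijective s (Finite.injective_iff_bijective.mp hinj), ?_, ?_⟩
    · exact (isAut f.mem f.comm hyp.conj (fun i g => hyp.zz_cj (f.mem i) g) (g := g) hs).rel
    · apply f.inj
      change K (s k) = K l
      rw [← hs, hg2]
  have hcardab : (f.data.cla a).card = (f.data.cla c).card := Sys.card_cla_eq f.data.toSys htr a c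
  have hun : (f.data.cla a).card + (f.data.cla c).card = Fintype.card ι := by
    rw [← card_union_of_disjoint, ← card_univ]
    · congr 1
      ext d
      rw [mem_union, Sys.mem_cla, Sys.mem_cla, f.app_iff, f.app_iff]
      refine ⟨fun _ => mem_univ _, fun _ => ?_⟩
      by_cases h' : Red.app Om (Set.range K) (K a) (K d)
      · exact Or.inl h'
      · exact Or.inr (hthird d h')
    · rw [disjoint_left]
      intro d h1 h2
      rw [Sys.mem_cla] at h1 h2
      exact habI (Sys.app_trans _ h1 (Sys.app_symm _ h2))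
  have hs3 : 3 ≤ (f.data.cla a).card := by omega
  -- the class is a block of `F - c`
  have hab' : a ≠ c := fun e => habI (e ▸ Sys.app_refl _ _)
  have hblk : f.data.blk (univ.erase c) a = f.data.cla a := Sys.blk_eq_cla _ habI
  have bk := b.blk f.mem f.comm f.max hab'
  change Blk Om _ Om K _ (f.data.blk (univ.erase c) a) at bk
  rw [hblk] at bk
  have hXa : K a ∈ OmIn Om (centralizer {zz (K c)}) := ⟨f.mem a, fun x hx =>
    mem_centralizer_singleton_iff.2 (f.comm a c hab' x hx _ (hyp.zz_mem (f.mem c)))⟩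
  obtain ⟨τ, hkt, hτ⟩ := bk.typed hKF hXa hs3
  have hTT : Red.TT Om (Set.range K) (K a) = OmA Om K (f.data.cla a) := f.TT_eq_OmA a
  by_cases h4 : τ = .D 4
  · -- two `D₄`-classes
    subst h4
    have hcard4 : (f.data.cla a).card = 4 := hkt.1
    have hkd : f.data.KD4 (f.data.cla a) := hkt.2.1 rfl
    have h8 : ∀ F ∈ sylFrames Om, 5 ≤ F.ncard := by
      intro F hF'
      obtain ⟨S', rfl⟩ := hF'
      obtain ⟨g, hg⟩ := Cit.exists_cj_sylow S S'
      rw [← hg, ncard_OmS_cj hyp.conj, ← hr, ← Set.image_univ,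
        Set.ncard_image_of_injective _ f.inj, Set.ncard_univ, Nat.card_eq_fintype_card]
      exact h5
    have htwo0 : ∀ L ∈ Set.range K, ∀ M ∈ Set.range K, ∀ N ∈ Set.range K,
        Red.app Om (Set.range K) L M ∨ Red.app Om (Set.range K) L N ∨
          Red.app Om (Set.range K) M N := by
      have h1 : ∀ N ∈ Set.range K, Red.app Om (Set.range K) (K a) N ∨
          Red.app Om (Set.range K) (K c) N := by
        rintro _ ⟨d, rfl⟩
        by_cases h' : Red.app Om (Set.range K) (K a) (K d)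
        · exact Or.inl h'
        · exact Or.inr (hthird d h')
      intro L hL M hM N hN
      rcases h1 L hL with h2 | h2 <;> rcases h1 M hM with h3 | h3 <;> rcases h1 N hN with h5 | h5
      · exact Or.inl (Red.app_trans (Red.app_symm h2) h3)
      · exact Or.inl (Red.app_trans (Red.app_symm h2) h3)
      · exact Or.inr (Or.inl (Red.app_trans (Red.app_symm h2) h5))
      · exact Or.inr (Or.inr (Red.app_trans (Red.app_symm h3) h5))
      · exact Or.inr (Or.inr (Red.app_trans (Red.app_symm h3) h5))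
      · exact Or.inr (Or.inl (Red.app_trans (Red.app_symm h2) h5))
      · exact Or.inl (Red.app_trans (Red.app_symm h2) h3)
      · exact Or.inl (Red.app_trans (Red.app_symm h2) h3)
    have htwo : ∀ F ∈ sylFrames Om, ∀ L ∈ F, ∀ M ∈ F, ∀ N ∈ F,
        Red.app Om F L M ∨ Red.app Om F L N ∨ Red.app Om F M N := by
      intro F hF' L hL M hM N hN
      obtain ⟨g, hg1, -⟩ := hfr.trans _ hF F hF' (K a) ⟨a, rfl⟩ L hL
      rw [← hg1] at hL hM hN ⊢
      obtain ⟨L', hL', rfl⟩ := hL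
      obtain ⟨M', hM', rfl⟩ := hM
      obtain ⟨N', hN', rfl⟩ := hN
      rw [Red.app_cj_iff hyp.conj, Red.app_cj_iff hyp.conj, Red.app_cj_iff hyp.conj]
      exact htwo0 L' hL' M' hM' N' hN'
    have hkd0 : ∀ F ∈ sylFrames Om, ∀ K₀ ∈ F, ∃ (ι : Type u) (_ : Fintype ι) (K : ι → Subgroup G)
        (f : IFrm Om K) (i : ι), Set.range K = F ∧ K i = K₀ ∧ f.data.KD4 (f.data.cla i) := by
      intro F hF' K₀ hK₀
      obtain ⟨g, hg1, hg2⟩ := hfr.trans _ hF F hF' (K a) ⟨a, rfl⟩ K₀ hK₀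
      refine ⟨ι, inferInstance, fun i => Cit.cj g (K i), f.cjf hyp.conj g, a, ?_, hg2, ?_⟩
      · rw [← hg1, ← Set.range_comp]
        rfl
      · have h1 := hkd.map (f.hom_cj hyp g)
        have h2 : (f.cjf hyp.conj g).data.cla a = (f.data.cla a).map (Function.Embedding.refl ι) := by
          rw [map_refl]
          ext d
          rw [(f.cjf hyp.conj g).mem_cla_iff, f.mem_cla_iff]
          have h3 : Set.range (fun i => Cit.cj g (K i)) = Cit.cj g '' Set.range K := by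
            rw [← Set.range_comp]; rfl
          rw [h3, Red.cls_cj hyp.conj]
          constructor
          · rintro ⟨M, hM, e⟩
            rwa [cj_inj.1 e] at hM
          · exact fun h => ⟨_, h, rfl⟩
        rw [h2]
        exact h1
    exact (dhyp_bar hKF hAF hZF hyp b cor2 hfr h8 htwo hkd0).comm hF ⟨a, rfl⟩ ⟨c, rfl⟩ hab hX hY
  · -- (GEN)
    rw [hTT] at hX
    refine gen_bar genFact b bk hτ h4 hs3 hX hY.1 ?_
    intro l hl L hL hcm
    exact hf.cm_of_gen ⟨a, rfl⟩ ⟨c, rfl⟩ hab ((f.mem_cla_iff a l).mp hl) (by rw [hTT]; exact hL) hcm hY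

end Conn

end Cfsg.Agent.Cit.TypeDet
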