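import Cfsg.Agent.Cit.CoreManyB
import Cfsg.Agent.Cit.TypeDet.TypedBar
import Cfsg.Agent.Cit.TypeDet.DFourFacts

/-!
# The driver of the type determination modulo cores

`appStmt : CoreManyB.AppStmt` (the frames are connected), `drvStmt : CoreManyB.DrvStmt`.
-/

set_option autoImplicit false
set_option linter.style.haveILetI false

namespace Cfsg.Agent.Cit.TypeDet

universe u

/-- **the frames with at least five members are connected** -/
theorem appStmt : CoreManyB.AppStmt.{u} := by
  intro G _ _ Om ms b c2 hC S ι _ K f hr h5 i j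
  haveI := ms.simple
  have hone : ∀ K ∈ Om, ∀ L ∈ Om, ∃ g, Cit.cj g K = L := fun K hK L hL => by
    obtain ⟨g, hg⟩ := ms.cls K hK L hL
    exact ⟨g, hg.symm⟩
  exact connected_bar DFourFacts.kindFact DFourFacts.autFact DFourFacts.zFact b.hyp hone (BlkDrv.locB b) c2 hC S f hr
    h5 i j

/-- **the driver** -/
theorem drvStmt : CoreManyB.DrvStmt.{u} := CoreManyB.drvStmt_of DFourFacts.kindFact appStmt

end Cfsg.Agent.Cit.TypeDet
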