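import Mathlib
import Cfsg.Agent.Cit.TypeDet.DFourFacts

/-!
# Involutions centralising one member of a `D₄`-frame (project CIT, helper533's KF6)

helper542.  Setup of `DFourAut`: `C : Cls cs h p T n X R Z z` simply laced with a `D₄`-frame `g`; `t * t = 1`, `t`
normalises `GG` and centralises ONE group `KK Z (g k1)`; `M` contains all `KK Z (g k)` and the elements of `VV (g k1)`
centralised by `t`.

* `comm_surj` : `[x, X (-b)] = X (s - b)` for `1 ≠ x ∈ X s`, `(s, b) > 0`;
* `down_step` : from `v ∈ Sup X S` not in `X a` to an element of the half space of `b`, by commutators with `X b`;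
* `gen_of_mem` : `G1 ≤ M` if `M` contains all `KK Z (g k)` and an element of `VV a` outside `X a`;
* `gen_or_cent` : `G1 ≤ M` or `t * z (g k1)` centralises `G1`;
* `kf6_chart`, `kf6` : the same for charts of type `D 4`.
-/

set_option autoImplicit false
set_option linter.unusedSectionVars false
set_option linter.unusedVariables false

namespace Cfsg.Agent.Cit.TypeDet.DFourGen

open CoxeterSystem Cfsg.Agent.ChevalleyStructure.CoxeterGeom Cfsg.Agent.Tits.Roots Cfsg.Agent.Tits.Core
  Cfsg.Agent.Tits.RootComb Cfsg.Agent.Nodes.Comb Cfsg.Agent.Nodes.Reps Cfsg.Agent.Nodes.BNOf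
  Cfsg.Agent.Nodes.RGDLib Cfsg.Agent.Nodes.Chart Cfsg.Agent.Nodes.StabComb Cfsg.Agent.Nodes.Bruhat
  Cfsg.Agent.Nodes.Coroot Cfsg.Agent.Nodes.Perp Cfsg.Agent.Nodes.ChartLoc
open Cfsg.Agent.Cit.TypeDet (cm cm_iff_le_centralizer)
open Cfsg.Agent.Cit.TypeDet.DFourAut

section Groups

variable {I W Y : Type*} [Fintype I] [DecidableEq I] [Group W] [Fintype W] [Group Y] {M : CoxeterMatrix I}
  {cs : CoxeterSystem M W} {A : I → I → ℤ} {h : IsCartan M A} {p : ℕ} {T : Subgroup Y} {n : I → Y}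
  {X : (I → ℤ) → Subgroup Y} {R : Set (I → ℤ)} {Z : (I → ℤ) → Subgroup Y} {z : (I → ℤ) → Y}

variable (C : Cls cs h p T n X R Z z) (hR : ∀ x, IsRoot cs h x → x ∈ R) (hZ : ∀ x, IsRoot cs h x → Z x = X x)
  (hp : p.Prime) (hp2 : p ≠ 2)

include C hR hZ hp hp2

/-- `[x, X (-b)] = X (s - b)` for `1 ≠ x ∈ X s`, `(s, b) > 0`. -/
theorem comm_surj [Finite Y] (hs : Sld cs h) {s b : I → ℤ} (hsr : IsRoot cs h s) (hb : IsRoot cs h b)
    (h1 : cpr cs h s b = 1) {x : Y} (hx : x ∈ X s) (hx1 : x ≠ 1) :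
    ∀ w ∈ X (s - b), ∃ y ∈ X (-b), w = x * y * x⁻¹ * y⁻¹ := by
  have hsb : IsRoot cs h (s - b) := by
    have := isRoot_refl cs h hsr hb
    rwa [h1, one_smul] at this
  obtain ⟨hne, hne'⟩ := ne_of_cpr hsr hb (by rw [h1]; norm_num)
  have hcomm : ∀ y ∈ X (-b), x * y * x⁻¹ * y⁻¹ ∈ X (s - b) := by
    intro y hy
    have h2 := C.rgd.comm s (-b) hsr hb.neg hne' (by rwa [neg_neg]) x hx y hy
    have h3 : btw cs h X s (-b) ≤ X (s - b) := by
      unfold Cfsg.Agent.Nodes.Reps.btw
      refine iSup_le ?_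
      rintro ⟨v, hv⟩
      have e := btwn_sub hs hsr hb h1 hv
      change X v ≤ X (s - b)
      rw [e]
    have h4 := h3 h2
    rwa [commutatorElement_def] at h4
  have h0 : 0 ≤ form cs h (s - b) (-b) := by
    have h2 := two_form_cpr cs h s hb
    have h3 := form_pos cs h hb.ne_zero
    rw [h1, one_mul] at h2
    rw [form_neg_right, form_sub_left]
    omega
  let f : ↥(X (-b)) → ↥(X (s - b)) := fun y => ⟨x * y * x⁻¹ * (y : Y)⁻¹, hcomm y y.2⟩
  have hinj : Function.Injective f := by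
    intro y y' e
    have e1 : x * y * x⁻¹ * (y : Y)⁻¹ = x * y' * x⁻¹ * (y' : Y)⁻¹ := congrArg Subtype.val e
    set c := x * (y' : Y) * x⁻¹ * (y' : Y)⁻¹ with hcd
    have hcm : c ∈ X (s - b) := hcomm _ y'.2
    have e2 : x * (y : Y) * x⁻¹ = c * y := by rw [← e1]; group
    have e3 : x * (y' : Y) * x⁻¹ = c * y' := by rw [hcd]; group
    have e4 : x * ((y : Y) * (y' : Y)⁻¹) * x⁻¹ = (y : Y) * (y' : Y)⁻¹ := by
      have h2 := X_comm C hR hZ hp hp2 hsb hb.neg h0 hcm (mul_mem y.2 (inv_mem y'.2))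
      calc x * ((y : Y) * (y' : Y)⁻¹) * x⁻¹ = (x * y * x⁻¹) * (x * y' * x⁻¹)⁻¹ := by group
        _ = c * y * (c * y')⁻¹ := by rw [e2, e3]
        _ = c * (y * (y' : Y)⁻¹) * c⁻¹ := by group
        _ = (y : Y) * (y' : Y)⁻¹ := by rw [h2]; group
    have e5 : x * ((y : Y) * (y' : Y)⁻¹) = (y : Y) * (y' : Y)⁻¹ * x := by
      nth_rewrite 2 [← e4]; group
    have e6 := eq_one_of_comm C hR hZ hp hp2 hs hsr hb h1 hx hx1 (mul_mem y.2 (inv_mem y'.2)) e5
    exact Subtype.ext (mul_inv_eq_one.1 e6)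
  have hcard : Nat.card ↥(X (-b)) = Nat.card ↥(X (s - b)) := by
    obtain ⟨w, hw⟩ := Cfsg.Agent.Nodes.KindBase.exists_refl cs h hsr
    obtain ⟨k, hk⟩ := exists_rp cs C.rgd.nsys w
    have h2 := C.rgd.conj_rp hk hb.neg
    have h3 := cpr_symm hs hsr hb h1
    rw [hw, cpr_neg cs h _ hsr, h3] at h2
    have h4 : -b - (-1 : ℤ) • s = s - b := by rw [neg_one_smul]; abel
    rw [h4] at h2
    rw [← h2]
    exact Nat.card_congr ((X (-b)).equivMapOfInjective (MulAut.conj k).toMonoidHom
      (MulAut.conj k).injective).toEquiv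
  have hsurj : Function.Surjective f := ((Nat.bijective_iff_injective_and_card f).2 ⟨hinj, hcard⟩).2
  intro w hw
  obtain ⟨y, hy⟩ := hsurj ⟨w, hw⟩
  exact ⟨y, y.2, (congrArg Subtype.val hy).symm⟩

/-- A root group has an element `≠ 1`. -/
theorem exists_ne_one {v : I → ℤ} (hv : IsRoot cs h v) : ∃ x ∈ X v, x ≠ 1 := by
  by_contra h0
  push Not at h0
  exact Cfsg.Agent.Nodes.Bruhat.X_ne_bot C.rgd hv ((Subgroup.eq_bot_iff_forall _).2 h0)

/-- A subgroup containing `X (s - b)`'s two neighbours contains it. -/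
theorem X_le_of_comm [Finite Y] (hs : Sld cs h) {s b : I → ℤ} (hsr : IsRoot cs h s) (hb : IsRoot cs h b)
    (h1 : cpr cs h s b = 1) {H : Subgroup Y} {x : Y} (hx : x ∈ X s) (hx1 : x ≠ 1) (hxH : x ∈ H)
    (hbH : X (-b) ≤ H) : X (s - b) ≤ H := by
  intro w hw
  obtain ⟨y, hy, rfl⟩ := comm_surj C hR hZ hp hp2 hs hsr hb h1 hx hx1 w hw
  exact mul_mem (mul_mem (mul_mem hxH (hbH hy)) (inv_mem hxH)) (inv_mem (hbH hy))

/-- **One step down**: `v ∈ Sup X S` outside `X a` gives an element of the half space of `b` outside `X a`. -/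
theorem down_step (hs : Sld cs h) {S : Set (I → ℤ)} {a b : I → ℤ} (ha : IsRoot cs h a)
    (hb : IsRoot cs h b) (hab : form cs h a b = 0) (haS : a ∈ S)
    (hS : ∀ y ∈ S, IsRoot cs h y ∧ 0 < form cs h y a)
    (hSb : ∀ y ∈ S, form cs h y b < 0 → y + b ∈ S) {H : Subgroup Y} (hbH : X b ≤ H)
    {v : Y} (hv : v ∈ RGD.Sup X S) (hvH : v ∈ H) (hva : v ∉ X a) :
    ∃ w ∈ RGD.Sup X {y | y ∈ S ∧ 0 ≤ form cs h y b}, w ∈ H ∧ w ∉ X a := by
  have hbR := hR b hb
  set Sp : Set (I → ℤ) := {y | y ∈ S ∧ 0 ≤ form cs h y b} with hSp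
  set Sm : Set (I → ℤ) := {y | y ∈ S ∧ form cs h y b < 0} with hSm
  have hnn : ∀ y ∈ S, ∀ y' ∈ S, y ≠ -y' := by
    intro y hy y' hy' e
    have h1 := (hS y hy).2
    have h2 := (hS y' hy').2
    rw [e, form_neg_left] at h1
    omega
  have hN : RGD.Sup X Sm ≤ Subgroup.normalizer (RGD.Sup X Sp : Set Y) := by
    refine RGD.Sup_le fun y hy => C.rgd.le_normalizer (hS y hy.1).1 fun y' hy' => ⟨(hS _ hy'.1).1, Or.inr
      ⟨hnn y hy.1 y' hy'.1, fun v hv => ?_⟩⟩
    have hne : y ≠ y' := by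
      rintro rfl
      have h1 := hy.2
      have h2 := hy'.2
      omega
    have h1 := btwn_eq hs (hS y hy.1).1 (hS y' hy'.1).1 hne (hnn y hy.1 y' hy'.1) hv ha (hS y hy.1).2
      (hS y' hy'.1).2
    rw [h1]
    exact ⟨haS, hab.ge⟩
  have hsup : RGD.Sup X S ≤ RGD.Sup X Sm ⊔ RGD.Sup X Sp := by
    refine RGD.Sup_le fun y hy => ?_
    rcases lt_or_ge (form cs h y b) 0 with h1 | h1
    · exact le_trans (RGD.le_Sup (S := Sm) ⟨hy, h1⟩) le_sup_left
    · exact le_trans (RGD.le_Sup (S := Sp) ⟨hy, h1⟩) le_sup_right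
  have hplus : ∀ w ∈ RGD.Sup X Sp, ∀ d ∈ X b, d * w = w * d := by
    intro w hw d hd
    have h1 : RGD.Sup X Sp ≤ Subgroup.centralizer (Z b : Set Y) :=
      RGD.Sup_le fun y hy => Cfsg.Agent.Nodes.ClsNorm.X_le_centralizer C hbR (hS y hy.1).1 hy.2
    exact Subgroup.mem_centralizer_iff.1 (h1 hw) d (by rw [hZ b hb]; exact hd)
  have hminus : ∀ w ∈ RGD.Sup X Sm, ∀ d ∈ Z (-b), d * w = w * d := by
    intro w hw d hd
    have h1 : RGD.Sup X Sm ≤ Subgroup.centralizer (Z (-b) : Set Y) :=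
      RGD.Sup_le fun y hy => Cfsg.Agent.Nodes.ClsNorm.X_le_centralizer C (hR _ hb.neg) (hS y hy.1).1 (by
        have h2 := hy.2
        rw [form_neg_right]; omega)
    exact Subgroup.mem_centralizer_iff.1 (h1 hw) d hd
  have habel : ∀ v ∈ RGD.Sup X Sm, ∀ v' ∈ RGD.Sup X Sm, v * v' = v' * v := by
    have h1 : ∀ y ∈ Sm, ∀ y' ∈ Sm, ∀ x ∈ X y, ∀ x' ∈ X y', x * x' = x' * x := by
      intro y hy y' hy' x hx x' hx'
      by_cases hyy : y = y'
      · subst hyy
        exact X_abel C hR hZ hp hp2 (hS y hy.1).1 hx hx'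
      · have h2 := Cfsg.Agent.Nodes.PairOf.comm_of_no_btwn C.rgd (hS y hy.1).1 (hS y' hy'.1).1 hyy
          (hnn y hy.1 y' hy'.1) (fun v hv => by
            have h3 := btwn_eq hs (hS y hy.1).1 (hS y' hy'.1).1 hyy (hnn y hy.1 y' hy'.1) hv ha (hS y hy.1).2
              (hS y' hy'.1).2
            subst h3
            obtain ⟨-, m, α, β, hm, hα, hβ, e⟩ := hv
            have h4 : m * form cs h v b = α * form cs h y b + β * form cs h y' b := by
              rw [← form_smul_left, e, form_add_left, form_smul_left, form_smul_left]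
            rw [hab, mul_zero] at h4
            have h5 := mul_neg_of_pos_of_neg hα hy.2
            have h6 := mul_neg_of_pos_of_neg hβ hy'.2
            omega) x hx x' hx'
        rwa [commutatorElement_eq_one_iff_mul_comm] at h2
    have h2 : ∀ y ∈ Sm, ∀ x ∈ X y, ∀ v' ∈ RGD.Sup X Sm, x * v' = v' * x := by
      intro y hy x hx v' hv'
      have h3 : RGD.Sup X Sm ≤ Subgroup.centralizer {x} := RGD.Sup_le fun y' hy' x' hx' => by
        rw [Subgroup.mem_centralizer_singleton_iff]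
        exact (h1 y hy y' hy' x hx x' hx').symm
      exact (Subgroup.mem_centralizer_singleton_iff.1 (h3 hv')).symm
    intro v hv v' hv'
    have h3 : RGD.Sup X Sm ≤ Subgroup.centralizer {v'} := RGD.Sup_le fun y hy x hx => by
      rw [Subgroup.mem_centralizer_singleton_iff]
      exact h2 y hy x hx v' hv'
    exact Subgroup.mem_centralizer_singleton_iff.1 (h3 hv)
  have hzz := C.z_sq b hbR
  have hinv : ∀ v ∈ RGD.Sup X Sm, z b * v * z b = v⁻¹ := by
    let H : Subgroup Y :=
      { carrier := {v | v ∈ RGD.Sup X Sm ∧ z b * v * z b = v⁻¹}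
        mul_mem' := by
          rintro v w ⟨hv, ev⟩ ⟨hw, ew⟩
          refine ⟨mul_mem hv hw, ?_⟩
          calc z b * (v * w) * z b = z b * v * 1 * w * z b := by group
            _ = z b * v * (z b * z b) * w * z b := by rw [hzz]
            _ = (z b * v * z b) * (z b * w * z b) := by group
            _ = v⁻¹ * w⁻¹ := by rw [ev, ew]
            _ = (w * v)⁻¹ := by group
            _ = (v * w)⁻¹ := by rw [habel v hv w hw]
        one_mem' := ⟨one_mem _, by rw [mul_one, hzz, inv_one]⟩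
        inv_mem' := by
          rintro v ⟨hv, ev⟩
          refine ⟨inv_mem hv, ?_⟩
          have h1 : z b * v⁻¹ * z b = (z b * v * z b)⁻¹ := by
            have hzi : (z b)⁻¹ = z b := inv_eq_of_mul_eq_one_left hzz
            rw [mul_inv_rev, mul_inv_rev, hzi, mul_assoc]
          rw [h1, ev] }
    have h1 : RGD.Sup X Sm ≤ H := RGD.Sup_le fun y hy x hx => by
      refine ⟨RGD.le_Sup hy hx, ?_⟩
      refine C.z_inv b hbR y (hS y hy.1).1 ?_ ?_ hy.2.ne x hx
      · rintro rfl
        have h2 := (hS y hy.1).2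
        rw [form_comm, hab] at h2
        exact lt_irrefl 0 h2
      · rintro rfl
        have h2 := (hS _ hy.1).2
        rw [form_neg_left, form_comm, hab, neg_zero] at h2
        exact lt_irrefl 0 h2
    exact fun v hv => (h1 hv).2
  -- commutators of `Sup X Sm` with `X b`
  have hcomm : ∀ v ∈ RGD.Sup X Sm, ∀ c ∈ X b, v * c * v⁻¹ * c⁻¹ ∈ RGD.Sup X Sp := by
    let H' : Subgroup Y :=
      { carrier := {v | v ∈ RGD.Sup X Sm ∧ ∀ c ∈ X b, v * c * v⁻¹ * c⁻¹ ∈ RGD.Sup X Sp}
        mul_mem' := by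
          rintro v w ⟨hv, ev⟩ ⟨hw, ew⟩
          refine ⟨mul_mem hv hw, fun c hc => ?_⟩
          have h1 : v * w * c * (v * w)⁻¹ * c⁻¹ = v * (w * c * w⁻¹ * c⁻¹) * v⁻¹ * (v * c * v⁻¹ * c⁻¹) := by group
          rw [h1]
          exact mul_mem ((Subgroup.mem_normalizer_iff.1 (hN hv) _).1 (ew c hc)) (ev c hc)
        one_mem' := ⟨one_mem _, fun c hc => by
          have : (1 : Y) * c * 1⁻¹ * c⁻¹ = 1 := by group
          rw [this]; exact one_mem _⟩
        inv_mem' := by
          rintro v ⟨hv, ev⟩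
          refine ⟨inv_mem hv, fun c hc => ?_⟩
          have h1 : v⁻¹ * c * v⁻¹⁻¹ * c⁻¹ = v⁻¹ * (v * c * v⁻¹ * c⁻¹)⁻¹ * v⁻¹⁻¹ := by group
          rw [h1]
          exact (Subgroup.mem_normalizer_iff.1 (hN (inv_mem hv)) _).1 (inv_mem (ev c hc)) }
    have h1 : RGD.Sup X Sm ≤ H' := RGD.Sup_le fun y hy x hx => by
      refine ⟨RGD.le_Sup hy hx, fun c hc => ?_⟩
      have hyr := (hS y hy.1).1
      have hnb : y ≠ b := by
        rintro rfl
        have h2 := hy.2
        have h3 := form_pos cs h hyr.ne_zero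
        omega
      have hnb' : y ≠ -b := by
        rintro rfl
        have h2 := (hS _ hy.1).2
        rw [form_neg_left, form_comm, hab, neg_zero] at h2
        exact lt_irrefl 0 h2
      have h2 := C.rgd.comm y b hyr hb hnb hnb' x hx c hc
      rw [commutatorElement_def] at h2
      have h5 : cpr cs h y (-b) = 1 := by
        have h6 : 0 < cpr cs h y (-b) := (cpr_pos_iff cs h y hb.neg).2 (by
          have := hy.2
          rw [form_neg_right]; omega)
        have h7 := cpr_le_one hs hyr hb.neg hnb'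
        omega
      have h3 : btw cs h X y b ≤ RGD.Sup X Sp := C.rgd.btw_le_Sup fun v hv => by
        have h4 : v = y - -b := btwn_sub hs hyr hb.neg h5 (by rwa [neg_neg])
        rw [sub_neg_eq_add] at h4
        rw [h4]
        refine ⟨hSb y hy.1 hy.2, ?_⟩
        have h6 := two_form_cpr cs h y hb.neg
        rw [h5, one_mul] at h6
        simp only [form_neg_right, form_neg_left, neg_neg] at h6
        have h7 := form_pos cs h hb.ne_zero
        rw [form_add_left]
        omega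
      exact h3 h2
    exact fun v hv => (h1 hv).2
  -- the decomposition of `v`
  have h2 : v ∈ ((RGD.Sup X Sm ⊔ RGD.Sup X Sp : Subgroup Y) : Set Y) := hsup hv
  rw [Subgroup.coe_mul_of_left_le_normalizer_right _ _ hN, Set.mem_mul] at h2
  obtain ⟨vm, hvm, vp, hvp, e⟩ := h2
  have hvm' : vm ∈ RGD.Sup X Sm := hvm
  have hvp' : vp ∈ RGD.Sup X Sp := hvp
  by_cases hm1 : vm = 1
  · refine ⟨v, ?_, hvH, hva⟩
    rw [← e, hm1, one_mul]; exact hvp'
  by_contra hcon
  push Not at hcon
  -- all commutators are in `X a`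
  have h3 : ∀ c ∈ X b, vm * c * vm⁻¹ * c⁻¹ ∈ X a := by
    intro c hc
    have h4 : v * c * v⁻¹ * c⁻¹ = vm * c * vm⁻¹ * c⁻¹ := by
      have h5 := hplus vp hvp' c hc
      rw [← e]
      calc vm * vp * c * (vm * vp)⁻¹ * c⁻¹ = vm * (vp * c) * vp⁻¹ * vm⁻¹ * c⁻¹ := by group
        _ = vm * (c * vp) * vp⁻¹ * vm⁻¹ * c⁻¹ := by rw [h5]
        _ = _ := by group
    rw [← h4]
    refine hcon _ ?_ ?_
    · rw [h4]; exact hcomm vm hvm' c hc
    · exact mul_mem (mul_mem (mul_mem hvH (hbH hc)) (inv_mem hvH)) (inv_mem (hbH hc))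
  have hca : ∀ d ∈ KK Z b, ∀ c ∈ X a, d * c = c * d := by
    intro d hd c hc
    have h4 := X_cm_KK C hbR ha hab
    exact (h4 c hc d hd).symm
  let H'' : Subgroup Y :=
    { carrier := {d | (∀ c ∈ X a, d * c = c * d) ∧ vm * d * vm⁻¹ * d⁻¹ ∈ X a}
      mul_mem' := by
        rintro d d' ⟨hd, ed⟩ ⟨hd', ed'⟩
        refine ⟨fun c hc => by rw [mul_assoc, hd' c hc, ← mul_assoc, hd c hc, mul_assoc], ?_⟩
        have h4 : vm * (d * d') * vm⁻¹ * (d * d')⁻¹ =
            (vm * d * vm⁻¹ * d⁻¹) * (d * (vm * d' * vm⁻¹ * d'⁻¹) * d⁻¹) := by group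
        rw [h4, hd _ ed']
        refine mul_mem ed ?_
        rw [mul_inv_cancel_right]; exact ed'
      one_mem' := ⟨fun c _ => by rw [one_mul, mul_one], by
        have : vm * 1 * vm⁻¹ * (1 : Y)⁻¹ = 1 := by group
        rw [this]; exact one_mem _⟩
      inv_mem' := by
        rintro d ⟨hd, ed⟩
        have hd' : ∀ c ∈ X a, d⁻¹ * c = c * d⁻¹ := by
          intro c hc
          have h4 := hd c hc
          calc d⁻¹ * c = d⁻¹ * (c * d) * d⁻¹ := by group
            _ = d⁻¹ * (d * c) * d⁻¹ := by rw [h4]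
            _ = c * d⁻¹ := by group
        refine ⟨hd', ?_⟩
        have h4 : vm * d⁻¹ * vm⁻¹ * d⁻¹⁻¹ = d⁻¹ * (vm * d * vm⁻¹ * d⁻¹)⁻¹ * d := by group
        rw [h4, hd' _ (inv_mem ed), inv_mul_cancel_right]
        exact inv_mem ed }
  have h4 : KK Z b ≤ H'' := by
    refine sup_le (fun d hd => ⟨hca d ((le_sup_left : Z b ≤ KK Z b) hd), h3 d (by rw [← hZ b hb]; exact hd)⟩)
      (fun d hd => ⟨hca d ((le_sup_right : Z (-b) ≤ KK Z b) hd), ?_⟩)
    have h5 := hminus vm hvm' d hd
    have h6 : vm * d * vm⁻¹ * d⁻¹ = 1 := by rw [← h5]; group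
    rw [h6]; exact one_mem _
  have h5 := (h4 (C.z_mem b hbR)).2
  have hzi : (z b)⁻¹ = z b := inv_eq_of_mul_eq_one_left hzz
  have h6 := hinv vm⁻¹ (inv_mem hvm')
  rw [inv_inv] at h6
  have h7 : vm * vm ∈ X a := by
    have h8 : vm * z b * vm⁻¹ * (z b)⁻¹ = vm * vm := by
      rw [hzi]
      calc vm * z b * vm⁻¹ * z b = vm * (z b * vm⁻¹ * z b) := by group
        _ = vm * vm := by rw [h6]
    rwa [h8] at h5
  have hVa : vm ∈ VV cs h X a := RGD.Sup_mono (S := Sm) (fun y hy => hS y hy.1) hvm'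
  have ho := odd_of_pgroup hp hp2 (isPGroup_VV C a) hVa
  have h8 : vm ∈ X a := mem_of_odd_sq C hp2 ho h7
  have h9 := hca (z b) (C.z_mem b hbR) vm h8
  have h10 := hinv vm hvm'
  rw [h9, mul_assoc, hzz, mul_one] at h10
  apply hm1
  refine DFourAut.eq_one_of_odd ho ?_
  nth_rewrite 2 [h10]
  exact mul_inv_cancel vm

/-- If `z a` inverts `x ∈ VV a` and the elements of `VV a` fixed by `t` are in `Z a` then `t * z a` centralises `x`. -/
theorem fix_of_inv [Fact p.Prime] {t : Y} (ht : t * t = 1) {a : I → ℤ} (ha : IsRoot cs h a) [Finite Y]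
    (hQ : Inv t (VV cs h X a)) (hc : ∀ x ∈ KK Z a, t * x = x * t)
    (hfix : ∀ v ∈ VV cs h X a, t * v = v * t → v ∈ Z a) {x : Y} (hx : x ∈ VV cs h X a)
    (hxz : z a * x * z a = x⁻¹) : (t * z a) * x = x * (t * z a) := by
  have haR := hR a ha
  have hzz := C.z_sq a haR
  have hti : t⁻¹ = t := inv_eq_of_mul_eq_one_left ht
  have hzi : (z a)⁻¹ = z a := inv_eq_of_mul_eq_one_left hzz
  have hzt : t * z a = z a * t := hc _ (C.z_mem a haR)
  have hy := hQ x hx
  set y := t * x * t with hyd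
  -- `[x, y] ∈ Z a`
  have hcom : ∀ u ∈ VV cs h X a, ∀ v ∈ VV cs h X a, ∃ c ∈ Z a, u * v = c * (v * u) := by
    intro u hu v hv
    refine ⟨u * v * u⁻¹ * v⁻¹, ?_, by group⟩
    have h1 := commutator_VV_le C hp2 haR (Subgroup.commutator_mem_commutator hu hv)
    rwa [commutatorElement_def] at h1
  have hcen : ∀ c ∈ Z a, ∀ v ∈ VV cs h X a, c * v = v * c := fun c hc v hv => VV_comm C haR hc hv
  have htc : ∀ c ∈ Z a, t * c * t = c := fun c hc' =>
    conj_eq_of_comm ht (hc c ((le_sup_left : Z a ≤ KK Z a) hc'))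
  have hodd : ∀ c ∈ Z a, c * c = 1 → c = 1 := fun c hc' h2 =>
    DFourAut.eq_one_of_odd (odd_of_pgroup hp hp2 (isPGroup_VV C a) (Z_le_VV C haR hc')) h2
  -- `x * y` is fixed by `t`
  have h1 : t * (x * y) * t = y * x := by
    rw [hyd]
    calc t * (x * (t * x * t)) * t = (t * x * t) * x * (t * t) := by group
      _ = t * x * t * x := by rw [ht, mul_one]
  obtain ⟨c, hcZ, e⟩ := hcom x hx y hy
  have h2 : c = 1 := by
    apply hodd c hcZ
    have h3 : t * (y * x) * t = x * y := by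
      rw [hyd]
      calc t * (t * x * t * x) * t = (t * t) * x * t * x * t := by group
        _ = x * (t * x * t) := by rw [ht]; group
    have h4 : t * (x * y) * t = c * (x * y) := by
      have h5 : t * (c * (y * x)) * t = (t * c * t) * (t * (y * x) * t) := by
        calc t * (c * (y * x)) * t = t * c * 1 * (y * x) * t := by group
          _ = t * c * (t * t) * (y * x) * t := by rw [ht]
          _ = _ := by group
      nth_rewrite 1 [e]
      rw [h5, htc c hcZ, h3]
    rw [h1] at h4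
    have h5 : x * y = c * (c * (x * y)) := by rw [← h4]; exact e
    have h6 : c * c * (x * y) = x * y := by rw [mul_assoc]; exact h5.symm
    exact mul_eq_right.1 h6
  rw [h2, one_mul] at e
  have h3 : x * y ∈ Z a := by
    apply hfix _ (mul_mem hx hy)
    have h4 : t * (x * y) * t = x * y := by rw [h1]; exact e.symm
    calc t * (x * y) = t * (x * y) * (t * t) := by rw [ht, mul_one]
      _ = (t * (x * y) * t) * t := by group
      _ = x * y * t := by rw [h4]
  -- `y = c' x⁻¹`
  set c' := x * y with hc'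
  have h4 : y = c' * x⁻¹ := by rw [e]; group
  have h5 : z a * c' * z a = c' := by
    have h6 := C.z_cent a haR c' h3
    rw [h6, mul_assoc, hzz, mul_one]
  -- `z a y z a = c' x`, and `z a y z a = t (z a x z a) t = y⁻¹ = x c'⁻¹`
  have h6 : z a * y * z a = c' * x := by
    rw [h4]
    calc z a * (c' * x⁻¹) * z a = z a * c' * 1 * x⁻¹ * z a := by group
      _ = z a * c' * (z a * z a) * x⁻¹ * z a := by rw [hzz]
      _ = (z a * c' * z a) * (z a * x * z a)⁻¹ := by
        have : (z a * x * z a)⁻¹ = z a * x⁻¹ * z a := by rw [mul_inv_rev, mul_inv_rev, hzi, mul_assoc]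
        rw [this]; group
      _ = c' * x := by rw [h5, hxz, inv_inv]
  have h7 : z a * y * z a = x * c'⁻¹ := by
    have h8 : z a * y * z a = t * (z a * x * z a) * t := by
      rw [hyd]
      calc z a * (t * x * t) * z a = (z a * t) * x * (t * z a) := by group
        _ = (t * z a) * x * (z a * t) := by rw [hzt]
        _ = _ := by group
    rw [h8, hxz]
    have h9 : t * x⁻¹ * t = y⁻¹ := by rw [hyd, mul_inv_rev, mul_inv_rev, hti, mul_assoc]
    rw [h9, h4]; group
  have h8 : c' = 1 := by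
    apply hodd c' h3
    have h9 : c' * x = x * c'⁻¹ := by rw [← h6, h7]
    have h10 := hcen c' h3 x hx
    rw [h10] at h9
    have h11 : c' = c'⁻¹ := mul_left_cancel h9
    nth_rewrite 2 [h11]
    exact mul_inv_cancel c'
  have h9 : t * x * t = x⁻¹ := by
    rw [h8, one_mul] at h4
    exact h4
  have h10 : z a * x = x⁻¹ * z a := by
    rw [← hxz, mul_assoc, hzz, mul_one]
  have h11 : t * x⁻¹ = x * t := by
    calc t * x⁻¹ = t * (t * x * t) := by rw [h9]
      _ = (t * t) * x * t := by group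
      _ = x * t := by rw [ht, one_mul]
  calc t * z a * x = t * (z a * x) := by group
    _ = (t * x⁻¹) * z a := by rw [h10]; group
    _ = x * (t * z a) := by rw [h11]; group

end Groups

/-! ### Frames -/

section Frames

variable {I W Y : Type*} [Fintype I] [DecidableEq I] [Group W] [Fintype W] [Group Y] {M : CoxeterMatrix I}
  {cs : CoxeterSystem M W} {A : I → I → ℤ} {h : IsCartan M A} {p : ℕ} {T : Subgroup Y} {n : I → Y}
  {X : (I → ℤ) → Subgroup Y} {R : Set (I → ℤ)} {Z : (I → ℤ) → Subgroup Y} {z : (I → ℤ) → Y}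
  {ι : Type*} {g : ι → I → ℤ}

variable (C : Cls cs h p T n X R Z z) (hR : ∀ x, IsRoot cs h x → x ∈ R) (hZ : ∀ x, IsRoot cs h x → Z x = X x)
  (hp : p.Prime) (hp2 : p ≠ 2)

include C hR hZ hp hp2

/-- the root groups of the frame -/
theorem X_le_KK (F : DFourAut.Fr cs h g) (k : ι) : X (g k) ≤ KK Z (g k) ∧ X (-g k) ≤ KK Z (g k) := by
  constructor
  · rw [← hZ _ (F.root k)]; exact le_sup_left
  · rw [← hZ _ (F.root k).neg]; exact le_sup_right

open Classical in
/-- A subgroup containing the frame and an element `≠ 1` of a root group not in the frame. -/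
theorem gen_of_X [Fintype ι] [Finite Y] (F : DFourAut.Fr cs h g) {H : Subgroup Y} (hH : ∀ k, KK Z (g k) ≤ H) (k0 : ι)
    {s : I → ℤ} (hs : IsRoot cs h s) (hs1 : ∀ k, |cpr cs h s (g k)| = 1) {x : Y} (hx : x ∈ X s) (hx1 : x ≠ 1)
    (hxH : x ∈ H) : G1 cs h X ≤ H := by
  have hXg := X_le_KK C hR hZ hp hp2 F
  -- one reflection
  have step : ∀ {s : I → ℤ}, IsRoot cs h s → (∀ k, |cpr cs h s (g k)| = 1) → (∃ x ∈ X s, x ≠ 1 ∧ x ∈ H) →
      ∀ k, X (s - cpr cs h s (g k) • g k) ≤ H := by
    rintro s hs hs1 ⟨x, hx, hx1, hxH⟩ k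
    have h4 : cpr cs h s (cpr cs h s (g k) • g k) = 1 := by
      rcases abs_one (hs1 k) with h5 | h5
      · rw [h5, one_smul, h5]
      · rw [h5, neg_one_smul, cpr_neg_right cs h _ (F.root k), h5]; norm_num
    refine X_le_of_comm C hR hZ hp hp2 F.sld hs (root_sgn (hs1 k) (F.root k)) h4 hx hx1 hxH ?_
    rcases abs_one (hs1 k) with h5 | h5
    · rw [h5, one_smul]; exact (hXg k).2.trans (hH k)
    · rw [h5, neg_one_smul, neg_neg]; exact (hXg k).1.trans (hH k)
  have hcpr : ∀ (s : I → ℤ) (k l : ι), cpr cs h (s - cpr cs h s (g k) • g k) (g l) =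
      cpr cs h s (g l) - cpr cs h s (g k) * cpr cs h (g k) (g l) := fun s k l => by
    rw [Cfsg.Agent.Nodes.KindBase.cpr_sub cs h _ _ (F.root l), cpr_smul cs h _ _ (F.root l)]
  have hne' : ∀ (s : I → ℤ) (k l : ι), l ≠ k → cpr cs h (s - cpr cs h s (g k) • g k) (g l) =
      cpr cs h s (g l) := fun s k l hl => by
    rw [hcpr, (cpr_zero_iff cs h (g k) (F.root l)).2 (F.orth k l (Ne.symm hl)), mul_zero, sub_zero]
  have heq' : ∀ (s : I → ℤ) (k : ι), cpr cs h (s - cpr cs h s (g k) • g k) (g k) = -cpr cs h s (g k) :=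
    fun s k => by rw [hcpr, cpr_self cs h (F.root k)]; ring
  have habs : ∀ (s : I → ℤ) (k : ι), (∀ l, |cpr cs h s (g l)| = 1) →
      ∀ l, |cpr cs h (s - cpr cs h s (g k) • g k) (g l)| = 1 := fun s k hs l => by
    by_cases hl : l = k
    · rw [hl, heq', abs_neg]; exact hs k
    · rw [hne' s k l hl]; exact hs l
  have hex : ∀ {v : I → ℤ}, IsRoot cs h v → X v ≤ H → ∃ x ∈ X v, x ≠ 1 ∧ x ∈ H := by
    intro v hv hle
    obtain ⟨x, hx, hx1⟩ := exists_ne_one C hR hZ hp hp2 hv
    exact ⟨x, hx, hx1, hle hx⟩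
  refine RGD.Sup_le fun y hy => ?_
  rcases F.dich y hy with ⟨k, hk⟩ | hk
  · rcases hk with rfl | rfl
    · exact (hXg k).1.trans (hH k)
    · exact (hXg k).2.trans (hH k)
  have claim : ∀ A : Finset ι, ∃ v, IsRoot cs h v ∧ (∀ k, |cpr cs h v (g k)| = 1) ∧ X v ≤ H ∧
      ∀ k ∈ A, cpr cs h v (g k) = cpr cs h y (g k) := by
    intro A
    induction A using Finset.induction_on with
    | empty =>
      exact ⟨_, isRoot_refl cs h hs (F.root k0), habs s k0 hs1, step hs hs1 ⟨x, hx, hx1, hxH⟩ k0,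
        fun k hk => absurd hk (Finset.notMem_empty k)⟩
    | insert k A hkA ih =>
      obtain ⟨v, hv, hv1, hvw, hvA⟩ := ih
      by_cases hvk : cpr cs h v (g k) = cpr cs h y (g k)
      · refine ⟨v, hv, hv1, hvw, fun l hl => ?_⟩
        rcases Finset.mem_insert.1 hl with rfl | hl
        · exact hvk
        · exact hvA l hl
      · refine ⟨_, isRoot_refl cs h hv (F.root k), habs v k hv1, step hv hv1 (hex hv hvw) k, fun l hl => ?_⟩
        rcases Finset.mem_insert.1 hl with rfl | hl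
        · rw [heq']
          rcases abs_one (hv1 l) with h5 | h5 <;> rcases abs_one (hk l) with h6 | h6 <;> rw [h5, h6] at hvk ⊢ <;>
            omega
        · rw [hne' v k l (fun e => hkA (e ▸ hl))]
          exact hvA l hl
  obtain ⟨v, hv, hv1, hvw, hvA⟩ := claim Finset.univ
  have e := F.det v y hv hy fun k => hvA k (Finset.mem_univ k)
  rw [← e]
  exact hvw

open Classical in
/-- **Generation**: a subgroup containing the frame and an element of the radical `VV (g k0)` outside `X (g k0)`. -/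
theorem gen_of_mem [Fintype ι] [Finite Y] (F : DFourAut.Fr cs h g) {H : Subgroup Y} (hH : ∀ k, KK Z (g k) ≤ H) (k0 : ι)
    {v : Y} (hv : v ∈ VV cs h X (g k0)) (hvH : v ∈ H) (hva : v ∉ X (g k0)) : G1 cs h X ≤ H := by
  have hXg := X_le_KK C hR hZ hp hp2 F
  set a := g k0 with ha
  have claim : ∀ A : Finset ι, k0 ∉ A → ∃ w ∈ RGD.Sup X {y | (IsRoot cs h y ∧ 0 < form cs h y a) ∧
      ∀ k ∈ A, 0 ≤ form cs h y (g k)}, w ∈ H ∧ w ∉ X a := by
    intro A
    induction A using Finset.induction_on with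
    | empty =>
      intro _
      refine ⟨v, ?_, hvH, hva⟩
      unfold VV at hv
      have hset : {y | (IsRoot cs h y ∧ 0 < form cs h y a) ∧ ∀ k ∈ (∅ : Finset ι), 0 ≤ form cs h y (g k)} =
          {y | IsRoot cs h y ∧ 0 < form cs h y a} := by
        ext y
        exact ⟨fun h1 => h1.1, fun h1 => ⟨h1, fun k hk => absurd hk (Finset.notMem_empty k)⟩⟩
      rw [hset]
      exact hv
    | insert k A hk ih =>
      intro hk0
      rw [Finset.mem_insert, not_or] at hk0
      obtain ⟨w, hw, hwH, hwa⟩ := ih hk0.2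
      have hka : form cs h a (g k) = 0 := F.orth k0 k hk0.1
      obtain ⟨w', hw', hwH', hwa'⟩ := down_step C hR hZ hp hp2 F.sld
        (S := {y | (IsRoot cs h y ∧ 0 < form cs h y a) ∧ ∀ k ∈ A, 0 ≤ form cs h y (g k)})
        (F.root k0) (F.root k) hka
        ⟨⟨F.root k0, form_pos cs h (F.root k0).ne_zero⟩, fun l hl => (F.orth k0 l fun e => hk0.2 (e ▸ hl)).ge⟩
        (fun y hy => hy.1) (by
          rintro y ⟨⟨hy, hya⟩, hyA⟩ hyk
          have h5 : cpr cs h y (-g k) = 1 := by
            have h6 : 0 < cpr cs h y (-g k) := (cpr_pos_iff cs h y (F.root k).neg).2 (by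
              rw [form_neg_right]; omega)
            have h7 : y ≠ -g k := by
              rintro rfl
              rw [form_neg_left, form_comm, hka, neg_zero] at hya
              exact lt_irrefl 0 hya
            have h8 := cpr_le_one F.sld hy (F.root k).neg h7
            omega
          have h6 : IsRoot cs h (y + g k) := by
            have h7 := isRoot_refl cs h hy (F.root k).neg
            rw [h5, one_smul, sub_neg_eq_add] at h7
            exact h7
          refine ⟨⟨h6, ?_⟩, fun l hl => ?_⟩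
          · rw [form_add_left, form_comm cs h (g k) a, hka, add_zero]; exact hya
          · rw [form_add_left, F.orth k l (fun e => hk (e ▸ hl)), add_zero]; exact hyA l hl)
        ((hXg k).1.trans (hH k)) hw hwH hwa
      refine ⟨w', ?_, hwH', hwa'⟩
      have hset : {y | (IsRoot cs h y ∧ 0 < form cs h y a) ∧ ∀ l ∈ insert k A, 0 ≤ form cs h y (g l)} =
          {y | y ∈ {y | (IsRoot cs h y ∧ 0 < form cs h y a) ∧ ∀ l ∈ A, 0 ≤ form cs h y (g l)} ∧
            0 ≤ form cs h y (g k)} := by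
        ext y
        constructor
        · rintro ⟨h2, h3⟩
          exact ⟨⟨h2, fun l hl => h3 l (Finset.mem_insert_of_mem hl)⟩, h3 k (Finset.mem_insert_self _ _)⟩
        · rintro ⟨⟨h2, h3⟩, h4⟩
          refine ⟨h2, fun l hl => ?_⟩
          rcases Finset.mem_insert.1 hl with rfl | hl
          · exact h4
          · exact h3 l hl
      rw [hset]
      exact hw'
  obtain ⟨w, hw, hwH, hwa⟩ := claim (Finset.univ.erase k0) (Finset.notMem_erase _ _)
  set S : Set (I → ℤ) := {y | (IsRoot cs h y ∧ 0 < form cs h y a) ∧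
    ∀ k ∈ Finset.univ.erase k0, 0 ≤ form cs h y (g k)} with hS
  have haS : ∀ y ∈ S, y = a ∨ ∀ k, cpr cs h y (g k) = 1 := by
    rintro y ⟨⟨hy, hya⟩, hyk⟩
    rcases F.dich y hy with ⟨k, hk⟩ | hk
    · left
      have hkk : k = k0 := by
        by_contra hne
        have h2 : form cs h y a = 0 := by
          rcases hk with rfl | rfl
          · exact F.orth k k0 hne
          · rw [form_neg_left, ha, F.orth k k0 hne, neg_zero]
        omega
      subst hkk
      rcases hk with rfl | rfl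
      · rfl
      · rw [form_neg_left] at hya
        have h3 : 0 < form cs h (g k) a := form_pos cs h (F.root k).ne_zero
        omega
    · right
      intro k
      have h1 : 0 ≤ form cs h y (g k) := by
        by_cases hkk : k = k0
        · subst hkk; exact hya.le
        · exact hyk k (Finset.mem_erase.2 ⟨hkk, Finset.mem_univ _⟩)
      have h2 := sgn_form (F.root k) (hk k)
      rcases abs_one (hk k) with h3 | h3
      · exact h3
      · rw [h3] at h2; omega
  by_cases hex : ∃ s ∈ S, ∀ k, cpr cs h s (g k) = 1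
  · obtain ⟨s, hsS, hs1⟩ := hex
    have hs : IsRoot cs h s := hsS.1.1
    have hS2 : ∀ y ∈ S, y = a ∨ y = s := fun y hy => by
      rcases haS y hy with e | e
      · exact Or.inl e
      · exact Or.inr (F.det y s hy.1.1 hs fun k => by rw [e k, hs1 k])
    have hsup : RGD.Sup X S ≤ X a ⊔ X s := RGD.Sup_le fun y hy => by
      rcases hS2 y hy with e | e
      · rw [e]; exact le_sup_left
      · rw [e]; exact le_sup_right
    have has : 0 < form cs h a s := by rw [form_comm]; exact hsS.1.2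
    have hN : X a ≤ Subgroup.normalizer (X s : Set Y) := by
      refine le_trans (fun u hu => ?_) (Cfsg.Agent.Nodes.ClsNorm.centralizer_le_normalizer' _)
      rw [Subgroup.mem_centralizer_iff]
      intro v hv
      exact (X_comm C hR hZ hp hp2 (F.root k0) hs has.le hu hv).symm
    have h2 : w ∈ ((X a ⊔ X s : Subgroup Y) : Set Y) := hsup hw
    rw [Subgroup.coe_mul_of_left_le_normalizer_right _ _ hN, Set.mem_mul] at h2
    obtain ⟨u, hu, x, hx, e⟩ := h2
    have hu' : u ∈ X a := hu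
    have huH : u ∈ H := hH k0 ((hXg k0).1 hu')
    have hx' : x ∈ X s := hx
    have hxH : x ∈ H := by
      have : x = u⁻¹ * w := by rw [← e]; group
      rw [this]; exact mul_mem (inv_mem huH) hwH
    refine gen_of_X C hR hZ hp hp2 F hH k0 hs (fun k => by rw [hs1 k]; norm_num) hx' (fun h1 => ?_) hxH
    apply hwa
    rw [← e, h1, mul_one]; exact hu'
  · exfalso
    apply hwa
    have hsup : RGD.Sup X S ≤ X a := RGD.Sup_le fun y hy => by
      rcases haS y hy with e | e
      · rw [e]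
      · exact absurd ⟨y, hy, e⟩ hex
    exact hsup hw

/-- **KF6, group level.** -/
theorem gen_or_cent [Fintype ι] [Finite Y] (F : DFourAut.Fr cs h g)
    (hex : ∃ s, IsRoot cs h s ∧ ∀ k, |cpr cs h s (g k)| = 1) {t : Y} (ht : t * t = 1)
    (hG : Inv t (GG cs h T X)) (k0 : ι) (hc : ∀ x ∈ KK Z (g k0), t * x = x * t) {H : Subgroup Y}
    (hH : ∀ k, KK Z (g k) ≤ H) (hHt : ∀ x ∈ VV cs h X (g k0), t * x = x * t → x ∈ H) :
    G1 cs h X ≤ H ∨ ∀ x ∈ G1 cs h X, (t * z (g k0)) * x = x * (t * z (g k0)) := by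
  classical
  have : Fact p.Prime := ⟨hp⟩
  have ha := F.root k0
  have haR := hR _ ha
  by_cases hcase : ∃ v ∈ VV cs h X (g k0), t * v = v * t ∧ v ∉ X (g k0)
  · obtain ⟨v, hv, htv, hva⟩ := hcase
    exact Or.inl (gen_of_mem C hR hZ hp hp2 F hH k0 hv (hHt v hv htv) hva)
  · right
    push Not at hcase
    have hQ := inv_VV C hR hZ hp hp2 ht hG ha hc
    set a := g k0 with hadef
    set u := t * z a with hu
    have huK : ∀ x ∈ KK Z a, u * x = x * u := by
      intro x hx
      rw [hu, mul_assoc, (cls_commute_z C haR hx).symm, ← mul_assoc, hc x hx, mul_assoc]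
    -- roots with positive product
    have hpos : ∀ y, IsRoot cs h y → 0 < form cs h y a → ∀ x ∈ X y, u * x = x * u := by
      intro y hy hya x hx
      by_cases hya' : y = a
      · exact huK x ((le_sup_left : Z a ≤ KK Z a) (by rw [hZ a ha, ← hya']; exact hx))
      · have hn : y ≠ -a := by
          rintro rfl
          rw [form_neg_left] at hya
          have := form_pos cs h ha.ne_zero
          omega
        exact fix_of_inv C hR hZ hp hp2 ht ha hQ hc (fun v hv htv => by
          rw [hZ a ha]; exact hcase v hv htv) (RGD.le_Sup (S := {y | IsRoot cs h y ∧ 0 < form cs h y a}) ⟨hy, hya⟩ hx)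
          (C.z_inv a haR y hy hya' hn hya.ne' x hx)
    have hcent : ∀ {K : Subgroup Y}, (∀ x ∈ K, u * x = x * u) → K ≤ Subgroup.centralizer {u} := by
      intro K hK x hx
      rw [Subgroup.mem_centralizer_singleton_iff]
      exact (hK x hx).symm
    have hle : G1 cs h X ≤ Subgroup.centralizer {u} := by
      -- the roots not in the frame with positive product exist or the frame is everything
      refine RGD.Sup_le fun y hy => ?_
      have hNF : ∀ y, IsRoot cs h y → form cs h y a ≠ 0 → X y ≤ Subgroup.centralizer {u} := by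
        intro y hy h0
        rcases lt_or_gt_of_ne h0 with h1 | h1
        · by_cases hya : y = -a
          · refine hcent fun x hx => huK x ((le_sup_right : Z (-a) ≤ KK Z a) ?_)
            rw [← hya, hZ y hy]; exact hx
          · have h2 : cpr cs h y (-a) = 1 := by
              have h3 : 0 < cpr cs h y (-a) := (cpr_pos_iff cs h y ha.neg).2 (by rw [form_neg_right]; omega)
              have h4 := cpr_le_one F.sld hy ha.neg hya
              omega
            -- `s = y + a`
            have hs : IsRoot cs h (y + a) := by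
              have h7 := isRoot_refl cs h hy ha.neg
              rw [h2, one_smul, sub_neg_eq_add] at h7
              exact h7
            have h3 : cpr cs h (y + a) a = 1 := by
              rw [cpr_add cs h _ _ ha, cpr_self cs h ha]
              rw [cpr_neg_right cs h _ ha] at h2
              omega
            have h4 : 0 < form cs h (y + a) a := (cpr_pos_iff cs h _ ha).1 (by omega)
            obtain ⟨x, hx, hx1⟩ := exists_ne_one C hR hZ hp hp2 hs
            have h5 := X_le_of_comm C hR hZ hp hp2 F.sld hs ha h3 hx hx1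
              (H := Subgroup.centralizer {u}) (hcent (hpos _ hs h4) hx)
              (hcent fun x hx => huK x ((le_sup_right : Z (-a) ≤ KK Z a) (by rw [hZ _ ha.neg]; exact hx)))
            rwa [add_sub_cancel_right] at h5
        · exact hcent (hpos y hy h1)
      by_cases h0 : form cs h y a = 0
      · -- `y = s - b` with `s`, `b` not orthogonal to `a`
        obtain ⟨k, hk⟩ : ∃ k, y = g k ∨ y = -g k := by
          rcases F.dich y hy with hk | hk
          · exact hk
          · exfalso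
            have h1 := hk k0
            rw [(cpr_zero_iff cs h y ha).2 h0] at h1
            norm_num at h1
        obtain ⟨s, hs, hs1, hsy⟩ : ∃ s, IsRoot cs h s ∧ (∀ k, |cpr cs h s (g k)| = 1) ∧ cpr cs h s y = 1 := by
          obtain ⟨s, hs, hs1⟩ := hex
          have h1 : |cpr cs h s y| = 1 := by
            rcases hk with rfl | rfl
            · exact hs1 k
            · rw [cpr_neg_right cs h _ (F.root k), abs_neg]; exact hs1 k
          rcases abs_one h1 with h2 | h2
          · exact ⟨s, hs, hs1, h2⟩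
          · refine ⟨-s, hs.neg, fun l => ?_, ?_⟩
            · rw [cpr_neg cs h _ (F.root l), abs_neg]; exact hs1 l
            · rw [cpr_neg cs h _ hy, h2]; norm_num
        have h1 := cpr_symm F.sld hs hy hsy
        obtain ⟨hb, hcd⟩ := Cfsg.Agent.Nodes.KindBase.cpr_diff cs h hs hy hsy h1 s
        rw [cpr_self cs h hs, hsy] at hcd
        have h2 : form cs h s a ≠ 0 := fun h3 => by
          have h4 := hs1 k0
          rw [(cpr_zero_iff cs h s ha).2 h3] at h4
          norm_num at h4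
        obtain ⟨x, hx, hx1⟩ := exists_ne_one C hR hZ hp hp2 hs
        have h5 := X_le_of_comm C hR hZ hp hp2 F.sld hs hb (by rw [hcd]; norm_num) hx hx1
          (H := Subgroup.centralizer {u}) (hNF s hs h2 hx)
          (hNF _ hb.neg (by
            rw [form_neg_left, form_sub_left, h0, sub_zero]
            exact neg_ne_zero.2 h2))
        rwa [sub_sub_cancel] at h5
      · exact hNF y hy h0
    intro x hx
    exact (Subgroup.mem_centralizer_singleton_iff.1 (hle hx)).symm

end Frames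

/-! ### Charts -/

section Chart

open Cfsg.Agent.Nodes Cfsg.Agent.Nodes.TyStd Cfsg.Agent.Nodes.RootKindsD Cfsg.Agent.Nodes.ChartFrame
  Cfsg.Agent.Nodes.TypeD

universe v

variable {G : Type v} [Group G] [Finite G] {Om : Set (Subgroup G)}

/-- the standard form of a chart of type `D 4` with `Z = X` -/
theorem exists_chart {D : Subgroup G} {p : ℕ} (c : Chart.Chart Om p D) (kind : c.IsTy (.D 4))
    (hzx : ∀ r ∈ c.R, c.Z r = c.X r) : ∃ (C : Chart.Chart Om p D)
    (g : Fin 2 × Bool → C.I → ℤ), (∀ x, IsRoot C.cs C.h x → x ∈ C.R) ∧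
      (∀ x, IsRoot C.cs C.h x → C.Z x = C.X x) ∧ KindBase.FrameSys C.cs C.h C.R g ∧
      DFourAut.Fr C.cs C.h g ∧ (∀ r ∈ C.R, C.z r ≠ 1) ∧
      ∃ s, IsRoot C.cs C.h s ∧ ∀ k, |cpr C.cs C.h s (g k)| = 1 := by
  obtain ⟨_, e, hM, hA, hroot, hact, hR, htr, -⟩ := KindsD.exists_std c kind
  have FS : KindBase.FrameSys (TypeD.M (4 - 2)).toCoxeterSystem (Ty.D 4).isCartan
      (RR (TypeD.M (4 - 2)).toCoxeterSystem) (KindD.g (n := 2)) := KindD.frameSys _
  have F : DFourAut.Fr (TypeD.M (4 - 2)).toCoxeterSystem (Ty.D 4).isCartan (KindD.g (n := 2)) :=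
    DFourFacts.fr _
  obtain ⟨x, hx, h1⟩ : ∃ x, IsRoot (TypeD.M (4 - 2)).toCoxeterSystem (Ty.D 4).isCartan x ∧
      ∀ k, |cpr (TypeD.M (4 - 2)).toCoxeterSystem (Ty.D 4).isCartan x (KindD.g (n := 2) k)| = 1 := by
    have hok : Ok (n := 2) (0, true) (2, true) := by unfold Ok; decide
    refine ⟨KindD.rD (n := 2) (0, true) (2, true), KindD.isRoot_rD (n := 2) _ hok, fun k => ?_⟩
    have hg : KindD.g (n := 2) k = KindD.rD (KindD.i0 k.1, true) (KindD.i1 k.1, k.2) := rfl
    rw [hg]
    refine (congrArg abs (KindD.cpr_rD_rD (n := 2) (TypeD.M 2).toCoxeterSystem hok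
      (KindD.ok_g (n := 2) k))).trans ?_
    clear hg
    revert k
    decide
  refine ⟨reindex c e hM hA (TypeD.M (4 - 2)).toCoxeterSystem (Ty.D 4).isCartan hroot hact hR htr,
    KindD.g (n := 2), fun x hx => hx, fun x hx => ?_, FS, F, ?_, x, hx, h1⟩
  · exact hzx _ ((mem_R_iff (cs := c.cs) (h := c.h) e hM hA (TypeD.M (4 - 2)).toCoxeterSystem
      (Ty.D 4).isCartan c.cls.act hact hR hx).2 hx)
  · have h2 := h1 (0, true)
    have h3 := F.root (0, true)
    obtain ⟨n1, n2⟩ := DFourAut.ne_of_cpr hx h3 h2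
    exact KindsOf.z_ne_one (reindex c e hM hA (TypeD.M (4 - 2)).toCoxeterSystem (Ty.D 4).isCartan hroot hact
      hR htr) (r := KindD.g (n := 2) (0, true)) (x := x) h3 hx n1 n2 (fun h0 => by
        have h4 := (cpr_zero_iff (TypeD.M (4 - 2)).toCoxeterSystem (Ty.D 4).isCartan x h3).2 h0
        rw [h4] at h2
        norm_num at h2)

/-- **KF6 for charts**: `t` an involution (or `1`) normalising `D` and centralising the member `K i` of a frame. -/
theorem kf6_chart (hyp : Hyp Om) {D : Subgroup G} {p : ℕ} (c : Chart.Chart Om p D) (kind : c.IsTy (.D 4))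
    (hzx : ∀ r ∈ c.R, c.Z r = c.X r) {κ : Type*} [Finite κ] {K : κ → Subgroup G}
    (hK : ∀ i, K i ∈ OmIn Om D) (hc : ∀ i j, i ≠ j → cm (K i) (K j))
    (hmax : ∀ L ∈ OmIn Om D, ∃ i, ¬ cm L (K i)) {t : G} (ht : t * t = 1) (hD : ∀ x ∈ D, t * x * t ∈ D) (i : κ)
    (htK : ∀ x ∈ K i, t * x = x * t) {H : Subgroup G} (hH : ∀ j, K j ≤ H)
    (hHt : ∀ x ∈ D, t * x = x * t → x ∈ H) :
    D ≤ H ∨ ∀ x ∈ D, (t * zz (K i)) * x = x * (t * zz (K i)) := by
  obtain ⟨C, g, hR, hZ, FS, F, hz, hex⟩ := exists_chart c kind hzx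
  obtain ⟨s, d, hF⟩ := exists_frameIn C hK hc
  obtain ⟨σ, e, hF'⟩ := hF.exists_std hyp.conj (fun L' hL' h0 => by
    obtain ⟨i, hi⟩ := hmax L' hL'
    exact hi (h0 i)) FS
  set u := e * t * e⁻¹ with hu
  have huu : u * u = 1 := by
    rw [hu]
    calc e * t * e⁻¹ * (e * t * e⁻¹) = e * (t * t) * e⁻¹ := by group
      _ = 1 := by rw [ht]; group
  have hG : DFourAut.Inv u (Cfsg.Agent.Nodes.Bruhat.GG C.cs C.h C.T C.X) := by
    intro x hx
    rw [GG_eq C] at hx ⊢
    have h1 : u * x * u = e * (t * (e⁻¹ * x * e) * t) * e⁻¹ := by rw [hu]; group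
    rw [h1]
    exact mul_mem (mul_mem hF'.mem (hD _ (mul_mem (mul_mem (inv_mem hF'.mem) hx) hF'.mem)))
      (inv_mem hF'.mem)
  have hcu : ∀ x ∈ KK C.Z (g (σ i)), u * x = x * u := by
    intro x hx
    have h1 : Cit.cj e (K i) = KK C.Z (g (σ i)) := hF'.eq i
    rw [← h1, Cit.mem_cj] at hx
    have h2 := htK _ hx
    calc u * x = e * (t * (e⁻¹ * x * e)) * e⁻¹ := by rw [hu]; group
      _ = e * (e⁻¹ * x * e * t) * e⁻¹ := by rw [h2]
      _ = x * u := by rw [hu]; group
  have hGD : ∀ x ∈ D, e * x * e⁻¹ ∈ G1 C.cs C.h C.X := by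
    intro x hx
    have h1 : G1 C.cs C.h C.X = D := C.gen
    rw [h1]
    exact mul_mem (mul_mem hF'.mem hx) (inv_mem hF'.mem)
  have hHK : ∀ k, KK C.Z (g k) ≤ Cit.cj e H := by
    intro k x hx
    obtain ⟨j, rfl⟩ := σ.surjective k
    have h1 : Cit.cj e (K j) = KK C.Z (g (σ j)) := hF'.eq j
    rw [← h1, Cit.mem_cj] at hx
    rw [Cit.mem_cj]
    exact hH j hx
  have hHt' : ∀ x ∈ VV C.cs C.h C.X (g (σ i)), u * x = x * u → x ∈ Cit.cj e H := by
    intro x hx hux
    rw [Cit.mem_cj]
    have hxD : x ∈ D := by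
      have h1 := VV_le_GG C.cls _ hx
      rwa [GG_eq C] at h1
    apply hHt _ (mul_mem (mul_mem (inv_mem hF'.mem) hxD) hF'.mem)
    calc t * (e⁻¹ * x * e) = e⁻¹ * (u * x) * e := by rw [hu]; group
      _ = e⁻¹ * (x * u) * e := by rw [hux]
      _ = e⁻¹ * x * e * t := by rw [hu]; group
  rcases gen_or_cent C.cls hR hZ C.prime C.odd F hex huu hG (σ i) hcu hHK hHt' with h1 | h1
  · left
    intro x hx
    have h2 := h1 (hGD x hx)
    rw [Cit.mem_cj] at h2
    have h3 : e⁻¹ * (e * x * e⁻¹) * e = x := by group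
    rwa [h3] at h2
  · right
    intro x hx
    have h2 := h1 _ (hGD x hx)
    have h3 : e * zz (K i) * e⁻¹ = C.z (g (σ i)) := KindsOf.FrameIn_zz hyp hF' hK hz i
    rw [← h3] at h2
    calc t * zz (K i) * x = e⁻¹ * (u * (e * zz (K i) * e⁻¹) * (e * x * e⁻¹)) * e := by rw [hu]; group
      _ = e⁻¹ * (e * x * e⁻¹ * (u * (e * zz (K i) * e⁻¹))) * e := by rw [h2]
      _ = x * (t * zz (K i)) := by rw [hu]; group

/-- **KF6.** -/
theorem kf6 (hyp : Hyp Om) {D : Subgroup G} (hty : TyPc Om (.D 4) D) {κ : Type*} [Finite κ]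
    {K : κ → Subgroup G} (hK : ∀ i, K i ∈ OmIn Om D) (hc : ∀ i j, i ≠ j → cm (K i) (K j))
    (hmax : ∀ L ∈ OmIn Om D, ∃ i, ¬ cm L (K i)) {t : G} (ht : t * t = 1) (hD : Cit.cj t D = D) (i : κ)
    (htK : ∀ x ∈ K i, t * x = x * t) :
    D ≤ sSup (Set.range K) ⊔ (D ⊓ Subgroup.centralizer {t}) ∨
      ∀ x ∈ D, (t * zz (K i)) * x = x * (t * zz (K i)) := by
  obtain ⟨-, -, -, -, p, c, kind, -, -, zx⟩ := hty
  have hzx : ∀ r ∈ c.R, c.Z r = c.X r := by
    rcases zx with h | ⟨n, h⟩
    · exact h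
    · cases h
  have hti : t⁻¹ = t := inv_eq_of_mul_eq_one_left ht
  refine kf6_chart hyp c kind hzx hK hc hmax ht (fun x hx => ?_) i htK (fun j => ?_) (fun x hx htx => ?_)
  · rw [← hD, Cit.mem_cj, hti]
    have h1 : t * (t * x * t) * t = x := by
      calc t * (t * x * t) * t = (t * t) * x * (t * t) := by group
        _ = x := by rw [ht]; group
    rw [h1]; exact hx
  · exact (le_sSup (Set.mem_range_self j)).trans le_sup_left
  · exact (le_sup_right : D ⊓ Subgroup.centralizer {t} ≤ _)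
      (Subgroup.mem_inf.2 ⟨hx, Subgroup.mem_centralizer_singleton_iff.2 htx.symm⟩)

end Chart

end Cfsg.Agent.Cit.TypeDet.DFourGen
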