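import Cfsg.Agent.Cit.TypeDet.Classes

/-!
# Frames with four members, combinatorial part

* `Data.conn_pair_of_rel` : `i ~ j` in some `F - k` implies `Conn {i, j}`;
* `Data.eq_or_conn_of_app` : the relation `≈` is 'equal or `Conn {i, j}`';
* `Data.four` : a connected frame with four members: every `F - k` is of kind `KL`.
-/

set_option autoImplicit false

namespace Cfsg.Agent.Cit.TypeDet

open Finset Classical

namespace Data

variable {F : Type*} [Fintype F] {G : Type*} [Group G] {S : Data F G}

theorem card_erase_univ (h4 : Fintype.card F = 4) (k : F) : ((univ : Finset F).erase k).card = 3 := by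
  rw [card_erase_of_mem (mem_univ _), card_univ, h4]

/-- a set of kinds with at most three points: one point, two points or `KL` -/
theorem Kinds.of_card_le {B : Finset F} (h : S.Kinds B) (hB : B.card ≤ 3) :
    B.card = 1 ∨ B.card = 2 ∨ S.KL B := by
  rcases h with h | h | h | h | h | ⟨p, h⟩ | ⟨p, h⟩ | h | h
  · exact Or.inl h
  · exact Or.inr (Or.inl h)
  · exact Or.inr (Or.inr h)
  · have := h.1; omega
  · have := h.1; omega
  · have := h.1; omega
  · have := h.1; omega
  · have := h.1; omega
  · have := h.1; omega

theorem conn_pair_of_rel (h4 : Fintype.card F = 4)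
    (hk : ∀ k i : F, i ≠ k → S.Kinds (S.blk (univ.erase k) i)) {i j k : F} (hij : i ≠ j)
    (h : S.rel (univ.erase k) i j) : S.Conn {i, j} := by
  have hik : i ≠ k := (mem_erase.mp (S.memL h)).1
  set B := S.blk (univ.erase k) i with hB
  have hi : i ∈ B := S.mem_blk.mpr (S.refl (erase_ne_univ _) (mem_er hik))
  have hj : j ∈ B := S.mem_blk.mpr h
  have hB3 : B.card ≤ 3 := by
    rw [← card_erase_univ h4 k]
    exact card_le_card (S.blk_subset _ _)
  have hsub : ({i, j} : Finset F) ⊆ B := by
    intro x hx
    rcases mem_insert.mp hx with rfl | hx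
    · exact hi
    · rw [mem_singleton.mp hx]; exact hj
  have h2 : ({i, j} : Finset F).card = 2 := card_pair hij
  rcases (hk k i hik).of_card_le hB3 with h1 | h1 | h1
  · have := card_le_card hsub
    rw [h2] at this
    rw [← hB] at h1
    omega
  · rw [← hB] at h1
    have h3 : ({i, j} : Finset F) = B := eq_of_subset_of_card_le hsub (by rw [h2, h1])
    rw [h3, hB]
    exact S.conn_blk (erase_ne_univ _) _
  · exact h1.2.2 i hi j hj hij

theorem exists_ne_of_three (h4 : Fintype.card F = 4) (i j l : F) : ∃ k, k ≠ i ∧ k ≠ j ∧ k ≠ l :=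
  exists_ne_three (by omega) i j l

theorem rel_of_conn_pair {i j k : F} (hik : i ≠ k) (hjk : j ≠ k) (h : S.Conn {i, j}) :
    S.rel (univ.erase k) i j := by
  refine S.mono ?_ (erase_ne_univ _) (h i (by simp) j (by simp))
  intro x hx
  rcases mem_insert.mp hx with rfl | hx
  · exact mem_er hik
  · rw [mem_singleton.mp hx]; exact mem_er hjk

theorem eq_or_conn_of_app (h4 : Fintype.card F = 4)
    (hk : ∀ k i : F, i ≠ k → S.Kinds (S.blk (univ.erase k) i)) {i j : F} (h : S.app i j) :
    i = j ∨ S.Conn {i, j} := by
  induction h with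
  | rel i j h =>
    obtain ⟨k, hk'⟩ := h
    by_cases hij : i = j
    · exact Or.inl hij
    · exact Or.inr (conn_pair_of_rel h4 hk hij hk')
  | refl i => exact Or.inl rfl
  | symm i j _ ih =>
    rcases ih with h | h
    · exact Or.inl h.symm
    · refine Or.inr ?_
      rwa [pair_comm]
  | trans i j l _ _ ih1 ih2 =>
    rcases ih1 with h | h
    · rwa [h]
    rcases ih2 with h' | h'
    · rw [← h']; exact Or.inr h
    by_cases hil : i = l
    · exact Or.inl hil
    obtain ⟨k, k1, k2, k3⟩ := exists_ne_of_three h4 i j l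
    exact Or.inr (conn_pair_of_rel h4 hk hil
      (S.trans (rel_of_conn_pair k1.symm k2.symm h) (rel_of_conn_pair k2.symm k3.symm h')))

/-- **connected frames with four members** -/
theorem four (h4 : Fintype.card F = 4)
    (hk : ∀ k i : F, i ≠ k → S.Kinds (S.blk (univ.erase k) i)) (hconn : ∀ i j, S.app i j) (k : F) :
    S.KL (univ.erase k) := by
  obtain ⟨i, hi, -, -⟩ := exists_ne_of_three h4 k k k
  have h1 : S.blk (univ.erase k) i = univ.erase k := by
    ext x
    rw [S.mem_blk]
    refine ⟨fun hx => S.memR hx, fun hx => ?_⟩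
    have hxk : x ≠ k := (mem_erase.mp hx).1
    rcases eq_or_conn_of_app h4 hk (hconn i x) with h | h
    · rw [← h]; exact S.refl (erase_ne_univ _) (mem_er hi)
    · exact rel_of_conn_pair hi hxk h
  have h2 := hk k i hi
  rw [h1] at h2
  rcases h2.of_card_le (by rw [card_erase_univ h4]) with h | h | h
  · rw [card_erase_univ h4] at h; omega
  · rw [card_erase_univ h4] at h; omega
  · exact h

/-- classes of `≈` are connected sets or points, in the form: two points of a class are `Conn` -/
theorem conn_pair_of_app (h4 : Fintype.card F = 4)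
    (hk : ∀ k i : F, i ≠ k → S.Kinds (S.blk (univ.erase k) i)) {i j : F} (hij : i ≠ j)
    (h : S.app i j) : S.Conn {i, j} :=
  (eq_or_conn_of_app h4 hk h).resolve_left hij

end Data

end Cfsg.Agent.Cit.TypeDet
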