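import Cfsg.Agent.Cit.TypeDet.FramesOf
import Cfsg.Agent.Cit.TypeDet.Four

/-!
# Frames with four members, the reducible case

Two ways to exclude classes of `≈`:

* `cm_of_conG` : if the commuting graph of `TT F L` is connected, then `TT F L` commutes with `TT F M` for all
  `M ∈ F` outside the class of `L`;
* `false_of_le` : if all `TT F L`, `L ∈ F`, are contained in a proper subgroup of the form `C(c)`, `c ≠ 1`, then the
  commuting graph of `Om` is not connected.

`false_of_four` : frames with four members, not `≈`-connected, are impossible as soon as every class `{L, L'}`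
with two members satisfies: `z_L z_L'` centralises `TT F L`, or the commuting graph of `TT F L` is connected.
-/

set_option autoImplicit false
set_option linter.unusedSectionVars false
set_option linter.unusedVariables false

namespace Cfsg.Agent.Cit.TypeDet.Red

open Subgroup Relation

variable {G : Type*} [Group G] {Om F : Set (Subgroup G)} {Fs : Set (Set (Subgroup G))}

/-- the commuting graph on `T` is connected -/
def ConG (T : Set (Subgroup G)) : Prop :=
  ∀ C : Set (Subgroup G), C ⊆ T → C.Nonempty → (∀ X ∈ C, ∀ Y ∈ T, cm X Y → Y ∈ C) → C = T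

theorem ConG.image {T : Set (Subgroup G)} (h : ConG T) (g : G) : ConG (cj g '' T) := by
  intro C hC hne hcl
  have h1 : cj g⁻¹ '' C = T := by
    refine h _ ?_ (hne.image _) ?_
    · rintro _ ⟨X, hX, rfl⟩
      obtain ⟨Y, hY, rfl⟩ := hC hX
      rw [cj_inv_cj]; exact hY
    · rintro _ ⟨X, hX, rfl⟩ Y hY hXY
      refine ⟨cj g Y, hcl X hX _ ⟨Y, hY, rfl⟩ ?_, cj_inv_cj g Y⟩
      rw [← cm_cj (g := g⁻¹), cj_inv_cj]
      exact hXY
  rw [← h1, Set.image_image]
  simp only [cj_cj_inv, Set.image_id']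

namespace Frm

variable (h : Frm Om F)

include h

/-- every member of `Om` commuting with a member of `F` is in some `TT` -/
theorem exists_TT {K X : Subgroup G} (hK : K ∈ F) (hX : X ∈ Om) (hXK : cm X K) :
    ∃ L ∈ F, X ∈ TT Om F L := by
  by_cases hall : ∀ P ∈ F \ cls Om F K, cm X P
  · exact ⟨K, hK, hX, hall⟩
  push Not at hall
  obtain ⟨P, ⟨hP, hPK⟩, hn⟩ := hall
  have hnapp : ¬ app Om F P K := fun h' => hPK ⟨hP, app_symm h'⟩
  have hPKne : P ≠ K := fun e => hnapp (e ▸ app_refl P)
  refine ⟨P, hP, ?_⟩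
  rw [h.mem_TT_iff hP hK hnapp]
  have hXC : X ∈ Cen Om {K} := mem_Cen_single.mpr ⟨hX, hXK⟩
  exact ⟨hXC, ReflTransGen.single ⟨h.mem_Cen hP hK hPKne, hXC, fun h' => hn (cm_symm h')⟩⟩

/-- chains from `L` to an element of `TT F L` stay in `TT F L` -/
theorem chn_TT_of_mem {L Z : Subgroup G} (hL : L ∈ F) (hZ : Z ∈ TT Om F L) {N : Subgroup G}
    (hN : N ∈ F) (hnapp : ¬ app Om F L N) : chn (TT Om F L) L Z := by
  have h1 := ((h.mem_TT_iff hL hN hnapp).mp hZ).2
  have key : ∀ X, chn (Cen Om {N}) L X → chn (TT Om F L) L X := by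
    intro X hX
    induction hX with
    | refl => exact ReflTransGen.refl
    | @tail X Z hX1 hX2 ih =>
      refine ih.tail ⟨?_, ?_, hX2.2.2⟩
      · exact (h.mem_TT_iff hL hN hnapp).mpr ⟨hX2.1, hX1⟩
      · exact (h.mem_TT_iff hL hN hnapp).mpr ⟨hX2.2.1, hX1.tail hX2⟩
  exact key Z h1

/-- `TT`'s of different classes are disjoint -/
theorem not_mem_TT {L M X : Subgroup G} (hLM : ¬ app Om F L M) (hX : X ∈ TT Om F L)
    (hX' : X ∈ TT Om F M) : False := by
  obtain ⟨P, hP, hPn⟩ := h.max X hX.1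
  by_cases hPL : P ∈ cls Om F L
  · exact hPn (hX'.2 P ⟨hP, fun h' => hLM (app_trans hPL.2 (app_symm h'.2))⟩)
  · exact hPn (hX.2 P ⟨hP, hPL⟩)

end Frm

variable [Finite G]

/-- **connected commuting graph** of `TT F L` -/
theorem cm_of_conG (h : Frames Om Fs) (hF : F ∈ Fs) {L M : Subgroup G} (hL : L ∈ F) (hM : M ∈ F)
    (hLM : ¬ app Om F L M) (hcon : ConG (TT Om F L)) :
    ∀ X ∈ TT Om F L, ∀ Y ∈ TT Om F M, cm X Y := by
  have hf := h.frm F hF
  have hML : ¬ app Om F M L := fun h' => hLM (app_symm h')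
  have hC : {J | J ∈ TT Om F L ∧ ∀ Y ∈ TT Om F M, cm J Y} = TT Om F L := by
    apply hcon
    · exact fun J hJ => hJ.1
    · refine ⟨L, hf.mem_TT_self hL, fun Y hY => cm_symm (hY.2 L ⟨hL, fun h' => hML h'.2⟩)⟩
    · rintro J ⟨hJ, hJY⟩ I hI hJI
      refine ⟨hI, ?_⟩
      -- the frame through `J` and `F - cls L`
      obtain ⟨F', hF', hsub⟩ := h.ex ({J} ∪ (F \ cls Om F L)) (by
        rintro P (hP | hP)
        · rw [hP]; exact hJ.1
        · exact hf.sub hP.1) (by
        rintro P (hP | hP) Q (hQ | hQ) hPQ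
        · exact absurd (hP.trans hQ.symm) hPQ
        · rw [hP]; exact hJ.2 Q hQ
        · rw [hQ]; exact cm_symm (hJ.2 P hP)
        · exact hf.comm P hP.1 Q hQ.1 hPQ)
      have hf' := h.frm F' hF'
      have hJF' : J ∈ F' := hsub (Or.inl rfl)
      have hsub' : ∀ {P : Subgroup G}, P ∈ F → P ∉ cls Om F L → P ∈ F' := fun hP hPL =>
        hsub (Or.inr ⟨hP, hPL⟩)
      have hJne : ∀ {P : Subgroup G}, P ∈ F → P ∉ cls Om F L → P ≠ J := by
        intro P hP hPL e
        have h1 := hJ.2 P ⟨hP, hPL⟩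
        rw [← e] at h1
        exact hf.not_cm_self hP h1
      have hMcL : M ∉ cls Om F L := fun h' => hLM h'.2
      have hMF' := hsub' hM hMcL
      have hMcls : ∀ P ∈ cls Om F M, P ∉ cls Om F L := fun P hP hPL =>
        hML (app_trans hP.2 (app_symm hPL.2))
      have hTJ : TT Om F M ⊆ Cen Om {J} := fun Z hZ =>
        mem_Cen_single.mpr ⟨hZ.1, cm_symm (hJY Z hZ)⟩
      have hc1 : cls Om F M ⊆ cls Om F' M := by
        intro P hP
        refine ⟨hsub' hP.1 (hMcls P hP), ?_⟩
        exact hf'.app_of_chn hMF' (hsub' hP.1 (hMcls P hP)) hJF' (hJne hM hMcL)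
          (hJne hP.1 (hMcls P hP)) (chn_mono hTJ (hf.chn_TT hM hP.2 hL hML))
      obtain ⟨e1, e2⟩ := card_cls h hF hF' hM hMF'
      have hc2 : cls Om F M = cls Om F' M :=
        Set.eq_of_subset_of_ncard_le hc1 e1.le (Set.toFinite _)
      have hJapp : ¬ app Om F' M J := by
        intro h'
        have h1 : J ∈ cls Om F' M := ⟨hJF', h'⟩
        rw [← hc2] at h1
        exact hJne h1.1 (hMcls J h1) rfl
      have ht1 : TT Om F M ⊆ TT Om F' M := by
        intro Z hZ
        rw [hf'.mem_TT_iff hMF' hJF' hJapp]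
        exact ⟨hTJ hZ, chn_mono hTJ (hf.chn_TT_of_mem hM hZ hL hML)⟩
      have ht2 : TT Om F M = TT Om F' M := Set.eq_of_subset_of_ncard_le ht1 e2.le (Set.toFinite _)
      intro Y hY
      by_contra hn
      have hY' := hY
      rw [ht2, hf'.mem_TT_iff hMF' hJF' hJapp] at hY'
      have hIC : I ∈ Cen Om {J} := mem_Cen_single.mpr ⟨hI.1, cm_symm hJI⟩
      have hI' : I ∈ TT Om F' M := by
        rw [hf'.mem_TT_iff hMF' hJF' hJapp]
        exact ⟨hIC, hY'.2.tail ⟨hY'.1, hIC, fun h' => hn (cm_symm h')⟩⟩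
      rw [← ht2] at hI'
      exact hf.not_mem_TT hLM hI hI'
  intro X hX
  rw [← hC] at hX
  exact hX.2

/-- **a subgroup containing all `TT`'s** contains all members of `Om` -/
theorem le_of_TT_le (h : Hyp Om) (S : Sylow 2 G) (hf : Frm Om (OmS Om (S : Subgroup G)))
    (hconn : ∀ C : Set (Subgroup G), C ⊆ Om → C.Nonempty →
      (∀ K ∈ C, ∀ L ∈ Om, cm K L → L ∈ C) → C = Om)
    (hne : (OmS Om (S : Subgroup G)).Nonempty) {X : Subgroup G}
    (hX : ∀ L ∈ OmS Om (S : Subgroup G), ∀ Z ∈ TT Om (OmS Om (S : Subgroup G)) L, Z ≤ X) :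
    ∀ K ∈ Om, K ≤ X := by
  have hFX : ∀ K ∈ OmS Om (S : Subgroup G), K ≤ X := fun K hK => hX K hK K (hf.mem_TT_self hK)
  have hDX : DD Om (S : Subgroup G) ≤ X := by
    rw [DD_le_iff]
    exact fun K hK => inf_le_left.trans (hFX K hK)
  obtain ⟨T, hT, hDT⟩ := exists_syl_ge (S.isPGroup'.to_le (DD_le (Om := Om))) hDX
  have hOT : OmS Om T = OmS Om (S : Subgroup G) := h.OmS_eq S hT.2.1 hDT
  have hC : {J | J ∈ Om ∧ J ≤ X} = Om := by
    apply hconn
    · exact fun J hJ => hJ.1
    · obtain ⟨K, hK⟩ := hne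
      exact ⟨K, hK.1, hFX K hK⟩
    · rintro J ⟨hJ, hJX⟩ I hI hJI
      refine ⟨hI, ?_⟩
      -- a conjugate of `J` is in the frame
      obtain ⟨Q, hQ⟩ := Hyp.exists_syl J
      obtain ⟨T', hT', hQT'⟩ := exists_syl_ge hQ.2.1 (hQ.1.trans hJX)
      obtain ⟨x, hx, hxT⟩ := hT'.exists_conj hT
      have h1 : cj x J ∈ OmS Om T := by
        refine mem_OmS_of_le (h.conj J hJ x) (hQ.cj x) ?_
        rw [← hxT]
        exact cj_mono x hQT'
      rw [hOT] at h1
      obtain ⟨L, hL, hIL⟩ := hf.exists_TT h1 (h.conj I hI x) (cm_symm (cm_cj.mpr hJI))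
      have h2 := hX L hL _ hIL
      have h3 : cj x⁻¹ (cj x I) ≤ cj x⁻¹ X := cj_mono _ h2
      rw [cj_inv_cj, mem_normalizer_iff_cj.mp (le_normalizer (inv_mem hx))] at h3
      exact h3
  intro K hK
  rw [← hC] at hK
  exact hK.2

/-- `⟨Om⟩ = G` -/
theorem sSup_eq_top [IsSimpleGroup G] (hconj : ∀ K ∈ Om, ∀ g, cj g K ∈ Om) {K : Subgroup G}
    (hK : K ∈ Om) (hna : ¬ cm K K) : sSup Om = ⊤ := by
  have hn : (sSup Om).Normal := by
    refine ⟨fun x hx g => ?_⟩
    have h1 : cj g (sSup Om) ≤ sSup Om := by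
      rw [cj_def, Subgroup.map_le_iff_le_comap]
      refine sSup_le fun P hP => ?_
      rw [← Subgroup.map_le_iff_le_comap]
      exact le_sSup (hconj P hP g)
    exact h1 (conj_mem_cj hx)
  rcases hn.eq_bot_or_eq_top with h1 | h1
  · exfalso
    have h2 : K ≤ ⊥ := h1 ▸ le_sSup hK
    apply hna
    intro x hx y hy
    have h3 := h2 hx
    rw [Subgroup.mem_bot] at h3
    rw [h3, one_mul, mul_one]
  · exact h1

/-- an element `c ≠ 1` centralising all `TT`'s is impossible -/
theorem false_of_cen [IsSimpleGroup G] (h : Hyp Om) (S : Sylow 2 G)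
    (hf : Frm Om (OmS Om (S : Subgroup G)))
    (hconn : ∀ C : Set (Subgroup G), C ⊆ Om → C.Nonempty →
      (∀ K ∈ C, ∀ L ∈ Om, cm K L → L ∈ C) → C = Om)
    (hne : (OmS Om (S : Subgroup G)).Nonempty) {c : G} (hc : c ≠ 1)
    (hX : ∀ L ∈ OmS Om (S : Subgroup G), ∀ Z ∈ TT Om (OmS Om (S : Subgroup G)) L,
      ∀ x ∈ Z, x * c = c * x) : False := by
  have h1 := le_of_TT_le h S hf hconn hne (X := centralizer {c}) (fun L hL Z hZ x hx =>
    mem_centralizer_singleton_iff.mpr (hX L hL Z hZ x hx))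
  obtain ⟨K, hK⟩ := hne
  have h2 := sSup_eq_top h.conj hK.1 (hf.not_cm_self hK)
  have h3 : (⊤ : Subgroup G) ≤ centralizer {c} := by
    rw [← h2]; exact sSup_le h1
  have h4 : c ∈ center G := by
    rw [mem_center_iff]
    intro g
    exact mem_centralizer_singleton_iff.mp (h3 (mem_top g))
  rcases (inferInstance : (center G).Normal).eq_bot_or_eq_top with h5 | h5
  · rw [h5, mem_bot] at h4
    exact hc h4
  · apply hf.not_cm_self hK
    intro x hx y hy
    have : x ∈ center G := by rw [h5]; exact mem_top x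
    exact (mem_center_iff.mp this y).symm

/-- the alternatives for a class `{L, L'}` with two members -/
def Alt (Om F : Set (Subgroup G)) (L L' : Subgroup G) : Prop :=
  (∀ Z ∈ TT Om F L, ∀ x ∈ Z, x * (zz L * zz L') = zz L * zz L' * x) ∨ ConG (TT Om F L)

/-- **reducible frames with four members** -/
theorem false_of_four [IsSimpleGroup G] (h : Hyp Om) (hfr : Frames Om (sylFrames Om)) (S : Sylow 2 G)
    (hconn : ∀ C : Set (Subgroup G), C ⊆ Om → C.Nonempty →
      (∀ K ∈ C, ∀ L ∈ Om, cm K L → L ∈ C) → C = Om)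
    (h4 : (OmS Om (S : Subgroup G)).ncard = 4)
    (hzz : ∀ K ∈ OmS Om (S : Subgroup G), ∀ L ∈ OmS Om (S : Subgroup G), zz K = zz L → K = L)
    (halt : ∀ L L' : Subgroup G, L ≠ L' → cls Om (OmS Om (S : Subgroup G)) L = {L, L'} →
      Alt Om (OmS Om (S : Subgroup G)) L L')
    (hred : ∃ L ∈ OmS Om (S : Subgroup G), ∃ M ∈ OmS Om (S : Subgroup G),
      ¬ app Om (OmS Om (S : Subgroup G)) L M) : False := by
  set F := OmS Om (S : Subgroup G) with hFdef
  have hF : F ∈ sylFrames Om := ⟨S, rfl⟩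
  have hf := hfr.frm F hF
  obtain ⟨L, hL, M, hM, hLM⟩ := id hred
  have hML : ¬ app Om F M L := fun h' => hLM (app_symm h')
  have hsize : ∀ K ∈ F, (cls Om F K).ncard = (cls Om F L).ncard := fun K hK =>
    (card_cls hfr hF hF hL hK).1
  have hLc := self_mem_cls (Om := Om) hL
  -- the class of `L` has at most two members
  have hdisj : Disjoint (cls Om F L) (cls Om F M) := by
    rw [Set.disjoint_left]
    intro P hP hP'
    exact hLM (app_trans hP.2 (app_symm hP'.2))
  have hle2 : (cls Om F L).ncard ≤ 2 := by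
    have h1 : (cls Om F L ∪ cls Om F M).ncard ≤ F.ncard := by
      refine Set.ncard_le_ncard ?_ (Set.toFinite _)
      rintro P (hP | hP)
      · exact hP.1
      · exact hP.1
    rw [Set.ncard_union_eq hdisj (Set.toFinite _) (Set.toFinite _), hsize M hM, h4] at h1
    omega
  have hpos : 0 < (cls Om F L).ncard := (Set.ncard_pos (Set.toFinite _)).mpr ⟨L, hLc⟩
  rcases (by omega : (cls Om F L).ncard = 1 ∨ (cls Om F L).ncard = 2) with h1 | h2
  · -- four classes
    have hsing : ∀ K ∈ F, ∀ P, app Om F K P → P ∈ F → P = K := by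
      intro K hK P hKP hP
      have h2 := hsize K hK
      rw [h1, Set.ncard_eq_one] at h2
      obtain ⟨a, ha⟩ := h2
      have h3 : K ∈ ({a} : Set (Subgroup G)) := ha ▸ self_mem_cls hK
      have h4 : P ∈ ({a} : Set (Subgroup G)) := ha ▸ (⟨hP, hKP⟩ : P ∈ cls Om F K)
      rw [h3, h4]
    refine false_of_red hfr hF hconn ?_ hred
    intro A hA B hB hAB X hX Y hY
    -- a third class
    obtain ⟨N, hN, hNA⟩ : ∃ N ∈ F, N ∉ ({A, B} : Set (Subgroup G)) := by
      by_contra hcon
      push Not at hcon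
      have h5 := Set.ncard_le_ncard (show F ⊆ {A, B} from hcon) (Set.toFinite _)
      have h6 := Set.ncard_insert_le A ({B} : Set (Subgroup G))
      rw [Set.ncard_singleton] at h6
      omega
    simp only [Set.mem_insert_iff, Set.mem_singleton_iff, not_or] at hNA
    refine hf.cm_of_three hA hB hN hAB ?_ ?_ hX hY
    · exact fun h' => hNA.1 (hsing A hA N h' hN)
    · exact fun h' => hNA.2 (hsing B hB N h' hN)
  · -- two classes
    have htwo : ∀ K ∈ F, app Om F L K ∨ app Om F M K := by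
      by_contra hcon
      push Not at hcon
      obtain ⟨K, hK, hKL, hKM⟩ := hcon
      have h1 : (cls Om F L ∪ cls Om F M ∪ {K}).ncard ≤ F.ncard := by
        refine Set.ncard_le_ncard ?_ (Set.toFinite _)
        rintro P ((hP | hP) | hP)
        · exact hP.1
        · exact hP.1
        · rw [hP]; exact hK
      rw [Set.ncard_union_eq ?_ (Set.toFinite _) (Set.toFinite _),
        Set.ncard_union_eq hdisj (Set.toFinite _) (Set.toFinite _), hsize M hM, h4,
        Set.ncard_singleton] at h1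
      · omega
      · rw [Set.disjoint_singleton_right]
        rintro (hP | hP)
        · exact hKL hP.2
        · exact hKM hP.2
    have hpair : ∀ K ∈ F, ∃ K', K' ≠ K ∧ cls Om F K = {K, K'} := by
      intro K hK
      have h5 := hsize K hK
      rw [h2, Set.ncard_eq_two] at h5
      obtain ⟨a, b, hab, he⟩ := h5
      have h6 : K ∈ ({a, b} : Set (Subgroup G)) := he ▸ self_mem_cls hK
      rcases h6 with rfl | h6
      · exact ⟨b, hab.symm, he⟩
      · rw [Set.mem_singleton_iff] at h6
        subst h6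
        exact ⟨a, hab, by rw [he, Set.pair_comm]⟩
    obtain ⟨L', hLL', hcL⟩ := hpair L hL
    have hL' : L' ∈ F := by
      have : L' ∈ cls Om F L := by rw [hcL]; exact Or.inr rfl
      exact this.1
    rcases halt L L' hLL'.symm hcL with hA | hA
    · -- the central involution
      have hne : zz L * zz L' ≠ 1 := by
        intro e
        apply hLL'
        refine (hzz L hL L' hL' ?_).symm
        have h7 := h.zz_mul hL'.1
        exact mul_right_cancel (e.trans h7.symm)
      refine false_of_cen h S hf hconn ⟨L, hL⟩ hne ?_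
      intro K hK Z hZ x hx
      rcases htwo K hK with hk | hk
      · rw [TT_eq hk] at hZ
        exact hA Z hZ x hx
      · rw [TT_eq hk] at hZ
        have c1 : cm Z L := hZ.2 L ⟨hL, fun h' => hML h'.2⟩
        have c2 : cm Z L' := by
          refine hZ.2 L' ⟨hL', fun h' => hML ?_⟩
          have h8 : app Om F L L' := by
            have : L' ∈ cls Om F L := by rw [hcL]; exact Or.inr rfl
            exact this.2
          exact app_trans h'.2 (app_symm h8)
        have e1 := c1 x hx _ (h.zz_mem hL.1)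
        have e2 := c2 x hx _ (h.zz_mem hL'.1)
        rw [← mul_assoc, e1, mul_assoc, e2, mul_assoc]
    · -- connected commuting graph
      refine false_of_red hfr hF hconn ?_ hred
      intro A hA' B hB hAB X hX Y hY
      have hcon : ConG (TT Om F A) := by
        obtain ⟨g, hg1, hg2⟩ := hfr.trans F hF F hF L hL A hA'
        have h9 := TT_cj (F := F) h.conj g L
        rw [hg1, hg2] at h9
        rw [h9]
        exact hA.image g
      exact cm_of_conG hfr hF hA' hB hAB hcon X hX Y hY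

end Cfsg.Agent.Cit.TypeDet.Red
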