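import Cfsg.Agent.Cit.TypeDet.DFourBar
import Cfsg.Agent.Cit.TypeDet.BarConj

/-!
# The frame is connected, modulo cores

`connected_bar` : a frame with at least five members is `≈`-connected (`G` simple, the commuting graph connected),
from the local input modulo cores `LocB`, the condition (C) at `z_K z_L` and `KindFact`, `GenFact`, `AutFact`, `ZFact`.
-/

set_option autoImplicit false
set_option linter.unusedSectionVars false
set_option linter.unusedVariables false

namespace Cfsg.Agent.Cit.TypeDet.AppBar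

open Subgroup Finset Classical Relation Cfsg Cfsg.Agent.Cit.UseT Cfsg.Agent.Cit.PieceLift Cfsg.Agent.Cit.PieceG
open Cfsg.Agent.Cit.TypeDet Cfsg.Agent.Cit.TypeDet.LocalBar Cfsg.Agent.Cit.TypeDet.DFourBar Cfsg.Agent.Nodes.Chart

universe u

variable {G : Type u} [Group G] [Finite G] {Om : Set (Subgroup G)}
  {ι : Type u} [Fintype ι] {K : ι → Subgroup G}

/-- the piece of a class with at least three members is typed -/
theorem typed (hKF : KindFact.{u}) (hyp : Hyp Om) (h : LocB Om) (f : IFrm Om K) {i k : ι} (hik : ¬ f.data.app i k)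
    (h3 : 3 ≤ (f.data.cla i).card) : ∃ τ, f.data.KT τ (f.data.cla i) ∧
      TyPc (fb Om (centralizer {zz (K k)})) τ (PT Om (centralizer {zz (K k)}) (K i)) := by
  have b := blkc h f hik
  have C := h.cor (K k) (f.mem k)
  set H := centralizer {zz (K k)} with hH
  have hPc : Cit.Piece (fb Om H) (PT Om H (K i)) :=
    C.pcs.piece (fb_hyp hyp H) (bar_mem (f.mem i) (b.le i))
  obtain ⟨x, hx, y, hy, z, hz, hxy, hxz, hyz⟩ := two_lt_card.mp (by omega : 2 < (f.data.cla i).card)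
  have hm : ∀ k, bar H (K k) ∈ fb Om H := fun k => bar_mem (f.mem k) (b.le k)
  have hcm : ∀ k l, k ≠ l → cm (bar H (K k)) (bar H (K l)) := fun k l hkl =>
    (cm_bar_iff C h.core (f.mem k) (f.mem l) (b.le k) (b.le l)).2 (f.comm k l hkl)
  obtain ⟨τ, hτ⟩ := typed_of_three (fb_hyp hyp H) hPc (hm x) (hm y) (hm z) ((b.iff x).1 hx) ((b.iff y).1 hy)
    ((b.iff z).1 hz) (hcm x y hxy) (hcm x z hxz) (hcm y z hyz)
  refine ⟨τ, ?_, hτ⟩
  exact b.kt (hKF (HQ H) (fb Om H) (fb_hyp hyp H) (PT Om H (K i)) τ hτ ↥(f.data.cla i)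
    (fun i => bar H (K i.1)) b.bar_mem_OmIn b.bar_comm b.bar_max)

/-- (GEN) : the classes commute if one of the pieces is not of type `D 4` -/
theorem comm_of_gen (hGF : GenFact.{u}) (hyp : Hyp Om) (h : LocB Om) (f : IFrm Om K) {i k : ι}
    (hik : ¬ f.data.app i k) (h3 : 3 ≤ (f.data.cla i).card) {τ : Nodes.Chart.Ty} (hτ4 : τ ≠ .D 4)
    (hτ : TyPc (fb Om (centralizer {zz (K k)})) τ (PT Om (centralizer {zz (K k)}) (K i))) {X Y : Subgroup G}
    (hX : X ∈ Red.TT Om (Set.range K) (K i)) (hY : Y ∈ Red.TT Om (Set.range K) (K k)) : cm X Y := by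
  have b := blkc h f hik
  have C := h.cor (K k) (f.mem k)
  have hn : ¬ Red.app Om (Set.range K) (K i) (K k) := fun h' => hik ((f.app_iff i k).2 h')
  have hmm : ∀ {X : Subgroup G}, X ∈ Red.TT Om (Set.range K) (K i) ↔ X ∈ OmIn Om (centralizer {zz (K k)}) ∧
      bar (centralizer {zz (K k)}) X ≤ PT Om (centralizer {zz (K k)}) (K i) :=
    DFourBar.mem_TT_iff hyp h f.toFrm ⟨i, rfl⟩ ⟨k, rfl⟩ hn
  set H := centralizer {zz (K k)} with hH
  have h1 := hGF (HQ H) (fb Om H) (fb_hyp hyp H) (PT Om H (K i)) τ hτ hτ4 ↥(f.data.cla i)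
    (fun i => bar H (K i.1)) b.bar_mem_OmIn b.bar_comm b.bar_max (by rw [Fintype.card_coe]; exact h3)
  have h2 : PT Om H (K i) ≤ bar H (centralizer (Y : Set G)) := by
    refine h1.trans (sSup_le ?_)
    rintro L' ⟨hL', ⟨c, hc⟩, hcm⟩
    obtain ⟨L, hL, rfl⟩ := exists_bar' hL'.1
    have hLT : L ∈ Red.TT Om (Set.range K) (K i) := hmm.2 ⟨hL, hL'.2⟩
    refine bar_mono ?_
    rw [← cm_iff_le_centralizer]
    have hcm' : cm L (K c) := (cm_bar_iff C h.core hL.1 (f.mem c) hL.2 (b.le c)).1 hcm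
    exact f.toFrm.cm_of_gen ⟨i, rfl⟩ ⟨k, rfl⟩ hn ((f.mem_cla_iff i c).mp hc) hLT hcm' hY
  have h3 : DL Om H (PT Om H (K i)) ≤ centralizer (Y : Set G) := DL_le_of_cover C h2
  have hX1 := hmm.1 hX
  exact cm_of_cm_DL (lem_of h) C hX1.1.1 hX1.1.2 hX1.2 hY.1 (cm_iff_le_centralizer.2 h3)

/-- the class of a conjugate frame -/
theorem cla_cjf (hyp : Hyp Om) (f : IFrm Om K) (g : G) (i : ι) :
    (f.cjf hyp.conj g).data.cla i = f.data.cla i := by
  have hr : Set.range (fun i => Cit.cj g (K i)) = Cit.cj g '' Set.range K := by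
    ext X
    constructor
    · rintro ⟨i, rfl⟩; exact ⟨K i, ⟨i, rfl⟩, rfl⟩
    · rintro ⟨_, ⟨i, rfl⟩, rfl⟩; exact ⟨i, rfl⟩
  ext x
  rw [(f.cjf hyp.conj g).mem_cla_iff, f.mem_cla_iff, hr, Red.cls_cj hyp.conj]
  constructor
  · rintro ⟨Y, hY, e⟩
    rwa [← cj_inj.mp e]
  · intro hY
    exact ⟨_, hY, rfl⟩

/-- **a frame with at least five members is connected** -/
theorem connected_bar [IsSimpleGroup G] (hKF : KindFact.{u}) (hGF : GenFact.{u})
    (hAF : AutFact.{u}) (hZF : ZFact.{u}) (hyp : Hyp Om) (h : LocB Om) (c2 : Cor2 Om)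
    (hone : ∀ K ∈ Om, ∀ L ∈ Om, ∃ g, Cit.cj g K = L)
    (hconn : ∀ C : Set (Subgroup G), C ⊆ Om → C.Nonempty →
      (∀ K ∈ C, ∀ L ∈ Om, cm K L → L ∈ C) → C = Om)
    (S : Sylow 2 G) (f : IFrm Om K) (hr : Set.range K = OmS Om (S : Subgroup G))
    (h5 : 5 ≤ Fintype.card ι) (i j : ι) : f.data.app i j := by
  by_contra hij
  have hfr := LocB.frames hyp h hone
  have hF : Set.range K ∈ sylFrames Om := ⟨S, hr⟩
  have hf := hfr.frm _ hF
  refine Red.false_of_red hfr hF hconn ?_ ⟨K i, ⟨i, rfl⟩, K j, ⟨j, rfl⟩, fun h' => hij ((f.app_iff i j).mpr h')⟩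
  -- the classes commute
  rintro _ ⟨a, rfl⟩ _ ⟨b, rfl⟩ hab X hX Y hY
  by_cases hthird : ∃ c : ι, ¬ Red.app Om (Set.range K) (K a) (K c) ∧
      ¬ Red.app Om (Set.range K) (K b) (K c)
  · obtain ⟨c, h1, h2⟩ := hthird
    exact hf.cm_of_three ⟨a, rfl⟩ ⟨b, rfl⟩ ⟨c, rfl⟩ hab h1 h2 hX hY
  push Not at hthird
  have habI : ¬ f.data.app a b := fun h' => hab ((f.app_iff a b).mp h')
  -- transitivity
  have htr : ∀ k l : ι, ∃ σ : Equiv.Perm ι, f.data.toSys.IsAut σ ∧ σ k = l := by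
    intro k l
    obtain ⟨g, hg1, hg2⟩ := hfr.trans _ hF _ hF (K k) ⟨k, rfl⟩ (K l) ⟨l, rfl⟩
    have h1 : ∀ m, ∃ m', Cit.cj g (K m) = K m' := by
      intro m
      have : Cit.cj g (K m) ∈ Set.range K := by
        have h2 : Cit.cj g (K m) ∈ Cit.cj g '' Set.range K := ⟨K m, ⟨m, rfl⟩, rfl⟩
        rwa [hg1] at h2
      obtain ⟨m', hm'⟩ := this
      exact ⟨m', hm'.symm⟩
    choose s hs using h1
    have hinj : Function.Injective s := by
      intro m m' h2
      have h3 : Cit.cj g (K m) = Cit.cj g (K m') := by rw [hs, hs, h2]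
      exact f.inj (cj_inj.mp h3)
    refine ⟨Equiv.ofBijective s (Finite.injective_iff_bijective.mp hinj), ?_, ?_⟩
    · exact (isAut f.mem f.comm hyp.conj (fun i g => hyp.zz_cj (f.mem i) g) (g := g) hs).rel
    · apply f.inj
      change K (s k) = K l
      rw [← hs, hg2]
  have hcardab : (f.data.cla a).card = (f.data.cla b).card := Sys.card_cla_eq f.data.toSys htr a b
  have hun : (f.data.cla a).card + (f.data.cla b).card = Fintype.card ι := by
    rw [← card_union_of_disjoint, ← card_univ]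
    · congr 1
      ext c
      rw [mem_union, Sys.mem_cla, Sys.mem_cla, f.app_iff, f.app_iff]
      refine ⟨fun _ => mem_univ _, fun _ => ?_⟩
      by_cases h' : Red.app Om (Set.range K) (K a) (K c)
      · exact Or.inl h'
      · exact Or.inr (hthird c h')
    · rw [disjoint_left]
      intro c h1 h2
      rw [Sys.mem_cla] at h1 h2
      exact habI (Sys.app_trans _ h1 (Sys.app_symm _ h2))
  have hs3 : 3 ≤ (f.data.cla a).card := by omega
  obtain ⟨τ, hkt, hτ⟩ := typed hKF hyp h f habI hs3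
  by_cases h4 : τ = .D 4
  · -- two `D₄`-classes
    subst h4
    have k4 : f.data.KD4 (f.data.cla a) := kd4 hKF hyp h f habI hτ
    have hcls4 : ∀ F ∈ sylFrames Om, ∀ L ∈ F, ∀ M ∈ F, ¬ Red.app Om F L M →
        TyPc (fb Om (centralizer {zz M})) (.D 4) (PT Om (centralizer {zz M}) L) := by
      intro F hF' L hL M hM hLM
      obtain ⟨g, hg1, hg2⟩ := hfr.trans _ hF F hF' (K a) ⟨a, rfl⟩ L hL
      obtain ⟨f', hf'⟩ : ∃ f' : IFrm Om (fun i => Cit.cj g (K i)), f' = f.cjf hyp.conj g := ⟨_, rfl⟩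
      have hrr : Set.range (fun i => Cit.cj g (K i)) = F := by
        rw [← hg1]
        ext X
        constructor
        · rintro ⟨i, rfl⟩; exact ⟨K i, ⟨i, rfl⟩, rfl⟩
        · rintro ⟨_, ⟨i, rfl⟩, rfl⟩; exact ⟨i, rfl⟩
      rw [← hrr] at hM
      obtain ⟨m, rfl⟩ := hM
      have hnm : ¬ f'.data.app a m := by
        intro h'
        have := (f'.app_iff a m).1 h'
        apply hLM
        rw [← hrr, ← hg2]
        exact this
      have hc1 : f'.data.cla a = f.data.cla a := cla_cjf hyp f g a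
      have hk' : f'.data.KD4 (f'.data.cla a) := by
        have h1 := k4.map (f.hom_cj hyp g)
        rw [map_refl] at h1
        rw [hc1]
        exact h1
      have hs3' : 3 ≤ (f'.data.cla a).card := by rw [hc1]; exact hs3
      obtain ⟨τ', hkt', hτ'⟩ := typed hKF hyp h f' hnm hs3'
      have e := Data.eq_D4_of_KD4 hk' hkt'
      subst e
      rw [← hg2]
      exact hτ'
    have h8 : ∀ F ∈ sylFrames Om, 5 ≤ F.ncard := by
      intro F hF'
      obtain ⟨S', rfl⟩ := hF'
      obtain ⟨g, hg⟩ := Cit.exists_cj_sylow S S'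
      rw [← hg, ncard_OmS_cj hyp.conj, ← hr, ← Set.image_univ,
        Set.ncard_image_of_injective _ f.inj, Set.ncard_univ, Nat.card_eq_fintype_card]
      exact h5
    have htwo0 : ∀ L ∈ Set.range K, ∀ M ∈ Set.range K, ∀ N ∈ Set.range K,
        Red.app Om (Set.range K) L M ∨ Red.app Om (Set.range K) L N ∨
          Red.app Om (Set.range K) M N := by
      have h1 : ∀ N ∈ Set.range K, Red.app Om (Set.range K) (K a) N ∨
          Red.app Om (Set.range K) (K b) N := by
        rintro _ ⟨c, rfl⟩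
        by_cases h' : Red.app Om (Set.range K) (K a) (K c)
        · exact Or.inl h'
        · exact Or.inr (hthird c h')
      intro L hL M hM N hN
      rcases h1 L hL with h2 | h2 <;> rcases h1 M hM with h3 | h3 <;> rcases h1 N hN with h5 | h5
      · exact Or.inl (Red.app_trans (Red.app_symm h2) h3)
      · exact Or.inl (Red.app_trans (Red.app_symm h2) h3)
      · exact Or.inr (Or.inl (Red.app_trans (Red.app_symm h2) h5))
      · exact Or.inr (Or.inr (Red.app_trans (Red.app_symm h3) h5))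
      · exact Or.inr (Or.inr (Red.app_trans (Red.app_symm h3) h5))
      · exact Or.inr (Or.inl (Red.app_trans (Red.app_symm h2) h5))
      · exact Or.inl (Red.app_trans (Red.app_symm h2) h3)
      · exact Or.inl (Red.app_trans (Red.app_symm h2) h3)
    have htwo : ∀ F ∈ sylFrames Om, ∀ L ∈ F, ∀ M ∈ F, ∀ N ∈ F,
        Red.app Om F L M ∨ Red.app Om F L N ∨ Red.app Om F M N := by
      intro F hF' L hL M hM N hN
      obtain ⟨g, hg1, -⟩ := hfr.trans _ hF F hF' (K a) ⟨a, rfl⟩ L hL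
      rw [← hg1] at hL hM hN ⊢
      obtain ⟨L', hL', rfl⟩ := hL
      obtain ⟨M', hM', rfl⟩ := hM
      obtain ⟨N', hN', rfl⟩ := hN
      rw [Red.app_cj_iff hyp.conj, Red.app_cj_iff hyp.conj, Red.app_cj_iff hyp.conj]
      exact htwo0 L' hL' M' hM' N' hN'
    exact (dhyp_bar hKF hAF hZF hyp h c2 hfr h8 htwo hcls4).comm hF ⟨a, rfl⟩ ⟨b, rfl⟩ hab hX hY
  · exact comm_of_gen hGF hyp h f habI hs3 h4 hτ hX hY

end Cfsg.Agent.Cit.TypeDet.AppBar
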