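import Cfsg.Agent.Cit.ManyGlue
import Cfsg.Agent.Cit.TypeDet.LocalBar

/-!
# The blocks of `F - k` are small or typed, modulo cores

`LocalBar.LocB Om` (or `ExLocal.LB Om`) and `KindFact` give the field `blk` of `ManyGlue.Drv`.
-/

set_option autoImplicit false
set_option linter.unusedSectionVars false
set_option linter.dupNamespace false

namespace Cfsg.Agent.Cit.TypeDet.BlkDrv

open Subgroup Finset Classical Relation Cfsg Cfsg.Agent.Cit.UseT Cfsg.Agent.Cit.PieceLift Cfsg.Agent.Cit.PieceG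
open Cfsg.Agent.Cit.TypeDet Cfsg.Agent.Cit.TypeDet.LocalBar Cfsg.Agent.Cit.ManyGlue

universe u

variable {G : Type u} [Group G] [Finite G] {Om : Set (Subgroup G)}
  {ι : Type u} [Fintype ι] {K : ι → Subgroup G}

/-- the local input of `ExLocal` is the local input of `LocalBar` -/
theorem locB (b : ExLocal.LB Om) : LocB Om := ⟨b.core, b.cor⟩

/-- the pieces of `H / O(H)` -/
theorem piece_PT {H : Subgroup G} (C : CorG Om H) {J : Subgroup G} (hJ : J ∈ Om) (hJH : J ≤ H) :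
    Cit.Piece (fb Om H) (PT Om H J) :=
  C.pcs.piece (fb_hyp C.hyp H) (bar_mem hJ hJH)

/-- **a frame of a piece of `H / O(H)`: at most two members or typed** -/
theorem of_blk (hKF : KindFact.{u}) {H : Subgroup G} {Oa : Set (Subgroup G)} {D' : Subgroup (HQ H)} {B : Finset ι}
    (b : Blk Om H Oa K D' B) (hP : Cit.Piece (fb Om H) D') : B.card ≤ 2 ∨
      ∃ τ, (data Oa K b.mem b.comm).KT τ B ∧ TyPc (fb Om H) τ D' := by
  by_cases h3 : 3 ≤ B.card
  · right
    have hyp := fb_hyp b.cor.hyp H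
    obtain ⟨a, ha, c, hc, d, hd, hac, had, hcd⟩ := two_lt_card.mp (by omega : 2 < B.card)
    have hm : ∀ i, bar H (K i) ∈ fb Om H := fun i => bar_mem (b.sub (b.mem i)) (b.le i)
    have hcm : ∀ i j, i ≠ j → cm (bar H (K i)) (bar H (K j)) := fun i j hij =>
      (cm_bar_iff b.cor b.core (b.sub (b.mem _)) (b.sub (b.mem _)) (b.le _) (b.le _)).2 (b.comm i j hij)
    obtain ⟨τ, hτ⟩ := typed_of_three hyp hP (hm a) (hm c) (hm d) ((b.iff a).1 ha) ((b.iff c).1 hc)
      ((b.iff d).1 hd) (hcm a c hac) (hcm a d had) (hcm c d hcd)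
    refine ⟨τ, b.kt ?_, hτ⟩
    exact hKF (HQ H) (fb Om H) hyp D' τ hτ ↥B (fun i : ↥B => bar H (K i.1)) b.bar_mem_OmIn b.bar_comm b.bar_max
  · left; omega

/-- **the field `blk` of `ManyGlue.Drv`** -/
theorem blk (hKF : KindFact.{u}) (h : LocB Om) (f : IFrm Om K) (k i : ι) (hi : i ≠ k) :
    (f.data.blk (univ.erase k) i).card ≤ 2 ∨
      ∃ τ, f.data.KT τ (f.data.blk (univ.erase k) i) ∧ TyPc (fb Om (CZ (K k))) τ (PT Om (CZ (K k)) (K i)) := by
  have hle : K i ≤ CZ (K k) := by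
    intro x hx
    exact mem_centralizer_singleton_iff.2 (f.comm i k hi x hx _ ((h.hyp (f.mem k)).zz_mem (f.mem k)))
  exact of_blk hKF (h.blk f.mem f.comm f.max hi) (piece_PT (h.cor _ (f.mem k)) (f.mem i) hle)

/-- `Drv` from `LB`, `KindFact` and the connectedness of the frame -/
theorem drv (hKF : KindFact.{u}) (b : ExLocal.LB Om) (f : IFrm Om K) (happ : ∀ i j, f.data.app i j) : Drv f :=
  ⟨blk hKF (locB b) f, happ⟩

end Cfsg.Agent.Cit.TypeDet.BlkDrv
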