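import Cfsg.Agent.Cit.TypeDet.Setup

/-!
# The blocks of a frame are typed
-/

set_option autoImplicit false
set_option linter.unusedSectionVars false
set_option linter.unusedVariables false

namespace Cfsg.Agent.Cit.TypeDet

open Subgroup Finset Classical Relation Cfsg Cfsg.Agent.Nodes.Chart

universe u

variable {G : Type u} [Group G] [Finite G] {Om : Set (Subgroup G)}
  {ι : Type u} [Fintype ι] {K : ι → Subgroup G}

/-- a maximal frame -/
structure IFrm (Om : Set (Subgroup G)) (K : ι → Subgroup G) : Prop where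
  mem : ∀ i, K i ∈ Om
  comm : ∀ i j, i ≠ j → cm (K i) (K j)
  max : ∀ L ∈ Om, ∃ i, ¬ cm L (K i)

/-- the data of a maximal frame -/
noncomputable def IFrm.data (f : IFrm Om K) : Data ι G := TypeDet.data Om K f.mem f.comm

namespace IFrm

variable (f : IFrm Om K)

include f

theorem max_in {B : Finset ι} {L : Subgroup G} (hL : L ∈ OmIn Om (YA Om K B)) :
    ∃ i : ↥B, ¬ cm L (K i.1) := by
  obtain ⟨j, hj⟩ := f.max L hL.1
  have h1 := mem_OmA_of_le hL.1 hL.2
  have hjB : j ∈ B := by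
    by_contra hn
    exact hj (h1.2 j hn)
  exact ⟨⟨j, hjB⟩, hj⟩

omit f in
/-- typed pieces give typed kinds -/
theorem kt_of_tyPc (hKF : KindFact.{u}) (hyp : Hyp Om) (f : IFrm Om K) {B : Finset ι}
    {τ : Nodes.Chart.Ty} (h : TyPc Om τ (YA Om K B)) : f.data.KT τ B := by
  have h1 := hKF G Om hyp (YA Om K B) τ h ↥B (fun i => K i.1) (OmIn_mem f.mem f.comm B)
    (fun i j hij => f.comm i.1 j.1 (fun e => hij (Subtype.ext e))) (fun L hL => f.max_in hL)
  have h2 := Data.KT.map (hom_piece f.mem f.comm B) h1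
  rwa [univ_map_emb] at h2

omit f in
theorem typed_of_card (hyp : Hyp Om) (f : IFrm Om K) {B : Finset ι} (h3 : 3 ≤ B.card)
    (hP : Cit.Piece Om (YA Om K B)) : ∃ τ, TyPc Om τ (YA Om K B) := by
  obtain ⟨a, ha, b, hb, c, hc, hab, hac, hbc⟩ := two_lt_card.mp (by omega : 2 < B.card)
  have hle : ∀ i ∈ B, K i ≤ YA Om K B := fun i hi => le_YA (mem_OmA f.mem f.comm hi)
  exact typed_of_three hyp hP (f.mem a) (f.mem b) (f.mem c) (hle a ha) (hle b hb) (hle c hc)
    (f.comm a b hab) (f.comm a c hac) (f.comm b c hbc)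

omit f in
/-- the pieces of the blocks of `F - k` -/
theorem piece_blk (hyp : Hyp Om) (hloc : Loc Om) (f : IFrm Om K) {k i : ι} (hi : i ≠ k) :
    Cit.Piece Om (YA Om K (f.data.blk (univ.erase k) i)) := by
  have h1 : YA Om K (f.data.blk (univ.erase k) i) = piece (OmA Om K (univ.erase k)) (K i) :=
    YA_blk f.mem f.comm f.max (Data.mem_er hi)
  rw [h1, OmA_erase]
  refine piece_centralizer hyp hloc (f.mem k) ⟨f.mem i, ?_⟩
  exact cm_iff_le_centralizer.mp (f.comm i k hi)

omit f in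
/-- **the blocks of `F - k` are small or typed** -/
theorem typed_blk (hKF : KindFact.{u}) (hyp : Hyp Om) (hloc : Loc Om) (f : IFrm Om K) (k i : ι)
    (hi : i ≠ k) : (f.data.blk (univ.erase k) i).card ≤ 2 ∨
      ∃ τ, f.data.KT τ (f.data.blk (univ.erase k) i) ∧
        TyPc Om τ (YA Om K (f.data.blk (univ.erase k) i)) := by
  by_cases h3 : 3 ≤ (f.data.blk (univ.erase k) i).card
  · right
    obtain ⟨τ, hτ⟩ := typed_of_card hyp f h3 (piece_blk hyp hloc f hi)
    exact ⟨τ, kt_of_tyPc hKF hyp f hτ, hτ⟩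
  · left; omega

end IFrm

/-! ### Frames as sets -/

namespace IFrm

variable (f : IFrm Om K)

include f

theorem not_cm (i : ι) : ¬ cm (K i) (K i) := by
  intro hc
  obtain ⟨j, hj⟩ := f.max (K i) (f.mem i)
  by_cases hij : i = j
  · rw [← hij] at hj; exact hj hc
  · exact hj (f.comm i j hij)

theorem inj : Function.Injective K := by
  intro i j hij
  by_contra hne
  have := f.comm i j hne
  rw [hij] at this
  exact f.not_cm j this

theorem ne {i j : ι} : K i ≠ K j ↔ i ≠ j := f.inj.ne_iff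

theorem toFrm : Red.Frm Om (Set.range K) where
  sub := by rintro _ ⟨i, rfl⟩; exact f.mem i
  comm := by
    rintro _ ⟨i, rfl⟩ _ ⟨j, rfl⟩ hij
    exact f.comm i j (fun e => hij (by rw [e]))
  max L hL := by
    obtain ⟨i, hi⟩ := f.max L hL
    exact ⟨K i, ⟨i, rfl⟩, hi⟩

omit f in
theorem OmA_erase_eq (k : ι) : OmA Om K (univ.erase k) = Red.Cen Om {K k} := by
  rw [OmA_erase]
  ext L
  rw [Red.mem_Cen_single, cm_iff_le_centralizer]
  exact Iff.rfl

/-- `≈` in both languages -/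
theorem app_iff (i j : ι) : f.data.app i j ↔ Red.app Om (Set.range K) (K i) (K j) := by
  constructor
  · intro hij
    induction hij with
    | rel i j h' =>
      obtain ⟨k, hk⟩ := h'
      obtain ⟨h1, h2, h3⟩ := hk
      rw [mem_erase] at h1 h2
      rw [OmA_erase_eq] at h3
      exact f.toFrm.app_of_chn ⟨i, rfl⟩ ⟨j, rfl⟩ ⟨k, rfl⟩ (f.ne.mpr h1.1) (f.ne.mpr h2.1) h3
    | refl i => exact Red.app_refl _
    | symm i j _ ih => exact Red.app_symm ih
    | trans i j k _ _ ih1 ih2 => exact Red.app_trans ih1 ih2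
  · have key : ∀ {L M : Subgroup G}, Red.app Om (Set.range K) L M → ∀ i j, K i = L → K j = M →
        f.data.app i j := by
      intro L M hLM
      induction hLM with
      | rel L M h' =>
        intro i j hi hj
        obtain ⟨-, -, N, ⟨k, rfl⟩, hLN, hMN, hc⟩ := h'
        subst hi hj
        refine Relation.EqvGen.rel _ _ ⟨k, ?_, ?_, ?_⟩
        · exact mem_erase.mpr ⟨f.ne.mp hLN, mem_univ _⟩
        · exact mem_erase.mpr ⟨f.ne.mp hMN, mem_univ _⟩
        · rw [OmA_erase_eq]; exact hc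
      | refl L =>
        intro i j hi hj
        have : i = j := f.inj (hi.trans hj.symm)
        rw [this]
        exact Relation.EqvGen.refl _
      | symm L M _ ih => intro i j hi hj; exact Relation.EqvGen.symm _ _ (ih j i hj hi)
      | trans L M N h1 h2 ih1 ih2 =>
        intro i j hi hj
        have hM := f.toFrm.mem_or_of_app h1 ⟨i, hi⟩
        obtain ⟨k, hk⟩ := hM
        exact Relation.EqvGen.trans _ _ _ (ih1 i k hi hk) (ih2 k j hk hj)
    exact fun hij => key hij i j rfl rfl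

theorem mem_cla_iff (i j : ι) : j ∈ f.data.cla i ↔ K j ∈ Red.cls Om (Set.range K) (K i) := by
  rw [Sys.mem_cla, app_iff]
  exact ⟨fun h' => ⟨⟨j, rfl⟩, h'⟩, fun h' => h'.2⟩

theorem TT_eq_OmA (i : ι) : Red.TT Om (Set.range K) (K i) = OmA Om K (f.data.cla i) := by
  ext L
  constructor
  · rintro ⟨h1, h2⟩
    exact ⟨h1, fun k hk => h2 (K k) ⟨⟨k, rfl⟩, fun h' => hk ((f.mem_cla_iff i k).mpr h')⟩⟩
  · rintro ⟨h1, h2⟩
    refine ⟨h1, ?_⟩
    rintro _ ⟨⟨k, rfl⟩, hk⟩
    exact h2 k (fun h' => hk ((f.mem_cla_iff i k).mp h'))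

theorem sSup_TT (i : ι) : sSup (Red.TT Om (Set.range K) (K i)) = YA Om K (f.data.cla i) := by
  rw [f.TT_eq_OmA, YA]

theorem cls_eq_image (i : ι) :
    Red.cls Om (Set.range K) (K i) = K '' (f.data.cla i : Set ι) := by
  ext L
  constructor
  · rintro ⟨⟨j, rfl⟩, h2⟩
    exact ⟨j, (f.mem_cla_iff i j).mpr ⟨⟨j, rfl⟩, h2⟩, rfl⟩
  · rintro ⟨j, hj, rfl⟩
    exact (f.mem_cla_iff i j).mp hj

theorem ncard_cls (i : ι) : (Red.cls Om (Set.range K) (K i)).ncard = (f.data.cla i).card := by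
  rw [f.cls_eq_image, Set.ncard_image_of_injective _ f.inj, Set.ncard_coe_finset]

end IFrm

end Cfsg.Agent.Cit.TypeDet
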