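import Cfsg.Agent.Cit.TypeDet.Many

/-!
# STEP 1 of #6096, combinatorial part: the classes of the frame

`app i j` : the equivalence relation generated by `i ~_k j` for some `k`.  For `k` outside the class `C` of `i`,
`C` is a block of `F - k`.
-/

set_option autoImplicit false

namespace Cfsg.Agent.Cit.TypeDet

open Finset Classical

namespace Sys

variable {F : Type*} [Fintype F] (S : Sys F)

/-- the equivalence relation `≈` -/
def app : F → F → Prop := Relation.EqvGen (fun i j => ∃ k, S.rel (univ.erase k) i j)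

theorem app_refl (i : F) : S.app i i := Relation.EqvGen.refl i

theorem app_symm {i j : F} (h : S.app i j) : S.app j i := Relation.EqvGen.symm _ _ h

theorem app_trans {i j k : F} (h : S.app i j) (h' : S.app j k) : S.app i k :=
  Relation.EqvGen.trans _ _ _ h h'

theorem app_of_rel {i j k : F} (h : S.rel (univ.erase k) i j) : S.app i j :=
  Relation.EqvGen.rel _ _ ⟨k, h⟩

theorem rel_of_app {i j : F} (h : S.app i j) : ∀ k, ¬ S.app i k → S.rel (univ.erase k) i j := by
  induction h with
  | rel i j h =>
    obtain ⟨l, hl⟩ := h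
    intro k hk
    by_cases hkl : k = l
    · rw [hkl]; exact hl
    have hkB : k ∉ S.blk (univ.erase l) i := fun h' => hk (S.app_of_rel (S.mem_blk.mp h'))
    have hik : i ≠ k := fun e => hk (e ▸ S.app_refl i)
    have hil : i ≠ l := (mem_erase.mp (S.memL hl)).1
    have h1 : S.blk (univ.erase l) i ⊆ ((univ : Finset F).erase l).erase k := fun y hy =>
      mem_erase.mpr ⟨fun e => hkB (e ▸ hy), S.blk_subset _ _ hy⟩
    have h2 : S.blk (((univ : Finset F).erase l).erase k) i = S.blk (univ.erase l) i :=
      S.blk_eq_of_subset (erase_subset _ _) (Data.erase_ne_univ _)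
        (mem_erase.mpr ⟨hik, Data.mem_er hil⟩) h1
    have h3 : S.rel (((univ : Finset F).erase l).erase k) i j :=
      S.mem_blk.mp (by rw [h2]; exact S.mem_blk.mpr hl)
    exact S.mono (erase_subset_erase _ (erase_subset _ _)) (Data.erase_ne_univ _) h3
  | refl i =>
    intro k hk
    exact S.refl (Data.erase_ne_univ _) (Data.mem_er (fun e => hk (e ▸ S.app_refl i)))
  | symm i j h ih =>
    intro k hk
    exact S.symm (ih k (fun h' => hk (S.app_trans (S.app_symm h) h')))
  | trans i j l h1 h2 ih1 ih2 =>
    intro k hk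
    exact S.trans (ih1 k hk) (ih2 k (fun h' => hk (S.app_trans h1 h')))

/-- the class of `i` -/
noncomputable def cla (i : F) : Finset F := univ.filter (S.app i)

theorem mem_cla {i j : F} : j ∈ S.cla i ↔ S.app i j := by simp [cla]

theorem self_mem_cla (i : F) : i ∈ S.cla i := S.mem_cla.mpr (S.app_refl i)

theorem cla_eq_of_app {i j : F} (h : S.app i j) : S.cla j = S.cla i := by
  ext x
  rw [S.mem_cla, S.mem_cla]
  exact ⟨fun h' => S.app_trans h h', fun h' => S.app_trans (S.app_symm h) h'⟩

/-- the class of `i` is a block of `F - k` for `k` outside -/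
theorem blk_eq_cla {i k : F} (h : ¬ S.app i k) : S.blk (univ.erase k) i = S.cla i := by
  ext x
  rw [S.mem_blk, S.mem_cla]
  exact ⟨fun hx => S.app_of_rel hx, fun hx => S.rel_of_app hx k h⟩

theorem conn_cla {i k : F} (h : ¬ S.app i k) : S.Conn (S.cla i) := by
  rw [← S.blk_eq_cla h]
  exact S.conn_blk (Data.erase_ne_univ _) _

/-- a connected frame, in the form used in STEP 3 -/
theorem exists_of_connected (h : ∀ i j, S.app i j) {A : Finset F} (hA : A.Nonempty)
    (hA' : A ≠ univ) : ∃ l, ∃ i ∈ A, ∃ j, j ∉ A ∧ S.rel (univ.erase l) i j := by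
  by_contra hcon
  push Not at hcon
  obtain ⟨i, hi⟩ := hA
  have key : ∀ {a b : F}, S.app a b → (a ∈ A ↔ b ∈ A) := by
    intro a b hab
    induction hab with
    | rel a b h =>
      obtain ⟨l, hl⟩ := h
      constructor
      · intro ha
        by_contra hb
        exact hcon l a ha b hb hl
      · intro hb
        by_contra ha
        exact hcon l b hb a ha (S.symm hl)
    | refl a => exact Iff.rfl
    | symm a b _ ih => exact ih.symm
    | trans a b c _ _ ih1 ih2 => exact ih1.trans ih2
  apply hA'
  rw [eq_univ_iff_forall]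
  exact fun j => (key (h i j)).mp hi

/-- classes have the same size when the automorphisms are transitive -/
theorem IsAut.app {S : Sys F} {σ : Equiv.Perm F} (h : S.IsAut σ) {i j : F} :
    S.app i j → S.app (σ i) (σ j) := by
  intro hij
  induction hij with
  | rel i j h' =>
    obtain ⟨l, hl⟩ := h'
    refine S.app_of_rel (k := σ l) ?_
    rw [← univ_erase_map, h]
    exact hl
  | refl i => exact S.app_refl _
  | symm i j _ ih => exact S.app_symm ih
  | trans i j k _ _ ih1 ih2 => exact S.app_trans ih1 ih2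

theorem card_cla_le {S : Sys F} {σ : Equiv.Perm F} (h : S.IsAut σ) (i : F) :
    (S.cla i).card ≤ (S.cla (σ i)).card := by
  refine card_le_card_of_injOn σ ?_ (σ.injective.injOn)
  intro x hx
  exact S.mem_cla.mpr (h.app (S.mem_cla.mp hx))

theorem card_cla_eq (ht : ∀ k l : F, ∃ σ : Equiv.Perm F, S.IsAut σ ∧ σ k = l) (i j : F) :
    (S.cla i).card = (S.cla j).card := by
  obtain ⟨σ, hσ, h1⟩ := ht i j
  obtain ⟨τ, hτ, h2⟩ := ht j i
  refine le_antisymm ?_ ?_
  · rw [← h1]; exact card_cla_le hσ i
  · rw [← h2]; exact card_cla_le hτ j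

end Sys

namespace Data

variable {F : Type*} [Fintype F] {G : Type*} [Group G] {S : Data F G}

/-- **the main theorem for a connected frame**, `r ≥ 5` -/
theorem connected (hr : 5 ≤ Fintype.card F)
    (ht : ∀ k l : F, ∃ σ : Equiv.Perm F, S.IsAut σ ∧ σ k = l)
    (hk : ∀ k i : F, i ≠ k → S.Kinds (S.blk (univ.erase k) i)) (hconn : ∀ i j, S.app i j) :
    (∀ k : F, S.KL (univ.erase k)) ∨
      (Fintype.card F = 8 ∧ ∀ k : F, S.KE7 (univ.erase k)) ∨
        (Fintype.card F = 7 ∧ ∀ k : F, ∃ p, S.KD (univ.erase k) p) ∨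
          (Even (Fintype.card F) ∧ ∃ p : F → F, S.OutO p) := by
  by_cases hm : ∃ k : F, ¬ S.Conn (univ.erase k)
  · refine Or.inr (Or.inr (Or.inr ?_))
    exact many hr ht hk (fun A hA hA' => S.exists_of_connected hconn hA hA') hm
  · push Not at hm
    have hF : Nonempty F := Fintype.card_pos_iff.mp (by omega)
    obtain ⟨k₀⟩ := hF
    obtain ⟨i, hi, -, -⟩ := exists_ne_three (by omega) k₀ k₀ k₀
    have h1 : S.blk (univ.erase k₀) i = univ.erase k₀ := by
      ext x
      rw [S.mem_blk]
      exact ⟨fun hx => S.memR hx, fun hx => hm k₀ i (mem_er hi) x hx⟩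
    have h2 := hk k₀ i hi
    rw [h1] at h2
    rcases one hr ht k₀ h2 with h | h | h
    · exact Or.inl h
    · exact Or.inr (Or.inl h)
    · exact Or.inr (Or.inr (Or.inl h))

end Data

end Cfsg.Agent.Cit.TypeDet
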