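import Cfsg.Agent.Cit.TypeDet.Reduc
import Cfsg.Agent.Cit.TypeDet.BarGen
import Cfsg.Agent.Cit.TypeDet.LocalBar

/-!
# Two `D₄`-classes, modulo cores

`DFour.DHyp` from the local input modulo cores `LocB` and the condition (C) at `z_K z_L`: `dhyp_bar`.

* `mem_TT_iff` : `X ∈ TT F K` iff `X ≤ C(z_M)` and the image of `X` is in the piece of `K` in `C(z_M) / O(C(z_M))`;
* `tu` : theorem T for `C(z_i z_j) / O(C(z_i z_j))`.
-/

set_option autoImplicit false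
set_option linter.unusedSectionVars false
set_option linter.unusedVariables false

namespace Cfsg.Agent.Cit.TypeDet.DFourBar

open Subgroup Finset Classical Relation Cfsg Cfsg.Agent.Cit.UseT Cfsg.Agent.Cit.PieceLift Cfsg.Agent.Cit.PieceG
open Cfsg.Agent.Cit.TypeDet Cfsg.Agent.Cit.TypeDet.LocalBar Cfsg.Agent.Nodes.Chart

universe u

section sets

variable {G : Type u} [Group G] [Finite G] {Om : Set (Subgroup G)}

/-- (C) at `z_K z_L` -/
def Cor2 (Om : Set (Subgroup G)) : Prop :=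
  ∀ K ∈ Om, ∀ L ∈ Om, cm K L → zz K ≠ zz L → CorG Om (centralizer {zz K * zz L})

theorem lem_of (h : LocB Om) : Lem Om := fun _ hX _ hK hc => h.lem hX hK hc

theorem Cen_eq (M : Subgroup G) : Red.Cen Om {M} = OmIn Om (centralizer (M : Set G)) := by
  ext L
  rw [Red.mem_Cen_single, cm_iff_le_centralizer]
  exact Iff.rfl

/-- `TT F K` from the piece of `K` in `C(z_M) / O(C(z_M))` -/
theorem mem_TT_iff (hyp : Hyp Om) (h : LocB Om) {F : Set (Subgroup G)} (hf : Red.Frm Om F) {K M : Subgroup G}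
    (hK : K ∈ F) (hM : M ∈ F) (hKM : ¬ Red.app Om F K M) {X : Subgroup G} :
    X ∈ Red.TT Om F K ↔ X ∈ OmIn Om (centralizer {zz M}) ∧
      bar (centralizer {zz M}) X ≤ PT Om (centralizer {zz M}) K := by
  have hne : K ≠ M := fun e => hKM (e ▸ Red.app_refl K)
  have hKC : K ∈ OmIn Om (centralizer (M : Set G)) := by
    rw [← Cen_eq]
    exact hf.mem_Cen hK hM hne
  have hKC' : K ∈ OmIn Om (centralizer {zz M}) := OmIn_centralizer_subset hyp (hf.sub hM) hKC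
  rw [hf.mem_TT_iff hK hM hKM, Cen_eq, (lem_of h).mem_iff hyp (hf.sub hM) hKC]
  refine and_congr_right fun hX => ?_
  exact chn_iff_le_PT (h.cor M (hf.sub hM)) h.core hKC' hX

theorem pc_eq_of_le {X : Type*} [Group X] [Finite X] {T : Set (Subgroup X)} (hT : Hyp T) {K J : Subgroup X}
    (hK : K ∈ T) (hJ : J ∈ T) (h : J ≤ pc T K) : pc T J = pc T K :=
  (pc_eq_of_chn ((chn_iff_le_pc hT hK hJ).2 h)).symm

/-- LEMMA Z lifts -/
theorem zcon (hZF : ZFact.{u}) (hyp : Hyp Om) (h : LocB Om) {F : Set (Subgroup G)} (hf : Red.Frm Om F)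
    {K M : Subgroup G} (hK : K ∈ F) (hM : M ∈ F) (hKM : ¬ Red.app Om F K M)
    (h4 : TyPc (fb Om (centralizer {zz M})) (.D 4) (PT Om (centralizer {zz M}) K)) {X : Subgroup G}
    (hX : X ∈ Red.TT Om F K) : ReflTransGen (Red.zstp (Red.TT Om F K)) K X := by
  have C := h.cor M (hf.sub hM)
  have hm : ∀ {X : Subgroup G}, X ∈ Red.TT Om F K ↔ X ∈ OmIn Om (centralizer {zz M}) ∧
      bar (centralizer {zz M}) X ≤ PT Om (centralizer {zz M}) K := mem_TT_iff hyp h hf hK hM hKM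
  set H := centralizer {zz M} with hH
  have hKT := hf.mem_TT_self hK
  have e1 := hm.1 hKT
  have e2 := hm.1 hX
  have key := hZF (HQ H) (fb Om H) (fb_hyp hyp H) _ h4 (bar H K) ⟨bar_mem e1.1.1 e1.1.2, e1.2⟩ (bar H X)
    ⟨bar_mem e2.1.1 e2.1.2, e2.2⟩
  have lift : ∀ Y', ReflTransGen (Red.zstp (OmIn (fb Om H) (PT Om H K))) (bar H K) Y' →
      ∃ Y ∈ Red.TT Om F K, bar H Y = Y' ∧ ReflTransGen (Red.zstp (Red.TT Om F K)) K Y := by
    intro Y' hY'
    induction hY' with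
    | refl => exact ⟨K, hKT, rfl, ReflTransGen.refl⟩
    | @tail Y' Z' _ h2 ih =>
      obtain ⟨Y, hY, rfl, hc⟩ := ih
      obtain ⟨-, hZ', hz⟩ := h2
      obtain ⟨Z, hZ, rfl⟩ := exists_bar' hZ'.1
      have hZT : Z ∈ Red.TT Om F K := hm.2 ⟨hZ, hZ'.2⟩
      have hY1 := hm.1 hY
      refine ⟨Z, hZT, rfl, hc.tail ⟨hY, hZT, ?_⟩⟩
      rw [zz_bar hyp hY1.1.1 hY1.1.2] at hz
      exact (comm_zz_iff C hZ.1 hZ.2 _).1 hz
  obtain ⟨Y, hY, e, hc⟩ := lift _ key
  have hY1 := hm.1 hY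
  have e3 : Y = X := eq_of_bar_eq C hY1.1.1 e2.1.1 hY1.1.2 e2.1.2 e
  rwa [e3] at hc

end sets

section index

variable {G : Type u} [Group G] [Finite G] {Om : Set (Subgroup G)}
  {ι : Type u} [Fintype ι] {K : ι → Subgroup G}

/-- the class of `i` is the frame of the piece of `K i` in `C(z_k) / O(C(z_k))` -/
theorem blkc (h : LocB Om) (f : IFrm Om K) {i k : ι} (hik : ¬ f.data.app i k) :
    Blk Om (centralizer {zz (K k)}) Om K (PT Om (centralizer {zz (K k)}) (K i)) (f.data.cla i) := by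
  have hne : i ≠ k := fun e => hik (e ▸ Sys.app_refl _ _)
  have e := Sys.blk_eq_cla _ hik
  have h1 := h.blk f.mem f.comm f.max hne
  rw [show (data Om K f.mem f.comm).blk (univ.erase k) i = f.data.cla i from e] at h1
  exact h1

theorem kd4 (hKF : KindFact.{u}) (hyp : Hyp Om) (h : LocB Om) (f : IFrm Om K) {i k : ι} (hik : ¬ f.data.app i k)
    (h4 : TyPc (fb Om (centralizer {zz (K k)})) (.D 4) (PT Om (centralizer {zz (K k)}) (K i))) :
    f.data.KD4 (f.data.cla i) := by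
  have b := blkc h f hik
  have h1 := b.kt (hKF _ _ (fb_hyp hyp _) _ _ h4 ↥(f.data.cla i) (fun i => bar _ (K i.1)) b.bar_mem_OmIn b.bar_comm
    b.bar_max)
  exact h1.2.1 rfl

/-- the automorphism fact lifts -/
theorem aut (hAF : AutFact.{u}) (hyp : Hyp Om) (h : LocB Om) (f : IFrm Om K) {i j : ι}
    (hji : ¬ f.data.app j i)
    (h4 : TyPc (fb Om (centralizer {zz (K i)})) (.D 4) (PT Om (centralizer {zz (K i)}) (K j))) {t : G}
    (ht : t * t = 1) (htz : t * zz (K i) = zz (K i) * t)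
    (hn : ∀ X ∈ Red.TT Om (Set.range K) (K j), Cit.cj t X ∈ Red.TT Om (Set.range K) (K j))
    (hcl : ∀ N ∈ Red.cls Om (Set.range K) (K j), ∀ x ∈ N, t * x = x * t) :
    (∀ X ∈ Red.TT Om (Set.range K) (K j), ∀ x ∈ X, t * x = x * t) ∨
      (∀ X ∈ Red.TT Om (Set.range K) (K j), ∀ x ∈ X, (t * zz (K j)) * x = x * (t * zz (K j))) := by
  have C := h.cor (K i) (f.mem i)
  have b := blkc h f hji
  have hmm : ∀ {X : Subgroup G}, X ∈ Red.TT Om (Set.range K) (K j) ↔ X ∈ OmIn Om (centralizer {zz (K i)}) ∧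
      bar (centralizer {zz (K i)}) X ≤ PT Om (centralizer {zz (K i)}) (K j) :=
    mem_TT_iff hyp h f.toFrm ⟨j, rfl⟩ ⟨i, rfl⟩ (fun h' => hji ((f.app_iff j i).2 h'))
  have htH : t ∈ centralizer {zz (K i)} := mem_centralizer_singleton_iff.2 htz
  set H := centralizer {zz (K i)} with hH
  have hfh := fb_hyp hyp H
  have hjT : K j ∈ Red.TT Om (Set.range K) (K j) := f.toFrm.mem_TT_self ⟨j, rfl⟩
  have hjj := hmm.1 hjT
  have ht2 : qm H ⟨t, htH⟩ * qm H ⟨t, htH⟩ = 1 := by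
    rw [← map_mul, ← map_one (qm H)]
    congr 1
    exact Subtype.ext ht
  have hcj : Cit.cj (qm H ⟨t, htH⟩) (PT Om H (K j)) = PT Om H (K j) := by
    have h1 := hmm.1 (hn _ hjT)
    have e : Cit.cj (qm H ⟨t, htH⟩) (bar H (K j)) = bar H (Cit.cj t (K j)) := (cj_bar (⟨t, htH⟩ : H)).symm
    rw [PT, cj_pc hfh.conj, e]
    exact pc_eq_of_le hfh (bar_mem hjj.1.1 hjj.1.2) (bar_mem h1.1.1 h1.1.2) h1.2
  have h1 := hAF (HQ H) (fb Om H) hfh _ h4 ↥(f.data.cla j) (fun i => bar H (K i.1)) b.bar_mem_OmIn b.bar_comm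
    b.bar_max (qm H ⟨t, htH⟩) ht2 hcj (by
      rintro ⟨l, hl⟩ _ ⟨x, hx, rfl⟩
      rw [← map_mul, ← map_mul]
      congr 1
      exact Subtype.ext (hcl (K l) ((f.mem_cla_iff j l).1 hl) x hx))
  rcases h1 with h1 | h1
  · left
    intro X hX
    have h2 := hmm.1 hX
    exact TypeDet.comm_of_qm C h2.1.1 h2.1.2 (h.core X h2.1.1) htH fun y hy => h1 y (h2.2 hy)
  · right
    intro X hX
    have h2 := hmm.1 hX
    have hjB : j ∈ f.data.cla j := Sys.self_mem_cla _ _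
    have hzH : zz (K j) ∈ H := hjj.1.2 (hyp.zz_mem (f.mem j))
    have h3 := h1 ⟨j, hjB⟩
    refine TypeDet.comm_of_qm C h2.1.1 h2.1.2 (h.core X h2.1.1) (mul_mem htH hzH) fun y hy => ?_
    have h4 := h3 y (h2.2 hy)
    have e : qm H ⟨t * zz (K j), mul_mem htH hzH⟩ = qm H ⟨t, htH⟩ * zz (bar H (K j)) := by
      rw [zz_bar hyp (f.mem j) hjj.1.2, ← map_mul]
      rfl
    rw [e]
    exact h4

/-- theorem T for `C(z_i z_j)` modulo the core, `i` and `j` in different classes -/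
theorem tu (hKF : KindFact.{u}) (hyp : Hyp Om) (h : LocB Om) (c2 : Cor2 Om) (f : IFrm Om K)
    (hr : 5 ≤ Fintype.card ι) {i j : ι} (hij : ¬ f.data.app i j) (hz : zz (K i) ≠ zz (K j)) :
    ¬ chn {X | X ∈ Om ∧ ∀ x ∈ X, (zz (K i) * zz (K j)) * x = x * (zz (K i) * zz (K j))}
      (K i) (K j) := by
  intro hch
  have hne : i ≠ j := fun e => hij (e ▸ Sys.app_refl _ _)
  have C := c2 _ (f.mem i) _ (f.mem j) (f.comm i j hne) hz
  set u := zz (K i) * zz (K j) with hu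
  set U : Set (Subgroup G) := {X | X ∈ Om ∧ ∀ x ∈ X, u * x = x * u} with hU
  have hUeq : U = OmIn Om (centralizer {u}) := by
    ext X
    constructor
    · rintro ⟨h1, h2⟩
      refine ⟨h1, fun x hx => mem_centralizer_singleton_iff.mpr (h2 x hx).symm⟩
    · rintro ⟨h1, h2⟩
      exact ⟨h1, fun x hx => (mem_centralizer_singleton_iff.mp (h2 hx)).symm⟩
  -- the frame is in `U`
  have hzc : ∀ (k l : ι) (x : G), x ∈ K l → zz (K k) * x = x * zz (K k) := by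
    intro k l x hx
    by_cases hkl : k = l
    · rw [hkl]
      exact (hyp.comm_zz (f.mem l) (le_normalizer hx)).symm
    · exact f.comm k l hkl _ (hyp.zz_mem (f.mem k)) x hx
  have hFU : ∀ k, K k ∈ U := by
    intro k
    refine ⟨f.mem k, fun x hx => ?_⟩
    rw [hu, mul_assoc, hzc j k x hx, ← mul_assoc, hzc i k x hx, mul_assoc]
  by_cases hall : ∀ k, chn U (K i) (K k)
  · -- the piece contains the frame
    rw [hUeq] at hall hFU
    set H := centralizer {u} with hH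
    have b := blk_in C h.core hFU f.comm (fun L hL => f.max L hL.1) i
    have hB : (data (OmIn Om H) K hFU f.comm).blk univ i = univ := by
      ext k
      refine ⟨fun _ => mem_univ _, fun _ => ?_⟩
      rw [b.iff]
      exact (chn_iff_le_PT C h.core (hFU i) (hFU k)).1 (hall k)
    have hPc : Cit.Piece (fb Om H) (PT Om H (K i)) :=
      C.pcs.piece (fb_hyp hyp H) (bar_mem (hFU i).1 (hFU i).2)
    obtain ⟨x, y, z, hxy, hxz, hyz⟩ := Fintype.two_lt_card_iff.mp (by omega : 2 < Fintype.card ι)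
    have hle : ∀ k, bar H (K k) ≤ PT Om H (K i) := fun k =>
      (chn_iff_le_PT C h.core (hFU i) (hFU k)).1 (hall k)
    have hm : ∀ k, bar H (K k) ∈ fb Om H := fun k => bar_mem (hFU k).1 (hFU k).2
    have hcm : ∀ k l, k ≠ l → cm (bar H (K k)) (bar H (K l)) := fun k l hkl =>
      (cm_bar_iff C h.core (f.mem k) (f.mem l) (hFU k).2 (hFU l).2).2 (f.comm k l hkl)
    obtain ⟨τ, hτ⟩ := typed_of_three (fb_hyp hyp H) hPc (hm x) (hm y) (hm z) (hle x) (hle y) (hle z)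
      (hcm x y hxy) (hcm x z hxz) (hcm y z hyz)
    obtain ⟨B, hBdef⟩ : ∃ B, B = (data (OmIn Om H) K hFU f.comm).blk univ i := ⟨_, rfl⟩
    rw [← hBdef] at b hB
    have h1 : (data (OmIn Om H) K hFU f.comm).KT τ B := b.kt (hKF (HQ H) (fb Om H) (fb_hyp hyp H)
      (PT Om H (K i)) τ hτ ↥B (fun i => bar H (K i.1)) b.bar_mem_OmIn b.bar_comm b.bar_max)
    rw [hB] at h1
    have h2 := h1.kinds ⟨i, mem_univ _⟩
    obtain ⟨l, hl⟩ := h2.exists_rel hr i j
    apply hij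
    refine Sys.app_of_rel _ (k := l) ⟨hl.1, hl.2.1, ?_⟩
    refine chn_mono ?_ hl.2.2
    intro L hL
    exact ⟨hL.1.1, hL.2⟩
  · push Not at hall
    obtain ⟨k, hk⟩ := hall
    apply hij
    have hik : i ≠ k := fun e => hk (e ▸ ReflTransGen.refl)
    have hjk : j ≠ k := fun e => hk (e ▸ hch)
    refine Sys.app_of_rel _ (k := k) ⟨Data.mem_er hik, Data.mem_er hjk, ?_⟩
    -- all members of the chain commute with `K k`
    have key : ∀ X, chn U (K i) X → chn (OmA Om K (univ.erase k)) (K i) X ∧ X ∈ U := by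
      intro X hX
      induction hX with
      | refl => exact ⟨ReflTransGen.refl, hFU i⟩
      | @tail Y Z h1 h2 ih =>
        obtain ⟨c1, c2⟩ := ih
        have hY : Y ∈ OmA Om K (univ.erase k) := by
          rw [IFrm.OmA_erase_eq]
          exact Red.mem_Cen_single.mpr ⟨c2.1, cm_of_not_chn c2 (hFU k) h1 ReflTransGen.refl hk⟩
        have hZ : Z ∈ OmA Om K (univ.erase k) := by
          rw [IFrm.OmA_erase_eq]
          exact Red.mem_Cen_single.mpr ⟨h2.2.1.1,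
            cm_of_not_chn h2.2.1 (hFU k) (h1.tail h2) ReflTransGen.refl hk⟩
        exact ⟨c1.tail ⟨hY, hZ, h2.2.2⟩, h2.2.1⟩
    exact (key _ hch).1

end index

variable {G : Type u} [Group G] [Finite G] {Om : Set (Subgroup G)}

/-- **`DHyp` modulo cores** -/
theorem dhyp_bar (hKF : KindFact.{u}) (hAF : AutFact.{u}) (hZF : ZFact.{u}) (hyp : Hyp Om) (h : LocB Om)
    (c2 : Cor2 Om) {Fs : Set (Set (Subgroup G))} (hfr : Red.Frames Om Fs)
    (h8 : ∀ F ∈ Fs, 5 ≤ F.ncard)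
    (two : ∀ F ∈ Fs, ∀ K ∈ F, ∀ M ∈ F, ∀ N ∈ F,
      Red.app Om F K M ∨ Red.app Om F K N ∨ Red.app Om F M N)
    (h4 : ∀ F ∈ Fs, ∀ K ∈ F, ∀ M ∈ F, ¬ Red.app Om F K M →
      TyPc (fb Om (centralizer {zz M})) (.D 4) (PT Om (centralizer {zz M}) K)) : Red.DHyp Om Fs := by
  -- the `D₄`-kind
  have hkd : ∀ F ∈ Fs, ∀ K₀ ∈ F, ∀ M₀ ∈ F, ¬ Red.app Om F K₀ M₀ → ∀ (ι : Type u) (_ : Fintype ι)
      (K : ι → Subgroup G) (f : IFrm Om K), Set.range K = F → ∀ i, K i = K₀ → f.data.KD4 (f.data.cla i) := by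
    intro F hF K₀ hK₀ M₀ hM₀ hn ι i1 K f hr i hi
    subst hr hi
    obtain ⟨j, rfl⟩ := hM₀
    refine kd4 hKF hyp h f (k := j) (fun h' => hn ((f.app_iff i j).1 h')) ?_
    exact h4 _ hF _ hK₀ _ ⟨j, rfl⟩ hn
  have hzne : ∀ F ∈ Fs, ∀ K ∈ F, ∀ M ∈ F, ¬ Red.app Om F K M → zz K ≠ zz M := by
    intro F hF K₀ hK₀ M₀ hM₀ hKM e
    obtain ⟨ι, i1, K, f, hr⟩ := exists_ifrm hfr hF
    obtain ⟨i, hi⟩ := hr.symm ▸ hK₀
    obtain ⟨j, hj⟩ := hr.symm ▸ hM₀
    have k1 := hkd F hF K₀ hK₀ M₀ hM₀ hKM ι i1 K f hr i hi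
    have hjc : j ∉ f.data.cla i := by
      intro h'
      rw [f.mem_cla_iff, hr, hi, hj] at h'
      exact hKM h'.2
    refine k1.2.2.2.1 i (Sys.self_mem_cla _ _) (f.data.cen_congr (k := j) ?_ (f.data.cen_of_notMem hjc))
    change zz (K j) = zz (K i)
    rw [hi, hj, e]
  refine ⟨hfr, fun K hK g => hyp.zz_cj hK g, fun K hK => hyp.zz_mul hK, ?_, two, ?_, ?_, ?_, hzne, ?_, ?_, ?_⟩
  · -- zc
    intro K hK x hx
    exact hyp.comm_zz hK (le_normalizer hx)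
  · -- card
    intro F hF K₀ hK₀
    by_cases hex : ∃ M₀ ∈ F, ¬ Red.app Om F K₀ M₀
    · obtain ⟨M₀, hM₀, hn⟩ := hex
      obtain ⟨ι, i1, K, f, hr⟩ := exists_ifrm hfr hF
      obtain ⟨i, hi⟩ := hr.symm ▸ hK₀
      have k1 := hkd F hF K₀ hK₀ M₀ hM₀ hn ι i1 K f hr i hi
      obtain ⟨j, hj, hne⟩ := exists_mem_ne (by have := k1.1; omega : 1 < (f.data.cla i).card) i
      refine ⟨K j, ?_, ?_⟩
      · have := (f.mem_cla_iff i j).mp hj
        rwa [hr, hi] at this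
      · rw [← hi]; exact f.ne.mpr hne
    · push Not at hex
      have h5 := h8 F hF
      obtain ⟨M, hM, hne⟩ : ∃ M ∈ F, M ≠ K₀ := by
        by_contra hcon
        push Not at hcon
        have h1 : F ⊆ {K₀} := fun M hM => hcon M hM
        have h2 := Set.ncard_le_ncard h1 (Set.finite_singleton _)
        rw [Set.ncard_singleton] at h2
        omega
      exact ⟨M, ⟨hM, hex M hM⟩, hne⟩
  · -- sgl
    intro F hF K₀ hK₀ M₀ hM₀ hKM X hX N hN hc
    obtain ⟨ι, i1, K, f, hr⟩ := exists_ifrm hfr hF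
    obtain ⟨i, hi⟩ := hr.symm ▸ hK₀
    have k1 := hkd F hF K₀ hK₀ M₀ hM₀ hKM ι i1 K f hr i hi
    obtain ⟨l, hl⟩ := hr.symm ▸ hN.1
    have hlc : l ∈ f.data.cla i := (f.mem_cla_iff i l).mpr (by rw [hr, hi, hl]; exact hN)
    rw [← hr, ← hi, f.TT_eq_OmA] at hX
    obtain ⟨j, hj, rfl⟩ := f.sgl_of_KD4 k1 hX hlc (by rw [hl]; exact hc)
    have := (f.mem_cla_iff i j).mp hj
    rwa [hr, hi] at this
  · -- lem
    exact fun X hX K hK hc => h.lem hX hK hc
  · -- zcon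
    intro F hF K₀ hK₀ M₀ hM₀ hKM X hX
    exact zcon hZF hyp h (hfr.frm F hF) hK₀ hM₀ hKM (h4 F hF K₀ hK₀ M₀ hM₀ hKM) hX
  · -- aut
    intro F hF K₀ hK₀ M₀ hM₀ hKM t ht htz hn hcl
    obtain ⟨ι, i1, K, f, hr⟩ := exists_ifrm hfr hF
    obtain ⟨i, hi⟩ := hr.symm ▸ hK₀
    obtain ⟨j, hj⟩ := hr.symm ▸ hM₀
    have hMK : ¬ Red.app Om F M₀ K₀ := fun h' => hKM (Red.app_symm h')
    have h4' := h4 F hF M₀ hM₀ K₀ hK₀ hMK
    subst hr hi hj
    exact aut hAF hyp h f (fun h' => hMK ((f.app_iff j i).1 h')) h4' ht htz hn hcl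
  · -- tu
    intro F hF K₀ hK₀ M₀ hM₀ hKM
    obtain ⟨ι, i1, K, f, hr⟩ := exists_ifrm hfr hF
    obtain ⟨i, hi⟩ := hr.symm ▸ hK₀
    obtain ⟨j, hj⟩ := hr.symm ▸ hM₀
    have hcard : 5 ≤ Fintype.card ι := by
      have h1 := h8 F hF
      rw [← hr, ← Set.image_univ, Set.ncard_image_of_injective _ f.inj, Set.ncard_univ,
        Nat.card_eq_fintype_card] at h1
      exact h1
    have happ : ¬ f.data.app i j := by
      rw [f.app_iff, hr, hi, hj]; exact hKM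
    have h1 := tu hKF hyp h c2 f hcard happ (by rw [hi, hj]; exact hzne F hF K₀ hK₀ M₀ hM₀ hKM)
    rwa [hi, hj] at h1

end Cfsg.Agent.Cit.TypeDet.DFourBar
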