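import Mathlib

/-!
# Type determination for frames: the abstract combinatorial system

`F` is (the index set of) a frame `K_1, …, K_r`; for a proper subset `A` of `F` let
`Y_A := ⟨Om ∩ C(K_k) : k ∉ A⟩`.  `rel A` is the equivalence relation on `A` whose classes are the frames of
the components of `Y_A`.

See bb #6096 (helper124).
-/

set_option autoImplicit false

namespace Cfsg.Agent.Cit.TypeDet

open Finset Classical

/-- block system of a frame -/
structure Sys (F : Type*) [Fintype F] where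
  rel : Finset F → F → F → Prop
  refl : ∀ {A : Finset F} {i : F}, A ≠ univ → i ∈ A → rel A i i
  memL : ∀ {A : Finset F} {i j : F}, rel A i j → i ∈ A
  symm : ∀ {A : Finset F} {i j : F}, rel A i j → rel A j i
  trans : ∀ {A : Finset F} {i j k : F}, rel A i j → rel A j k → rel A i k
  restr : ∀ {A B : Finset F} {i j : F}, A ⊆ B → B ≠ univ → i ∈ A →
    (rel A i j ↔ rel (A.filter (rel B i)) i j)

namespace Sys

variable {F : Type*} [Fintype F] (S : Sys F)

theorem memR {A : Finset F} {i j : F} (h : S.rel A i j) : j ∈ A := S.memL (S.symm h)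

/-- the block of `i` in `A` -/
noncomputable def blk (A : Finset F) (i : F) : Finset F := A.filter (S.rel A i)

theorem mem_blk {A : Finset F} {i j : F} : j ∈ S.blk A i ↔ S.rel A i j := by
  rw [blk, mem_filter]
  exact ⟨fun h => h.2, fun h => ⟨S.memR h, h⟩⟩

theorem blk_subset (A : Finset F) (i : F) : S.blk A i ⊆ A := filter_subset _ _

theorem blk_eq_of_rel {A : Finset F} {i j : F} (h : S.rel A i j) : S.blk A j = S.blk A i := by
  ext x
  rw [S.mem_blk, S.mem_blk]
  exact ⟨fun hx => S.trans h hx, fun hx => S.trans (S.symm h) hx⟩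

theorem mono {A B : Finset F} {i j : F} (hAB : A ⊆ B) (hB : B ≠ univ) (h : S.rel A i j) :
    S.rel B i j := by
  have h1 := (S.restr hAB hB (S.memL h)).mp h
  have h2 := S.memR h1
  rw [mem_filter] at h2
  exact h2.2

/-- `Y_A` has at most one component -/
def Conn (A : Finset F) : Prop := ∀ i ∈ A, ∀ j ∈ A, S.rel A i j

theorem rel_blk {B : Finset F} (hB : B ≠ univ) {i a b : F} (ha : S.rel B i a) :
    S.rel (S.blk B i) a b ↔ S.rel B a b := by
  rw [S.restr (Subset.refl B) hB (S.memR ha)]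
  have : B.filter (S.rel B a) = S.blk B i := S.blk_eq_of_rel ha
  rw [this]

theorem conn_blk {B : Finset F} (hB : B ≠ univ) (i : F) : S.Conn (S.blk B i) := by
  intro a ha b hb
  rw [S.mem_blk] at ha hb
  rw [S.rel_blk hB ha]
  exact S.trans (S.symm ha) hb

/-- a block of `B` contained in `A ⊆ B` is a block of `A` -/
theorem blk_eq_of_subset {A B : Finset F} (hAB : A ⊆ B) (hB : B ≠ univ) {i : F} (hi : i ∈ A)
    (h : S.blk B i ⊆ A) : S.blk A i = S.blk B i := by
  ext j
  rw [S.mem_blk, S.mem_blk]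
  refine ⟨S.mono hAB hB, fun hj => ?_⟩
  rw [S.restr hAB hB hi]
  have h1 : A.filter (S.rel B i) = S.blk B i := by
    ext x
    rw [mem_filter, S.mem_blk]
    exact ⟨fun hx => hx.2, fun hx => ⟨h (S.mem_blk.mpr hx), hx⟩⟩
  rw [h1, S.rel_blk hB (S.refl hB (hAB hi))]
  exact hj

/-- removing points: inside the block -/
theorem rel_inter {A B : Finset F} (hAB : A ⊆ B) (hB : B ≠ univ) {i j : F} (hi : i ∈ A) :
    S.rel A i j ↔ S.rel (A ∩ S.blk B i) i j := by
  rw [S.restr hAB hB hi]
  have h1 : A.filter (S.rel B i) = A ∩ S.blk B i := by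
    ext x
    rw [mem_filter, mem_inter, S.mem_blk]
  rw [h1]

/-- a permutation of the frame induced by an automorphism -/
def IsAut (σ : Equiv.Perm F) : Prop :=
  ∀ (A : Finset F) (i j : F), S.rel (A.map σ.toEmbedding) (σ i) (σ j) ↔ S.rel A i j

theorem IsAut.conn {S : Sys F} {σ : Equiv.Perm F} (h : S.IsAut σ) (A : Finset F) :
    S.Conn (A.map σ.toEmbedding) ↔ S.Conn A := by
  constructor
  · intro hc i hi j hj
    rw [← h A i j]
    exact hc _ (mem_map_of_mem _ hi) _ (mem_map_of_mem _ hj)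
  · intro hc i hi j hj
    obtain ⟨i', hi', rfl⟩ := mem_map.mp hi
    obtain ⟨j', hj', rfl⟩ := mem_map.mp hj
    exact (h A i' j').mpr (hc i' hi' j' hj')

theorem IsAut.blk {S : Sys F} {σ : Equiv.Perm F} (h : S.IsAut σ) (A : Finset F) (i : F) :
    S.blk (A.map σ.toEmbedding) (σ i) = (S.blk A i).map σ.toEmbedding := by
  ext x
  rw [S.mem_blk, mem_map]
  constructor
  · intro hx
    obtain ⟨x', hx', rfl⟩ := mem_map.mp (S.memR hx)
    exact ⟨x', S.mem_blk.mpr ((h A i x').mp hx), rfl⟩
  · rintro ⟨x', hx', rfl⟩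
    exact (h A i x').mpr (S.mem_blk.mp hx')

end Sys

theorem erase_map {F : Type*} (σ : Equiv.Perm F) (A : Finset F) (l : F) :
    (A.map σ.toEmbedding).erase (σ l) = (A.erase l).map σ.toEmbedding := by
  ext x
  simp only [mem_erase, mem_map, Equiv.coe_toEmbedding]
  constructor
  · rintro ⟨hx, y, hy, rfl⟩
    exact ⟨y, ⟨fun h => hx (by rw [h]), hy⟩, rfl⟩
  · rintro ⟨y, ⟨hy, hyA⟩, rfl⟩
    exact ⟨fun h => hy (σ.injective h), y, hyA, rfl⟩

theorem univ_erase_map {F : Type*} [Fintype F] (σ : Equiv.Perm F) (l : F) :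
    ((univ : Finset F).erase l).map σ.toEmbedding = univ.erase (σ l) := by
  rw [← erase_map, Finset.map_univ_equiv]

end Cfsg.Agent.Cit.TypeDet
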