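import Cfsg.Agent.Cit.TypeDet.Setup
import Cfsg.Agent.Nodes.GenFrame

/-!
# `GenFact`
-/

set_option autoImplicit false

namespace Cfsg.Agent.Cit.TypeDet.GenFactOf

open Subgroup Cfsg Cfsg.Agent.Nodes.Chart Cfsg.Agent.Cit.TypeDet

universe u

/-- **(GEN)** -/
theorem genFact : GenFact.{u} := by
  intro G _ _ Om hyp D τ hD hne κ _ K hK hc hmax h3
  obtain ⟨-, -, -, ok, p, c, kind, -⟩ := hD
  refine Nodes.GenFrame.gen hyp c hK hc hmax h3 (fun L' hL' k hk => ?_) kind hne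
  exact le_sSup ⟨hL', k, hk⟩

end Cfsg.Agent.Cit.TypeDet.GenFactOf
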