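import Cfsg.Agent.Cit.TypeDet.Frame

/-!
# The possible kinds of components of `Δ_k` (helper124 #6096, list from theorem T)

All kinds are predicates of a subset `B` of the frame (`B` = frame of the component `E = Y_B`).
-/

set_option autoImplicit false

namespace Cfsg.Agent.Cit.TypeDet

open Finset Classical

/-- block system together with the involutions `z_i`, the property `Y_{i} = K_i` (`sgl i`) and the relation
'`z_k` centralises `Y_A`' (`cen A k`) -/
structure Data (F : Type*) [Fintype F] (G : Type*) [Group G] extends Sys F where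
  z : F → G
  sgl : F → Prop
  cen : Finset F → F → Prop
  cen_of_notMem : ∀ {A : Finset F} {k : F}, k ∉ A → cen A k
  cen_congr : ∀ {A : Finset F} {k l : F}, z k = z l → cen A k → cen A l

namespace Data

variable {F : Type*} [Fintype F] {G : Type*} [Group G] (S : Data F G)

/-- `∏_{i ∈ B} z_i = 1` for a set `B` of four points -/
def Prod4 (B : Finset F) : Prop :=
  ∀ a b c d, B = {a, b, c, d} → S.z a * S.z b * S.z c * S.z d = 1

/-- `C_n`, `A_n^±` -/
def KL (B : Finset F) : Prop :=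
  3 ≤ B.card ∧ (∀ l ∈ B, S.Conn (B.erase l)) ∧ ∀ i ∈ B, ∀ j ∈ B, i ≠ j → S.Conn {i, j}

/-- `F4`, `E6`, `2E6` -/
def KF (B : Finset F) : Prop :=
  B.card = 4 ∧ (∀ l ∈ B, S.Conn (B.erase l)) ∧ S.Prod4 B ∧ ∀ i ∈ B, ∀ j ∈ B, S.z i = S.z j → i = j

/-- `D4` -/
def KD4 (B : Finset F) : Prop :=
  B.card = 4 ∧ (∀ l ∈ B, ∀ i ∈ B.erase l, ∀ j ∈ B.erase l, i ≠ j → ¬ S.rel (B.erase l) i j) ∧
    S.Prod4 B ∧ (∀ l ∈ B, ¬ S.cen B l) ∧ ∀ l ∈ B, S.sgl l

/-- a fixed point free involution on `B` -/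
def Pairing (B : Finset F) (p : F → F) : Prop := ∀ l ∈ B, p l ∈ B ∧ p l ≠ l ∧ p (p l) = l

/-- `B - l` has the two blocks `{l'}` and `B - {l, l'}` -/
def PairSplit (B : Finset F) (p : F → F) : Prop :=
  ∀ l ∈ B, ∀ i ∈ B, ∀ j ∈ B, i ≠ l → j ≠ l → (S.rel (B.erase l) i j ↔ (i = p l ↔ j = p l))

/-- `B_n`, `2D_n` and `D_n`, `n` odd, of rank `≥ 4` -/
def KO (B : Finset F) (p : F → F) : Prop :=
  4 ≤ B.card ∧ Pairing B p ∧ S.PairSplit B p ∧
    (∀ i ∈ B, ∀ j ∈ B, i ≠ j → (S.Conn {i, j} ↔ j = p i)) ∧ ∀ l ∈ B, S.sgl l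

/-- `D_n`, `n ≥ 6` even -/
def KD (B : Finset F) (p : F → F) : Prop :=
  6 ≤ B.card ∧ Pairing B p ∧ S.PairSplit B p ∧
    (∀ A ⊆ B, A.card = 4 → (S.Conn A ↔ ∀ a ∈ A, p a ∈ A)) ∧ ∀ l ∈ B, S.sgl l

/-- `E7` -/
def KE7 (B : Finset F) : Prop := B.card = 7 ∧ ∀ l ∈ B, S.Conn (B.erase l)

/-- `E8`: the supports of the `D4`'s form a Steiner system `S(3, 4, 8)` -/
def KE8 (B : Finset F) : Prop :=
  B.card = 8 ∧ ∀ x ∈ B, ∀ y ∈ B, ∀ z ∈ B, x ≠ y → x ≠ z → y ≠ z →
    ∃ w ∈ B, w ≠ x ∧ w ≠ y ∧ w ≠ z ∧ S.Conn {x, y, z, w} ∧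
      ∀ w' ∈ B, w' ≠ x → w' ≠ y → w' ≠ z → S.Conn {x, y, z, w'} → w' = w

omit [Group G] [Fintype F] in
theorem _root_.Cfsg.Agent.Cit.TypeDet.exists_mem_four {B : Finset F} {n : ℕ} (h : n ≤ B.card) (T : Finset F)
    (hT : T.card < n) : ∃ x ∈ B, x ∉ T := by
  by_contra hcon
  push Not at hcon
  have := card_le_card (show B ⊆ T from hcon)
  omega

variable {S} in
theorem KE8.conn_erase {B : Finset F} (h : S.KE8 B) : ∀ l ∈ B, S.Conn (B.erase l) := by
  intro l hl i hi j hj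
  obtain ⟨h8, h2⟩ := h
  have hne : B.erase l ≠ univ := fun e => (notMem_erase l B) (by rw [e]; exact mem_univ _)
  by_cases hij : i = j
  · rw [hij]; exact S.refl hne hj
  obtain ⟨hil, hiB⟩ := mem_erase.mp hi
  obtain ⟨hjl, hjB⟩ := mem_erase.mp hj
  have key : ∀ z ∈ B, z ≠ i → z ≠ j → z ≠ l → ¬ S.Conn {i, j, z, l} →
      S.rel (B.erase l) i j := by
    intro z hz hzi hzj hzl hn
    obtain ⟨w, hw, -, -, -, h6, -⟩ := h2 i hiB j hjB z hz hij hzi.symm hzj.symm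
    have hwl : w ≠ l := fun e => hn (by rw [← e]; exact h6)
    refine S.mono (A := {i, j, z, w}) ?_ hne (h6 i (by simp) j (by simp))
    intro x hx
    simp only [mem_insert, mem_singleton] at hx
    rcases hx with rfl | rfl | rfl | rfl
    · exact hi
    · exact hj
    · exact mem_erase.mpr ⟨hzl, hz⟩
    · exact mem_erase.mpr ⟨hwl, hw⟩
  have c3 : ({i, j, l} : Finset F).card < 4 := lt_of_le_of_lt card_le_three (by omega)
  have c4 : ∀ z, ({i, j, l, z} : Finset F).card < 5 := fun z => lt_of_le_of_lt card_le_four (by omega)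
  obtain ⟨z, hz, hz'⟩ := exists_mem_four (n := 4) (B := B) (by omega) _ c3
  simp only [mem_insert, mem_singleton, not_or] at hz'
  obtain ⟨y, hy, hy'⟩ := exists_mem_four (n := 5) (B := B) (by omega) _ (c4 z)
  simp only [mem_insert, mem_singleton, not_or] at hy'
  by_cases hc : S.Conn {i, j, z, l}
  · by_cases hc' : S.Conn {i, j, y, l}
    · exfalso
      obtain ⟨w, -, -, -, -, -, h7⟩ := h2 i hiB j hjB l hl hij hil hjl
      have e1 : ({i, j, z, l} : Finset F) = {i, j, l, z} := by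
        ext x; simp only [mem_insert, mem_singleton]; tauto
      have e2 : ({i, j, y, l} : Finset F) = {i, j, l, y} := by
        ext x; simp only [mem_insert, mem_singleton]; tauto
      rw [e1] at hc
      rw [e2] at hc'
      exact hy'.2.2.2 ((h7 y hy hy'.1 hy'.2.1 hy'.2.2.1 hc').trans
        (h7 z hz hz'.1 hz'.2.1 hz'.2.2 hc).symm)
    · exact key y hy hy'.1 hy'.2.1 hy'.2.2.1 hc'
  · exact key z hz hz'.1 hz'.2.1 hz'.2.2 hc

/-- the list of theorem T -/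
def Kinds (B : Finset F) : Prop :=
  B.card = 1 ∨ B.card = 2 ∨ S.KL B ∨ S.KF B ∨ S.KD4 B ∨ (∃ p, S.KO B p) ∨ (∃ p, S.KD B p) ∨
    S.KE7 B ∨ S.KE8 B

/-- embeddings of frames: permutations induced by elements of `N_G(D(S))`, and the inclusion of the frame of a
piece -/
structure Hom {F' : Type*} [Fintype F'] {G' : Type*} [Group G'] (S' : Data F' G') (S : Data F G) (f : F' ↪ F) :
    Prop where
  rel : ∀ A i j, S.rel (A.map f) (f i) (f j) ↔ S'.rel A i j
  prod : ∀ a b c d, S.z (f a) * S.z (f b) * S.z (f c) * S.z (f d) = 1 ↔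
    S'.z a * S'.z b * S'.z c * S'.z d = 1
  eq : ∀ a b, S.z (f a) = S.z (f b) ↔ S'.z a = S'.z b
  sgl : ∀ a, S.sgl (f a) ↔ S'.sgl a
  cen : ∀ A k, S.cen (A.map f) (f k) ↔ S'.cen A k

/-- automorphisms -/
def IsAut (σ : Equiv.Perm F) : Prop := Hom S S σ.toEmbedding

theorem IsAut.rel {S : Data F G} {σ : Equiv.Perm F} (h : S.IsAut σ) : S.toSys.IsAut σ :=
  Hom.rel h

section Map

variable {S} {F' : Type*} [Fintype F'] {G' : Type*} [Group G'] {S' : Data F' G'} {f : F' ↪ F}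

omit [Fintype F] [Fintype F'] in
theorem mem_map_emb (f : F' ↪ F) {A : Finset F'} {x : F'} : f x ∈ A.map f ↔ x ∈ A := by
  simp

omit [Fintype F] [Fintype F'] in
theorem erase_map_emb (f : F' ↪ F) (A : Finset F') (l : F') :
    (A.map f).erase (f l) = (A.erase l).map f := by
  rw [map_erase]

omit [Fintype F] [Fintype F'] in
theorem pair_map_emb (f : F' ↪ F) (i j : F') :
    ({f i, f j} : Finset F) = ({i, j} : Finset F').map f := by
  simp

theorem Hom.conn (h : Hom S' S f) (A : Finset F') : S.Conn (A.map f) ↔ S'.Conn A := by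
  constructor
  · intro hc i hi j hj
    rw [← h.rel A i j]
    exact hc _ (mem_map_of_mem _ hi) _ (mem_map_of_mem _ hj)
  · intro hc i hi j hj
    obtain ⟨i', hi', rfl⟩ := mem_map.mp hi
    obtain ⟨j', hj', rfl⟩ := mem_map.mp hj
    exact (h.rel A i' j').mpr (hc i' hi' j' hj')

theorem Prod4.map (h : Hom S' S f) {B : Finset F'} (hB : S'.Prod4 B) : S.Prod4 (B.map f) := by
  intro a b c d habcd
  have mem : ∀ x : F, x ∈ B.map f ↔ x = a ∨ x = b ∨ x = c ∨ x = d := by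
    intro x; rw [habcd]; simp
  obtain ⟨a, -, rfl⟩ := mem_map.mp ((mem a).mpr (Or.inl rfl))
  obtain ⟨b, -, rfl⟩ := mem_map.mp ((mem b).mpr (Or.inr (Or.inl rfl)))
  obtain ⟨c, -, rfl⟩ := mem_map.mp ((mem c).mpr (Or.inr (Or.inr (Or.inl rfl))))
  obtain ⟨d, -, rfl⟩ := mem_map.mp ((mem d).mpr (Or.inr (Or.inr (Or.inr rfl))))
  rw [h.prod]
  apply hB
  ext x
  rw [← mem_map_emb f, habcd]
  simp

theorem KL.map (h : Hom S' S f) {B : Finset F'} (hB : S'.KL B) : S.KL (B.map f) := by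
  obtain ⟨h1, h2, h3⟩ := hB
  refine ⟨by rw [card_map]; exact h1, ?_, ?_⟩
  · intro l hl
    obtain ⟨l, hl', rfl⟩ := mem_map.mp hl
    rw [erase_map_emb, h.conn]
    exact h2 l hl'
  · intro i hi j hj hij
    obtain ⟨i, hi', rfl⟩ := mem_map.mp hi
    obtain ⟨j, hj', rfl⟩ := mem_map.mp hj
    rw [pair_map_emb, h.conn]
    exact h3 i hi' j hj' (fun e => hij (by rw [e]))

theorem KF.map (h : Hom S' S f) {B : Finset F'} (hB : S'.KF B) : S.KF (B.map f) := by
  obtain ⟨h1, h2, h3, h4⟩ := hB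
  refine ⟨by rw [card_map]; exact h1, ?_, h3.map h, ?_⟩
  · intro l hl
    obtain ⟨l, hl', rfl⟩ := mem_map.mp hl
    rw [erase_map_emb, h.conn]
    exact h2 l hl'
  · intro i hi j hj hij
    obtain ⟨i, hi', rfl⟩ := mem_map.mp hi
    obtain ⟨j, hj', rfl⟩ := mem_map.mp hj
    rw [h.eq] at hij
    rw [h4 i hi' j hj' hij]

theorem sgl_map (h : Hom S' S f) {B : Finset F'} (hB : ∀ l ∈ B, S'.sgl l) :
    ∀ l ∈ B.map f, S.sgl l := by
  intro l hl
  obtain ⟨l, hl', rfl⟩ := mem_map.mp hl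
  rw [h.sgl]
  exact hB l hl'

theorem KD4.map (h : Hom S' S f) {B : Finset F'} (hB : S'.KD4 B) : S.KD4 (B.map f) := by
  obtain ⟨h1, h2, h3, h4, h5⟩ := hB
  refine ⟨by rw [card_map]; exact h1, ?_, h3.map h, ?_, sgl_map h h5⟩
  · intro l hl i hi j hj hij
    obtain ⟨l, hl', rfl⟩ := mem_map.mp hl
    rw [erase_map_emb] at hi hj ⊢
    obtain ⟨i, hi', rfl⟩ := mem_map.mp hi
    obtain ⟨j, hj', rfl⟩ := mem_map.mp hj
    rw [h.rel]
    exact h2 l hl' i hi' j hj' (fun e => hij (by rw [e]))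
  · intro l hl
    obtain ⟨l, hl', rfl⟩ := mem_map.mp hl
    rw [h.cen]
    exact h4 l hl'

/-- the pairing on the image -/
noncomputable def pext (f : F' ↪ F) (p : F' → F') : F → F := Function.extend f (f ∘ p) id

omit [Fintype F] [Fintype F'] in
theorem pext_apply (f : F' ↪ F) (p : F' → F') (x : F') : pext f p (f x) = f (p x) :=
  f.injective.extend_apply _ _ _

omit [Fintype F] [Fintype F'] in
theorem Pairing.map {B : Finset F'} {p : F' → F'} (hB : Pairing B p) (f : F' ↪ F) :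
    Pairing (B.map f) (pext f p) := by
  intro l hl
  obtain ⟨l, hl', rfl⟩ := mem_map.mp hl
  obtain ⟨h1, h2, h3⟩ := hB l hl'
  rw [pext_apply, pext_apply]
  exact ⟨(mem_map_emb f).mpr h1, fun e => h2 (f.injective e), by rw [h3]⟩

theorem PairSplit.map (h : Hom S' S f) {B : Finset F'} {p : F' → F'} (hB : S'.PairSplit B p) :
    S.PairSplit (B.map f) (pext f p) := by
  intro l hl i hi j hj hil hjl
  obtain ⟨l, hl', rfl⟩ := mem_map.mp hl
  obtain ⟨i, hi', rfl⟩ := mem_map.mp hi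
  obtain ⟨j, hj', rfl⟩ := mem_map.mp hj
  rw [pext_apply, erase_map_emb, h.rel, hB l hl' i hi' j hj' (fun e => hil (by rw [e]))
    (fun e => hjl (by rw [e])), f.injective.eq_iff, f.injective.eq_iff]

theorem KO.map (h : Hom S' S f) {B : Finset F'} {p : F' → F'} (hB : S'.KO B p) :
    S.KO (B.map f) (pext f p) := by
  obtain ⟨h1, h2, h3, h4, h5⟩ := hB
  refine ⟨by rw [card_map]; exact h1, h2.map f, h3.map h, ?_, sgl_map h h5⟩
  intro i hi j hj hij
  obtain ⟨i, hi', rfl⟩ := mem_map.mp hi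
  obtain ⟨j, hj', rfl⟩ := mem_map.mp hj
  rw [pext_apply, pair_map_emb, h.conn, h4 i hi' j hj' (fun e => hij (by rw [e])),
    f.injective.eq_iff]

theorem KD.map (h : Hom S' S f) {B : Finset F'} {p : F' → F'} (hB : S'.KD B p) :
    S.KD (B.map f) (pext f p) := by
  obtain ⟨h1, h2, h3, h4, h5⟩ := hB
  refine ⟨by rw [card_map]; exact h1, h2.map f, h3.map h, ?_, sgl_map h h5⟩
  intro A hA hA4
  obtain ⟨A', hA', rfl⟩ := subset_map_iff.mp hA
  rw [card_map] at hA4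
  rw [h.conn, h4 A' hA' hA4]
  constructor
  · intro hp a ha
    obtain ⟨a, ha', rfl⟩ := mem_map.mp ha
    rw [pext_apply]
    exact (mem_map_emb f).mpr (hp a ha')
  · intro hp a ha
    have := hp (f a) ((mem_map_emb f).mpr ha)
    rw [pext_apply] at this
    exact (mem_map_emb f).mp this

theorem KE7.map (h : Hom S' S f) {B : Finset F'} (hB : S'.KE7 B) : S.KE7 (B.map f) := by
  obtain ⟨h1, h2⟩ := hB
  refine ⟨by rw [card_map]; exact h1, ?_⟩
  intro l hl
  obtain ⟨l, hl', rfl⟩ := mem_map.mp hl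
  rw [erase_map_emb, h.conn]
  exact h2 l hl'

theorem KE8.map (h : Hom S' S f) {B : Finset F'} (hB : S'.KE8 B) : S.KE8 (B.map f) := by
  obtain ⟨h1, h2⟩ := hB
  have hq : ∀ x y z w : F', S.Conn {f x, f y, f z, f w} ↔ S'.Conn {x, y, z, w} := by
    intro x y z w
    rw [← h.conn]
    simp
  refine ⟨by rw [card_map]; exact h1, ?_⟩
  intro x hx y hy z hz hxy hxz hyz
  obtain ⟨x, hx', rfl⟩ := mem_map.mp hx
  obtain ⟨y, hy', rfl⟩ := mem_map.mp hy
  obtain ⟨z, hz', rfl⟩ := mem_map.mp hz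
  obtain ⟨w, hw, h3, h4, h5, h6, h7⟩ := h2 x hx' y hy' z hz' (fun e => hxy (by rw [e]))
    (fun e => hxz (by rw [e])) (fun e => hyz (by rw [e]))
  refine ⟨f w, mem_map_of_mem _ hw, fun e => h3 (f.injective e), fun e => h4 (f.injective e),
    fun e => h5 (f.injective e), (hq _ _ _ _).mpr h6, ?_⟩
  intro w' hw' h8 h9 h10 h11
  obtain ⟨w', hw'', rfl⟩ := mem_map.mp hw'
  rw [hq] at h11
  rw [h7 w' hw'' (fun e => h8 (by rw [e])) (fun e => h9 (by rw [e])) (fun e => h10 (by rw [e])) h11]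

theorem Kinds.map (h : Hom S' S f) {B : Finset F'} (hB : S'.Kinds B) : S.Kinds (B.map f) := by
  rcases hB with h1 | h1 | h1 | h1 | h1 | ⟨p, h1⟩ | ⟨p, h1⟩ | h1 | h1
  · exact Or.inl (by rw [card_map]; exact h1)
  · exact Or.inr (Or.inl (by rw [card_map]; exact h1))
  · exact Or.inr (Or.inr (Or.inl (h1.map h)))
  · exact Or.inr (Or.inr (Or.inr (Or.inl (h1.map h))))
  · exact Or.inr (Or.inr (Or.inr (Or.inr (Or.inl (h1.map h)))))
  · exact Or.inr (Or.inr (Or.inr (Or.inr (Or.inr (Or.inl ⟨_, h1.map h⟩)))))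
  · exact Or.inr (Or.inr (Or.inr (Or.inr (Or.inr (Or.inr (Or.inl ⟨_, h1.map h⟩))))))
  · exact Or.inr (Or.inr (Or.inr (Or.inr (Or.inr (Or.inr (Or.inr (Or.inl (h1.map h))))))))
  · exact Or.inr (Or.inr (Or.inr (Or.inr (Or.inr (Or.inr (Or.inr (Or.inr (h1.map h))))))))

end Map

end Data

end Cfsg.Agent.Cit.TypeDet
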