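import Mathlib
import Cfsg.Agent.Cit.TypeDet.Typed
import Cfsg.Agent.Nodes.KindsOf
import Cfsg.Agent.Nodes.TyStd
import Cfsg.Agent.Nodes.RKindsA

/-!
# The typed kind of charts of type `A n`

`kt_A`: for a chart of type `A n` of `L` and a maximal commuting family of members of `OmIn Om L`:
`(data (OmIn Om L) K hK hc).KT (.A n) univ`.
-/

set_option autoImplicit false

namespace Cfsg.Agent.Cit.TypeDet.KindsA

open Finset Classical
open Cfsg.Agent.Nodes.Chart Cfsg.Agent.Nodes.TyStd Cfsg.Agent.Nodes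
  Cfsg.Agent.ChevalleyStructure.CoxeterGeom Cfsg.Agent.Tits.Roots
open Cfsg.Agent.LieRecognition.BNCox (cA)

variable {G : Type*} [Group G] [Finite G] {Om : Set (Subgroup G)} {p : ℕ} {L : Subgroup G} {κ : Type*}
  [Fintype κ] {K : κ → Subgroup G}

/-- Charts of type `A n`. -/
theorem kt_A (hyp : Hyp Om) (c : Chart Om p L) {n : ℕ} (h : c.IsTy (.A n)) (hK : ∀ i, K i ∈ OmIn Om L)
    (hc : ∀ i j, i ≠ j → cm (K i) (K j)) (hmax : ∀ L' ∈ OmIn Om L, ∃ k, ¬ cm L' (K k)) :
    (data (OmIn Om L) K hK hc).KT (.A n) univ := by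
  let cs' : CoxeterSystem (cA n) (cA n).Group := (cA n).toCoxeterSystem
  have hf : Finite (cA n).Group := finite_of_isTy c h cs'
  let _ : Fintype (cA n).Group := Fintype.ofFinite _
  have htr : ∀ r ∈ {x | IsRoot cs' (Ty.A n).isCartan x}, ∀ s ∈ {x | IsRoot cs' (Ty.A n).isCartan x},
      ∃ w, s = rep cs' (Ty.A n).isCartan w r := fun r hr s hs => by
    obtain ⟨w, hw⟩ := KindA.trans cs' (Ty.A n).isCartan hr hs
    exact ⟨w, hw.symm⟩
  obtain ⟨e, hM, hA, hR, h1⟩ := exists_chart_of_isTy c h (W' := (cA n).Group) cs'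
    (R' := {x | IsRoot cs' (Ty.A n).isCartan x})
    (fun r hr => hr) (fun r hr w => IsRoot.act hr w) (fun i => ⟨fun _ => trivial, fun _ => isRoot_sr _ _ i⟩) htr
  let c' := reindex c e hM hA cs' (Ty.A n).isCartan (fun r hr => hr) (fun r hr w => IsRoot.act hr w) hR htr
  have FS : KindBase.FrameSys c'.cs c'.h c'.R (KindA.g n) := KindA.frameSys cs' (Ty.A n).isCartan
  have hcard : (univ : Finset κ).card = (n + 1) / 2 := by
    rw [card_univ, KindsOf.card_eq hyp c' FS hK hc hmax, Fintype.card_fin]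
  refine ⟨hcard, fun h3 => ?_⟩
  rw [hcard] at h3
  exact KindsOf.kl hyp c' FS hK hc hmax (KindA.rkl cs' (Ty.A n).isCartan (by omega))

end Cfsg.Agent.Cit.TypeDet.KindsA
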