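import Mathlib
import Cfsg.Agent.Cit.TypeDet.Typed
import Cfsg.Agent.Nodes.KindsOf
import Cfsg.Agent.Nodes.RKindsBC

/-!
# The typed kinds of charts of types `B n` and `C n`

helper474's target: for a chart of type `B n` (`n ≥ 2`) or `C n` of `L` and a maximal commuting family of members of
`OmIn Om L`: `(data (OmIn Om L) K hK hc).KT τ univ`.
-/

set_option autoImplicit false

namespace Cfsg.Agent.Cit.TypeDet.KindsBC

open Finset Classical
open Cfsg.Agent.Nodes.Chart Cfsg.Agent.Nodes.KindBC Cfsg.Agent.Nodes.TyStd Cfsg.Agent.Nodes.RKindsBC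
  Cfsg.Agent.Nodes Cfsg.Agent.ChevalleyStructure.CoxeterGeom Cfsg.Agent.Tits.Roots

variable {G : Type*} [Group G] [Finite G] {Om : Set (Subgroup G)} {p : ℕ} {L : Subgroup G} {κ : Type*}
  [Fintype κ] {K : κ → Subgroup G}

/-- Charts of type `C n`. -/
theorem kt_C (hyp : Hyp Om) (c : Chart Om p L) {n : ℕ} (h : c.IsTy (.C n)) (hK : ∀ i, K i ∈ OmIn Om L)
    (hc : ∀ i j, i ≠ j → cm (K i) (K j)) (hmax : ∀ L' ∈ OmIn Om L, ∃ k, ¬ cm L' (K k)) :
    (data (OmIn Om L) K hK hc).KT (.C n) univ := by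
  let cs' : CoxeterSystem (CoxeterMatrix.B n) (CoxeterMatrix.B n).Group := (CoxeterMatrix.B n).toCoxeterSystem
  have hf : Finite (CoxeterMatrix.B n).Group := finite_of_isTy c h cs'
  let _ : Fintype (CoxeterMatrix.B n).Group := Fintype.ofFinite _
  obtain ⟨e, hM, hA, hR, h1⟩ := exists_chart_of_isTy c h (W' := (CoxeterMatrix.B n).Group) cs' (R' := RC n)
    (fun r hr => root_RC cs' hr) (fun r hr w => act_RC cs' hr w) (fun i => sr_mem_RC) (trans_RC cs')
  let c' := reindex c e hM hA cs' (Ty.C n).isCartan (fun r hr => root_RC cs' hr)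
    (fun r hr w => act_RC cs' hr w) hR (trans_RC cs')
  have FS : KindBase.FrameSys c'.cs c'.h c'.R (KindC.fr n) := KindC.frameSys cs'
  have hcard : (univ : Finset κ).card = n := by
    rw [card_univ, KindsOf.card_eq hyp c' FS hK hc hmax, Fintype.card_fin]
  refine ⟨hcard, fun h3 => ?_⟩
  rw [hcard] at h3
  have hRK : RootKinds.RKL c'.cs c'.h (KindC.fr n) :=
    ⟨by rw [Fintype.card_fin]; exact h3, fun l => connC cs' _, fun i j _ => connC cs' _⟩
  exact KindsOf.kl hyp c' FS hK hc hmax hRK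

/-- Charts of type `B n`, `n ≥ 2`. -/
theorem kt_B (hyp : Hyp Om) (c : Chart Om p L) {n : ℕ} (h : c.IsTy (.B n)) (hK : ∀ i, K i ∈ OmIn Om L)
    (hc : ∀ i j, i ≠ j → cm (K i) (K j)) (hmax : ∀ L' ∈ OmIn Om L, ∃ k, ¬ cm L' (K k)) :
    (data (OmIn Om L) K hK hc).KT (.B n) univ := by
  let cs' : CoxeterSystem (CoxeterMatrix.B n) (CoxeterMatrix.B n).Group := (CoxeterMatrix.B n).toCoxeterSystem
  have hf : Finite (CoxeterMatrix.B n).Group := finite_of_isTy c h cs'
  let _ : Fintype (CoxeterMatrix.B n).Group := Fintype.ofFinite _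
  obtain ⟨e, hM, hA, hR, h1⟩ := exists_chart_of_isTy c h (W' := (CoxeterMatrix.B n).Group) cs' (R' := RB n)
    (fun r hr => root_RB cs' hr) (fun r hr w => act_RB cs' hr w) (fun i => sr_mem_RB) (trans_RB cs')
  let c' := reindex c e hM hA cs' (Ty.B n).isCartan (fun r hr => root_RB cs' hr)
    (fun r hr w => act_RB cs' hr w) hR (trans_RB cs')
  have FS : KindBase.FrameSys c'.cs c'.h c'.R (KindB.fr n) := KindB.frameSys cs'
  have hcard : (univ : Finset κ).card = 2 * (n / 2) := by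
    rw [card_univ, KindsOf.card_eq hyp c' FS hK hc hmax, Fintype.card_fin]
  refine ⟨hcard, fun h3 => ?_⟩
  rw [hcard] at h3
  have hRK : RootKinds.RKO c'.cs c'.h c'.R (KindB.fr n) KindB.pt := rkoB cs' (by omega)
  exact KindsOf.ko hyp c' FS hK hc hmax hRK

end Cfsg.Agent.Cit.TypeDet.KindsBC
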