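import Cfsg.Agent.Cit.TypeDet.One

/-!
# STEP 3 of #6096: the frame is connected and `Δ_k` has at least two components, `r ≥ 5`
-/

set_option autoImplicit false

namespace Cfsg.Agent.Cit.TypeDet

open Finset Classical

namespace Data

variable {F : Type*} [Fintype F] {G : Type*} [Group G] {S : Data F G}

theorem KO.congr {B : Finset F} {p q : F → F} (hpq : ∀ l ∈ B, q l = p l) (h : S.KO B q) :
    S.KO B p := by
  obtain ⟨h1, h2, h3, h4, h5⟩ := h
  refine ⟨h1, ?_, ?_, ?_, h5⟩
  · intro l hl
    obtain ⟨a, b, c⟩ := h2 l hl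
    have e := hpq l hl
    rw [← e]
    exact ⟨a, b, by rw [← hpq _ a]; exact c⟩
  · intro l hl i hi j hj hil hjl
    rw [← hpq l hl]
    exact h3 l hl i hi j hj hil hjl
  · intro i hi j hj hij
    rw [← hpq i hi]
    exact h4 i hi j hj hij

theorem KD.congr {B : Finset F} {p q : F → F} (hpq : ∀ l ∈ B, q l = p l) (h : S.KD B q) :
    S.KD B p := by
  obtain ⟨h1, h2, h3, h4, h5⟩ := h
  refine ⟨h1, ?_, ?_, ?_, h5⟩
  · intro l hl
    obtain ⟨a, b, c⟩ := h2 l hl
    have e := hpq l hl
    rw [← e]
    exact ⟨a, b, by rw [← hpq _ a]; exact c⟩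
  · intro l hl i hi j hj hil hjl
    rw [← hpq l hl]
    exact h3 l hl i hi j hj hil hjl
  · intro A hA hA4
    rw [h4 A hA hA4]
    constructor
    · intro h a ha
      rw [← hpq a (hA ha)]
      exact h a ha
    · intro h a ha
      rw [hpq a (hA ha)]
      exact h a ha

theorem erase_ne_univ (k : F) : (univ : Finset F).erase k ≠ univ := by
  intro e
  have : k ∈ (univ : Finset F).erase k := by rw [e]; exact mem_univ _
  exact (notMem_erase _ _) this

theorem mem_er {x y : F} (h : x ≠ y) : x ∈ (univ : Finset F).erase y :=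
  mem_erase.mpr ⟨h, mem_univ _⟩

/-- a connected set of maximal size is a block of every `Δ_m`, `m ∉ B` -/
theorem blk_eq_of_max {B : Finset F} (hB : S.Conn B)
    (hmax : ∀ k i : F, i ≠ k → (S.blk (univ.erase k) i).card ≤ B.card) {m x : F} (hm : m ∉ B)
    (hx : x ∈ B) : S.blk (univ.erase m) x = B := by
  have hxm : x ≠ m := fun e => hm (e ▸ hx)
  have hsub : B ⊆ univ.erase m := fun y hy => mem_er (fun e => hm (e ▸ hy))
  refine (eq_of_subset_of_card_le (fun y hy => ?_) (hmax m x hxm)).symm
  rw [S.mem_blk]
  exact S.mono hsub (erase_ne_univ m) (hB x hx y hy)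

/-- the output of the orthogonal branch -/
def OutO (S : Data F G) (p : F → F) : Prop :=
  (∀ k : F, p k ≠ k ∧ p (p k) = k) ∧ ∀ k : F, S.sgl k ∧
    S.blk (univ.erase k) (p k) = {p k} ∧
    (∀ i, i ≠ k → i ≠ p k → S.blk (univ.erase k) i = (univ.erase k).erase (p k)) ∧
    (S.KD4 ((univ.erase k).erase (p k)) ∨ S.KO ((univ.erase k).erase (p k)) p ∨
      S.KD ((univ.erase k).erase (p k)) p)

/-- the case `|F - B| = 2` -/
theorem many_three (hr : 5 ≤ Fintype.card F) {b : ℕ} (hb : b + 2 = Fintype.card F)
    (hk : ∀ k i : F, i ≠ k → S.Kinds (S.blk (univ.erase k) i))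
    (hmax : ∀ k i : F, i ≠ k → (S.blk (univ.erase k) i).card ≤ b)
    (hex : ∀ k : F, ∃ i, i ≠ k ∧ (S.blk (univ.erase k) i).card = b) :
    Even (Fintype.card F) ∧ ∃ p : F → F, S.OutO p := by
  have hcard : ∀ k : F, ((univ : Finset F).erase k).card = b + 1 := fun k => by
    rw [card_erase_of_mem (mem_univ _), card_univ]; omega
  choose x hx hxb using hex
  have h1 : ∀ k : F, ∃ y, ((univ : Finset F).erase k) \ S.blk (univ.erase k) (x k) = {y} := by
    intro k
    refine card_eq_one.mp ?_
    rw [card_sdiff_of_subset (S.blk_subset _ _), hcard, hxb]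
    omega
  choose p hp using h1
  have pk : ∀ k, p k ≠ k ∧ p k ∉ S.blk (univ.erase k) (x k) := by
    intro k
    have : p k ∈ ((univ : Finset F).erase k) \ S.blk (univ.erase k) (x k) := by
      rw [hp k]; exact mem_singleton_self _
    rw [mem_sdiff, mem_erase] at this
    exact ⟨this.1.1, this.2⟩
  have hB : ∀ k, S.blk (univ.erase k) (x k) = (univ.erase k).erase (p k) := by
    intro k
    ext y
    constructor
    · intro hy
      refine mem_erase.mpr ⟨fun e => (pk k).2 (e ▸ hy), S.blk_subset _ _ hy⟩
    · intro hy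
      rw [mem_erase] at hy
      by_contra hn
      have : y ∈ ((univ : Finset F).erase k) \ S.blk (univ.erase k) (x k) :=
        mem_sdiff.mpr ⟨hy.2, hn⟩
      rw [hp k, mem_singleton] at this
      exact hy.1 this
  have hconn : ∀ k, S.Conn ((univ.erase k).erase (p k)) := by
    intro k
    rw [← hB k]
    exact S.conn_blk (erase_ne_univ k) _
  have hBc : ∀ k, (((univ : Finset F).erase k).erase (p k)).card = b := by
    intro k
    rw [← hB k]; exact hxb k
  -- blocks
  have hblk : ∀ k m y : F, m ∉ ((univ : Finset F).erase k).erase (p k) →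
      y ∈ ((univ : Finset F).erase k).erase (p k) →
      S.blk (univ.erase m) y = (univ.erase k).erase (p k) := by
    intro k m y hm hy
    exact blk_eq_of_max (hconn k) (fun k' i hi => by rw [hBc]; exact hmax k' i hi) hm hy
  have pp : ∀ k, p (p k) = k := by
    intro k
    -- `B_{p k} = B_k`
    have e1 : ((univ : Finset F).erase k).erase (p k) =
        ((univ : Finset F).erase (p k)).erase (p (p k)) := by
      -- they meet
      have h2 : ¬ Disjoint (((univ : Finset F).erase k).erase (p k))
          (((univ : Finset F).erase (p k)).erase (p (p k))) := by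
        intro hd
        have h3 := card_union_of_disjoint hd
        rw [hBc, hBc] at h3
        have h4 := card_le_univ ((((univ : Finset F).erase k).erase (p k)) ∪
          (((univ : Finset F).erase (p k)).erase (p (p k))))
        have h5 : ((((univ : Finset F).erase k).erase (p k)) ∪
          (((univ : Finset F).erase (p k)).erase (p (p k)))) ⊆ univ.erase (p k) := by
          intro y hy
          rw [mem_union] at hy
          rcases hy with hy | hy
          · exact mem_er (mem_erase.mp hy).1
          · exact (mem_erase.mp hy).2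
        have h6 := card_le_card h5
        rw [hcard, h3] at h6
        omega
      rw [not_disjoint_iff] at h2
      obtain ⟨y, hy1, hy2⟩ := h2
      rw [← hblk k (p k) y (by simp) hy1, ← hblk (p k) (p k) y (by simp) hy2]
    by_contra hne
    have : k ∈ ((univ : Finset F).erase (p k)).erase (p (p k)) :=
      mem_erase.mpr ⟨fun e => hne e.symm, mem_er (pk k).1.symm⟩
    rw [← e1] at this
    simp at this
  have hpair : ∀ k, p k ≠ k ∧ p (p k) = k := fun k => ⟨(pk k).1, pp k⟩
  have hone : ∀ k, S.blk (univ.erase k) (p k) = {p k} := by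
    intro k
    ext y
    rw [mem_singleton]
    constructor
    · intro hy
      by_contra hne
      have hy' := S.blk_subset _ _ hy
      have h2 : y ∈ S.blk (univ.erase k) (x k) := by
        rw [hB k]; exact mem_erase.mpr ⟨hne, hy'⟩
      rw [S.mem_blk] at hy h2
      exact (pk k).2 (S.mem_blk.mpr (S.trans h2 (S.symm hy)))
    · rintro rfl
      exact S.mem_blk.mpr (S.refl (erase_ne_univ k) (mem_er (pk k).1))
  have hrest : ∀ k i, i ≠ k → i ≠ p k → S.blk (univ.erase k) i = (univ.erase k).erase (p k) := by
    intro k i hik hip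
    exact hblk k k i (by simp) (mem_erase.mpr ⟨hip, mem_er hik⟩)
  -- kinds
  have hkind : ∀ k, (S.KD4 ((univ.erase k).erase (p k)) ∨ S.KO ((univ.erase k).erase (p k)) p ∨
      S.KD ((univ.erase k).erase (p k)) p) := by
    intro k
    set B := ((univ : Finset F).erase k).erase (p k) with hBdef
    have hK : S.Kinds B := by
      have := hk k (x k) (hx k)
      rwa [hB k] at this
    have hpl : ∀ l ∈ B, p l ∈ B := by
      intro l hl
      rw [hBdef, mem_erase, mem_erase] at hl ⊢
      refine ⟨fun e => hl.2.1 ?_, fun e => hl.1 ?_, mem_univ _⟩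
      · rw [← pp l, e, pp]
      · rw [← pp l, e]
    have hs : ∀ l ∈ B, ∀ y, S.rel (B.erase l) (p l) y → y = p l := by
      intro l hl y hy
      have h2 : S.rel (univ.erase l) (p l) y :=
        S.mono (fun z hz => mem_er (mem_erase.mp hz).1) (erase_ne_univ l) hy
      have h3 := S.mem_blk.mpr h2
      rw [hone l, mem_singleton] at h3
      exact h3
    have hB3 : B.card = b := hBc k
    obtain ⟨l, hl⟩ : B.Nonempty := card_pos.mp (by omega)
    have hnc : ¬ S.Conn (B.erase l) := by
      intro hc
      have h2 : (B.erase l).card = b - 1 := by rw [card_erase_of_mem hl, hB3]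
      have h3 : 1 < (B.erase l).card := by omega
      obtain ⟨y, hy, hne⟩ := exists_mem_ne h3 (p l)
      exact hne (hs l hl y (hc (p l) (mem_erase.mpr ⟨(pk l).1, hpl l hl⟩) y hy))
    have huniq : ∀ q : F → F, 4 ≤ B.card → Pairing B q → S.PairSplit B q → ∀ l ∈ B, q l = p l := by
      intro q h4 hq hsplit l hl
      by_contra hne
      have h2 : ((B.erase l).erase (p l)).card = b - 2 := by
        rw [card_erase_of_mem (mem_erase.mpr ⟨(pk l).1, hpl l hl⟩), card_erase_of_mem hl, hB3]
        omega
      have h3 : 1 < ((B.erase l).erase (p l)).card := by omega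
      obtain ⟨y, hy, hy2⟩ := exists_mem_ne h3 (q l)
      rw [mem_erase, mem_erase] at hy
      have h5 := (hsplit l hl (p l) (hpl l hl) y hy.2.2 (pk l).1 hy.2.1).mpr
        ⟨fun e => absurd e.symm hne, fun e => absurd e hy2⟩
      exact hy.1 (hs l hl y h5)
    rcases hK with h | h | h | h | h | ⟨q, h⟩ | ⟨q, h⟩ | h | h
    · omega
    · omega
    · exact absurd (h.2.1 l hl) hnc
    · exact absurd (h.2.1 l hl) hnc
    · exact Or.inl h
    · exact Or.inr (Or.inl (h.congr (huniq q h.1 h.2.1 h.2.2.1)))
    · exact Or.inr (Or.inr (h.congr (huniq q (by have := h.1; omega) h.2.1 h.2.2.1)))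
    · exact absurd (h.2 l hl) hnc
    · exact absurd (h.conn_erase l hl) hnc
  have hsgl : ∀ k, ∀ l ∈ ((univ : Finset F).erase k).erase (p k), S.sgl l := by
    intro k l hl
    rcases hkind k with h | h | h
    · exact h.2.2.2.2 l hl
    · exact h.2.2.2.2 l hl
    · exact h.2.2.2.2 l hl
  refine ⟨?_, p, hpair, fun k => ⟨?_, hone k, hrest k, hkind k⟩⟩
  · have h2 : Pairing (univ : Finset F) p := fun l _ => ⟨mem_univ _, (hpair l).1, (hpair l).2⟩
    have h3 := even_card_of_pairing h2
    rwa [card_univ] at h3
  · obtain ⟨l, h2, h3, -⟩ := exists_ne_three (by omega) k (p k) k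
    refine hsgl l k (mem_erase.mpr ⟨fun e => h3 ?_, mem_er h2.symm⟩)
    rw [e, pp]

theorem mem_map_univ_erase (σ : Equiv.Perm F) (k : F) :
    ((univ : Finset F).erase k).map σ.toEmbedding = univ.erase (σ k) := univ_erase_map σ k

/-- **STEP 3** -/
theorem many (hr : 5 ≤ Fintype.card F)
    (ht : ∀ k l : F, ∃ σ : Equiv.Perm F, S.IsAut σ ∧ σ k = l)
    (hk : ∀ k i : F, i ≠ k → S.Kinds (S.blk (univ.erase k) i))
    (hconn : ∀ A : Finset F, A.Nonempty → A ≠ univ →
      ∃ l, ∃ i ∈ A, ∃ j, j ∉ A ∧ S.rel (univ.erase l) i j)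
    (hm : ∃ k : F, ¬ S.Conn (univ.erase k)) :
    Even (Fintype.card F) ∧ ∃ p : F → F, S.OutO p := by
  have hcard : ∀ k : F, ((univ : Finset F).erase k).card = Fintype.card F - 1 := fun k => by
    rw [card_erase_of_mem (mem_univ _), card_univ]
  -- no `Δ_k` is connected
  have hnc : ∀ k : F, ¬ S.Conn (univ.erase k) := by
    obtain ⟨k₁, hk₁⟩ := hm
    intro k hc
    obtain ⟨σ, hσ, h1⟩ := ht k k₁
    apply hk₁
    rw [← h1, ← univ_erase_map, hσ.rel.conn]
    exact hc
  -- a block of maximal size
  have hF : Nonempty F := Fintype.card_pos_iff.mp (by omega)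
  obtain ⟨a₀⟩ := hF
  obtain ⟨a₁, ha₁, -, -⟩ := exists_ne_three (by omega) a₀ a₀ a₀
  obtain ⟨⟨k₀, i₀⟩, hq, hmax'⟩ := exists_max_image
    ((univ : Finset (F × F)).filter (fun q => q.2 ≠ q.1))
    (fun q => (S.blk (univ.erase q.1) q.2).card) ⟨(a₀, a₁), by simpa using ha₁⟩
  have hi₀ : i₀ ≠ k₀ := by simpa using hq
  have hmax : ∀ k i : F, i ≠ k → (S.blk (univ.erase k) i).card ≤
      (S.blk (univ.erase k₀) i₀).card := fun k i hik =>
    hmax' (k, i) (by simpa using hik)
  set B := S.blk (univ.erase k₀) i₀ with hBdef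
  have hBc : S.Conn B := S.conn_blk (erase_ne_univ _) _
  have hk₀ : k₀ ∉ B := fun h => (mem_erase.mp (S.blk_subset _ _ h)).1 rfl
  have hi₀B : i₀ ∈ B := S.mem_blk.mpr (S.refl (erase_ne_univ _) (mem_er hi₀))
  have hBu : B ≠ univ := fun e => hk₀ (e ▸ mem_univ _)
  have hblk : ∀ {m x : F}, m ∉ B → x ∈ B → S.blk (univ.erase m) x = B := fun hm hx =>
    blk_eq_of_max hBc hmax hm hx
  -- sizes by transitivity
  have hex : ∀ k : F, ∃ i, i ≠ k ∧ (S.blk (univ.erase k) i).card = B.card := by
    intro k
    obtain ⟨σ, hσ, h1⟩ := ht k₀ k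
    refine ⟨σ i₀, fun e => hi₀ (σ.injective (by rw [e, h1])), ?_⟩
    rw [← h1, ← univ_erase_map, hσ.rel.blk, card_map]
  -- the connecting triple
  obtain ⟨l, i, hi, j, hj, hij⟩ := hconn B ⟨i₀, hi₀B⟩ hBu
  have hl : l ∈ B := by
    by_contra hl
    have := S.mem_blk.mpr hij
    rw [hblk hl hi] at this
    exact hj this
  have hil : i ≠ l := (mem_erase.mp (S.memL hij)).1
  set B' := S.blk (univ.erase l) i with hB'def
  have hB'c : S.Conn B' := S.conn_blk (erase_ne_univ _) _
  have hiB' : i ∈ B' := S.mem_blk.mpr (S.refl (erase_ne_univ _) (mem_er hil))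
  have hlB' : l ∉ B' := fun h => (mem_erase.mp (S.blk_subset _ _ h)).1 rfl
  have hjB' : j ∈ B' := S.mem_blk.mpr hij
  have sep : ∀ j', j' ∉ B → j' ∈ B' → ∀ k, k ∉ B → k ≠ j' →
      k ∈ B' ∧ ¬ S.rel (B'.erase k) i j' := by
    intro j' hj' hj'B' k hkB hkj
    have hki : k ≠ i := fun e => hkB (e ▸ hi)
    have habs : ¬ S.rel (univ.erase k) i j' := by
      intro h
      have := S.mem_blk.mpr h
      rw [hblk hkB hi] at this
      exact hj' this
    constructor
    · by_contra hn
      apply habs
      have h1 : B' ⊆ ((univ : Finset F).erase l).erase k := fun y hy =>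
        mem_erase.mpr ⟨fun e => hn (e ▸ hy), S.blk_subset _ _ hy⟩
      have h2 : S.blk (((univ : Finset F).erase l).erase k) i = B' :=
        S.blk_eq_of_subset (erase_subset _ _) (erase_ne_univ _)
          (mem_erase.mpr ⟨hki.symm, mem_er hil⟩) h1
      have h3 : S.rel (((univ : Finset F).erase l).erase k) i j' :=
        S.mem_blk.mp (by rw [h2]; exact hj'B')
      exact S.mono (erase_subset_erase _ (erase_subset _ _)) (erase_ne_univ _) h3
    · intro h
      exact habs (S.mono (fun y hy => mem_er (mem_erase.mp hy).1) (erase_ne_univ _) h)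
  set C := (univ : Finset F) \ B with hC
  have memC : ∀ {x : F}, x ∈ C ↔ x ∉ B := by intro x; rw [hC, mem_sdiff]; simp
  have hCB' : ∀ x ∈ C, x ∈ B' := by
    intro x hx
    rw [memC] at hx
    by_cases hxj : x = j
    · rw [hxj]; exact hjB'
    · exact (sep j hj hjB' x hx hxj).1
  have hsep : ∀ x ∈ C, ∀ y ∈ C, x ≠ y → ¬ S.rel (B'.erase x) i y := by
    intro x hx y hy hxy
    exact (sep y (memC.mp hy) (hCB' y hy) x (memC.mp hx) hxy).2
  have hCcard : C.card + B.card = Fintype.card F := by
    rw [hC, card_sdiff_of_subset (subset_univ _), card_univ]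
    have := card_le_univ B
    omega
  -- `|C| ≥ 2`
  have hC2 : 2 ≤ C.card := by
    by_contra hlt
    have h1 : B = univ.erase k₀ := by
      refine eq_of_subset_of_card_le (S.blk_subset _ _) ?_
      rw [hcard]; omega
    exact hnc k₀ (h1 ▸ hBc)
  have hiC : i ∉ C := fun h => (memC.mp h) hi
  obtain ⟨x, hx, y, hy, hxy⟩ := one_lt_card.mp (show 1 < C.card by omega)
  have hxi : x ≠ i := fun e => hiC (e ▸ hx)
  have hyi : y ≠ i := fun e => hiC (e ▸ hy)
  have hnB' : ¬ S.Conn (B'.erase x) := by
    intro h
    exact hsep x hx y hy hxy (h i (mem_erase.mpr ⟨hxi.symm, hiB'⟩) y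
      (mem_erase.mpr ⟨hxy.symm, hCB' y hy⟩))
  have hB'3 : C.card + 1 ≤ B'.card := by
    rw [← card_insert_of_notMem hiC]
    refine card_le_card (fun z hz => ?_)
    rw [mem_insert] at hz
    rcases hz with rfl | hz
    · exact hiB'
    · exact hCB' z hz
  -- the pairing argument
  have hpairarg : ∀ q : F → F, Pairing B' q → S.PairSplit B' q → C.card = 2 := by
    intro q hq hsplit
    by_contra hne
    obtain ⟨z, hz, hzxy⟩ : ∃ z ∈ C, z ∉ ({x, y} : Finset F) := by
      by_contra hcon
      push Not at hcon
      have := card_le_card (show C ⊆ {x, y} from hcon)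
      have h2 := card_le_two (a := x) (b := y)
      omega
    simp only [mem_insert, mem_singleton, not_or] at hzxy
    have hq2 : ∀ u ∈ C, ∀ v ∈ C, u ≠ v → q u = i ∨ q u = v := by
      intro u hu v hv huv
      have h1 := hsep u hu v hv huv
      rw [hsplit u (hCB' u hu) i hiB' v (hCB' v hv) (fun e => hiC (e ▸ hu)) huv.symm] at h1
      by_contra h2
      rw [not_or] at h2
      exact h1 ⟨fun e => absurd e.symm h2.1, fun e => absurd e.symm h2.2⟩
    have hqx : q x = i := by
      rcases hq2 x hx y hy hxy with h | h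
      · exact h
      · rcases hq2 x hx z hz (Ne.symm hzxy.1) with h' | h'
        · exact h'
        · exact absurd (h'.symm.trans h) hzxy.2
    have hqy : q y = i := by
      rcases hq2 y hy x hx hxy.symm with h | h
      · exact h
      · rcases hq2 y hy z hz (Ne.symm hzxy.2) with h' | h'
        · exact h'
        · exact absurd (h'.symm.trans h) hzxy.1
    exact hxy (by rw [← (hq x (hCB' x hx)).2.2, ← (hq y (hCB' y hy)).2.2, hqx, hqy])
  -- the `D4` argument
  have hKB' : S.Kinds B' := hk l i hil
  have hfin : C.card = 2 := by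
    rcases hKB' with h | h | h | h | h | ⟨q, h⟩ | ⟨q, h⟩ | h | h
    · omega
    · omega
    · exact absurd (h.2.1 x (hCB' x hx)) hnB'
    · exact absurd (h.2.1 x (hCB' x hx)) hnB'
    · -- `D4`
      by_contra hne
      have hB'4 : B'.card = 4 := h.1
      have hC3 : C.card = 3 := by omega
      -- `|B| = 4`
      have hB4 : B.card = 4 := by
        obtain ⟨w, hwl, hw⟩ := hex l
        by_cases hwB : w ∈ B'
        · have : S.blk (univ.erase l) w = B' := S.blk_eq_of_rel (S.mem_blk.mp hwB)
          rw [this, hB'4] at hw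
          exact hw.symm
        · exfalso
          have hdis : Disjoint (S.blk (univ.erase l) w) B' := by
            rw [disjoint_left]
            intro u hu hu'
            rw [S.mem_blk] at hu hu'
            exact hwB (S.mem_blk.mpr (S.trans hu' (S.symm hu)))
          have h1 := card_union_of_disjoint hdis
          have h2 := card_le_card (union_subset (S.blk_subset (univ.erase l) w)
            (S.blk_subset (univ.erase l) i))
          rw [hcard] at h2
          have h3 : (S.blk (univ.erase l) w ∪ B').card ≤ Fintype.card F - 1 := h2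
          rw [h1, hw, hB'4] at h3
          omega
      have hF7 : Fintype.card F = 7 := by omega
      -- the map `m ↦ B(m)`
      choose w hw hwb using hex
      let g : F → Finset F := fun m => S.blk (univ.erase m) (w m)
      have hg4 : ∀ m, (g m).card = 4 := fun m => (hwb m).trans hB4
      have hgm : ∀ m, m ∉ g m := fun m hm => (mem_erase.mp (S.blk_subset _ _ hm)).1 rfl
      have hgc : ∀ m, S.Conn (g m) := fun m => S.conn_blk (erase_ne_univ _) _
      have hg : ∀ m n, n ∉ g m → g n = g m := by
        intro m n hn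
        have hmeet : ¬ Disjoint (g n) (g m) := by
          intro hd
          have h1 := card_union_of_disjoint hd
          have h2 : g n ∪ g m ⊆ univ.erase n := by
            intro u hu
            rw [mem_union] at hu
            rcases hu with hu | hu
            · exact S.blk_subset _ _ hu
            · exact mem_er (fun e => hn (e ▸ hu))
          have h3 := card_le_card h2
          rw [h1, hg4, hg4, hcard, hF7] at h3
          omega
        rw [not_disjoint_iff] at hmeet
        obtain ⟨u, hu1, hu2⟩ := hmeet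
        have h1 : S.blk (univ.erase n) u = g m :=
          blk_eq_of_max (hgc m) (fun k' i' hi' => by rw [hg4, ← hB4]; exact hmax k' i' hi') hn hu2
        have h2 : S.blk (univ.erase n) u = g n := S.blk_eq_of_rel (S.mem_blk.mp hu1)
        rw [← h1, ← h2]
      have hfib : ∀ T ∈ (univ : Finset F).image g,
          ((univ : Finset F).filter (fun a => g a = T)).card = 3 := by
        intro T hT
        obtain ⟨m, -, rfl⟩ := mem_image.mp hT
        have h1 : (univ : Finset F).filter (fun a => g a = g m) = univ \ g m := by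
          ext u
          rw [mem_filter, mem_sdiff]
          constructor
          · rintro ⟨-, hu⟩
            exact ⟨mem_univ _, by rw [← hu]; exact hgm u⟩
          · rintro ⟨-, hu⟩
            exact ⟨mem_univ _, hg m u hu⟩
        rw [h1, card_sdiff_of_subset (subset_univ _), card_univ, hF7, hg4]
      have hsum := card_eq_sum_card_image g (univ : Finset F)
      rw [sum_congr rfl hfib, sum_const, card_univ, hF7, smul_eq_mul] at hsum
      omega
    · exact hpairarg q h.2.1 h.2.2.1
    · exact hpairarg q h.2.1 h.2.2.1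
    · exact absurd (h.2 x (hCB' x hx)) hnB'
    · exact absurd (h.conn_erase x (hCB' x hx)) hnB'
  exact many_three hr (b := B.card) (by omega) hk hmax hex

end Data

end Cfsg.Agent.Cit.TypeDet
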