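import Cfsg.Agent.Cit.TypeDet.Kinds

/-!
# STEP 2 of #6096: every `Δ_k` has exactly one component, `r ≥ 5`
-/

set_option autoImplicit false

namespace Cfsg.Agent.Cit.TypeDet

open Finset Classical

namespace Data

variable {F : Type*} [Fintype F] {G : Type*} [Group G] {S : Data F G}

omit [Fintype F] in
theorem even_card_of_pairing {B : Finset F} {p : F → F} (h : Pairing B p) : Even B.card := by
  have h1 : ∑ _x ∈ B, (1 : ZMod 2) = 0 :=
    Finset.sum_involution (fun x _ => p x) (fun x _ => by decide) (fun x hx _ => (h x hx).2.1)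
      (fun x hx => (h x hx).1) (fun x hx => (h x hx).2.2)
  rw [sum_const, nsmul_eq_mul, mul_one] at h1
  exact (ZMod.natCast_eq_zero_iff_even).mp h1

theorem z_const (h5 : Fintype.card F = 5) (hP : ∀ k : F, S.Prod4 (univ.erase k)) (d e : F) :
    S.z d = S.z e := by
  by_cases hde : d = e
  · rw [hde]
  have h1 : (((univ : Finset F).erase d).erase e).card = 3 := by
    rw [card_erase_of_mem (mem_erase.mpr ⟨fun h => hde h.symm, mem_univ _⟩),
      card_erase_of_mem (mem_univ _), card_univ, h5]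
  obtain ⟨a, b, c, -, -, -, habc⟩ := card_eq_three.mp h1
  have h2 : ∀ x : F, x ≠ d → x ≠ e → x = a ∨ x = b ∨ x = c := by
    intro x hd he
    have : x ∈ ((univ : Finset F).erase d).erase e :=
      mem_erase.mpr ⟨he, mem_erase.mpr ⟨hd, mem_univ _⟩⟩
    rw [habc] at this
    simpa using this
  have h3 : ∀ x : F, (x = a ∨ x = b ∨ x = c) → x ≠ d ∧ x ≠ e := by
    intro x hx
    have : x ∈ ({a, b, c} : Finset F) := by simpa using hx
    rw [← habc] at this
    simp only [mem_erase, mem_univ, and_true] at this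
    exact ⟨this.2, this.1⟩
  have he : (univ : Finset F).erase e = {a, b, c, d} := by
    ext x
    simp only [mem_erase, mem_univ, and_true, mem_insert, mem_singleton]
    constructor
    · intro hx
      by_cases hd : x = d
      · exact Or.inr (Or.inr (Or.inr hd))
      · rcases h2 x hd hx with h | h | h
        · exact Or.inl h
        · exact Or.inr (Or.inl h)
        · exact Or.inr (Or.inr (Or.inl h))
    · rintro (h | h | h | h)
      · exact (h3 x (Or.inl h)).2
      · exact (h3 x (Or.inr (Or.inl h))).2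
      · exact (h3 x (Or.inr (Or.inr h))).2
      · rw [h]; exact hde
  have hd : (univ : Finset F).erase d = {a, b, c, e} := by
    ext x
    simp only [mem_erase, mem_univ, and_true, mem_insert, mem_singleton]
    constructor
    · intro hx
      by_cases he' : x = e
      · exact Or.inr (Or.inr (Or.inr he'))
      · rcases h2 x hx he' with h | h | h
        · exact Or.inl h
        · exact Or.inr (Or.inl h)
        · exact Or.inr (Or.inr (Or.inl h))
    · rintro (h | h | h | h)
      · exact (h3 x (Or.inl h)).1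
      · exact (h3 x (Or.inr (Or.inl h))).1
      · exact (h3 x (Or.inr (Or.inr h))).1
      · rw [h]; exact fun h => hde h.symm
  have h4 := hP e _ _ _ _ he
  have h5 := hP d _ _ _ _ hd
  rw [← h5] at h4
  exact mul_left_cancel h4

theorem exists_ne_three (hr : 4 ≤ Fintype.card F) (a b c : F) : ∃ x, x ≠ a ∧ x ≠ b ∧ x ≠ c := by
  by_contra hcon
  push Not at hcon
  have h1 : (univ : Finset F) ⊆ {a, b, c} := by
    intro x _
    simp only [mem_insert, mem_singleton]
    by_cases ha : x = a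
    · exact Or.inl ha
    · by_cases hb : x = b
      · exact Or.inr (Or.inl hb)
      · exact Or.inr (Or.inr (hcon x ha hb))
  have h2 := card_le_card h1
  rw [card_univ] at h2
  have h3 := card_le_three (a := a) (b := b) (c := c)
  omega

theorem not_KO (hr : 5 ≤ Fintype.card F) (hK : ∀ k : F, ∃ p, S.KO (univ.erase k) p) : False := by
  choose p hp using hK
  have hF : Nonempty F := Fintype.card_pos_iff.mp (by omega)
  obtain ⟨l⟩ := hF
  obtain ⟨k, hk, -, -⟩ := exists_ne_three (by omega) l l l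
  have mem : ∀ {x y : F}, x ≠ y → x ∈ (univ : Finset F).erase y := fun h =>
    mem_erase.mpr ⟨h, mem_univ _⟩
  have e1 : ∀ x : F, x ≠ l → S.Conn {l, p x l} ∧ p x l ≠ x ∧ p x l ≠ l := by
    intro x hx
    obtain ⟨h1, h2, h3, h4, -⟩ := hp x
    obtain ⟨h5, h6, -⟩ := h2 l (mem hx.symm)
    exact ⟨(h4 l (mem hx.symm) _ h5 h6.symm).mpr rfl, (mem_erase.mp h5).1, h6⟩
  obtain ⟨c1, -, n1⟩ := e1 k hk
  obtain ⟨c2, n2, n3⟩ := e1 (p k l) n1
  obtain ⟨x, x1, x2, x3⟩ := exists_ne_three (by omega) l (p k l) (p (p k l) l)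
  obtain ⟨-, -, -, h4, -⟩ := hp x
  have h5 := (h4 l (mem x1.symm) _ (mem x2.symm) n1.symm).mp c1
  have h6 := (h4 l (mem x1.symm) _ (mem x3.symm) n3.symm).mp c2
  exact n2 (h6.trans h5.symm)

omit [Fintype F] in
theorem card_four {a b c d : F} (hab : a ≠ b) (hac : a ≠ c) (had : a ≠ d) (hbc : b ≠ c)
    (hbd : b ≠ d) (hcd : c ≠ d) : ({a, b, c, d} : Finset F).card = 4 := by
  rw [card_insert_of_notMem, card_insert_of_notMem, card_insert_of_notMem, card_singleton]
  · simpa using hcd
  · simp [hbc, hbd]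
  · simp [hab, hac, had]

theorem exists_notMem {A : Finset F} (h : A.card < Fintype.card F) : ∃ x, x ∉ A := by
  by_contra hcon
  push Not at hcon
  have : (univ : Finset F) ⊆ A := fun x _ => hcon x
  have := card_le_card this
  rw [card_univ] at this
  omega

/-- `l' = m` in `Δ_x` as soon as there are two connected 4-sets through `l, m` missing `x` and meeting
only in `{l, m}` -/
theorem KD.pair_eq {x : F} {p : F → F} (h : S.KD (univ.erase x) p) {l m a b c d : F}
    (hl : l ≠ x) (hm : m ≠ x) (ha : a ≠ x) (hb : b ≠ x) (hc : c ≠ x) (hd : d ≠ x)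
    (hlm : l ≠ m) (hla : l ≠ a) (hlb : l ≠ b) (hlc : l ≠ c) (hld : l ≠ d)
    (hma : m ≠ a) (hmb : m ≠ b) (hmc : m ≠ c) (hmd : m ≠ d) (hab : a ≠ b) (hcd : c ≠ d)
    (hac : a ≠ c) (had : a ≠ d) (hbc : b ≠ c) (hbd : b ≠ d)
    (h1 : S.Conn {l, m, a, b}) (h2 : S.Conn {l, m, c, d}) : p l = m := by
  obtain ⟨-, g2, -, g4, -⟩ := h
  have s1 : ({l, m, a, b} : Finset F) ⊆ univ.erase x := by
    intro y hy
    simp only [mem_insert, mem_singleton] at hy
    rw [mem_erase]
    refine ⟨?_, mem_univ _⟩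
    rcases hy with rfl | rfl | rfl | rfl <;> assumption
  have s2 : ({l, m, c, d} : Finset F) ⊆ univ.erase x := by
    intro y hy
    simp only [mem_insert, mem_singleton] at hy
    rw [mem_erase]
    refine ⟨?_, mem_univ _⟩
    rcases hy with rfl | rfl | rfl | rfl <;> assumption
  have t1 := (g4 _ s1 (card_four hlm hla hlb hma hmb hab)).mp h1 l (by simp)
  have t2 := (g4 _ s2 (card_four hlm hlc hld hmc hmd hcd)).mp h2 l (by simp)
  have t3 := (g2 l (mem_erase.mpr ⟨hl, mem_univ _⟩)).2.1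
  simp only [mem_insert, mem_singleton] at t1 t2
  rcases t1 with t1 | t1 | t1 | t1
  · exact absurd t1 t3
  · exact t1
  · rcases t2 with t2 | t2 | t2 | t2
    · exact absurd t2 t3
    · exact t2
    · exact absurd (t1.symm.trans t2) hac
    · exact absurd (t1.symm.trans t2) had
  · rcases t2 with t2 | t2 | t2 | t2
    · exact absurd t2 t3
    · exact t2
    · exact absurd (t1.symm.trans t2) hbc
    · exact absurd (t1.symm.trans t2) hbd

theorem exists_seven (hr : 8 ≤ Fintype.card F) (a b c d e f g : F) :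
    ∃ x, x ≠ a ∧ x ≠ b ∧ x ≠ c ∧ x ≠ d ∧ x ≠ e ∧ x ≠ f ∧ x ≠ g := by
  have h1 : ({a, b, c, d, e, f, g} : Finset F).card ≤ 7 := by
    refine (card_insert_le _ _).trans ?_
    refine (Nat.add_le_add_right (card_insert_le _ _) 1).trans ?_
    refine (Nat.add_le_add_right (Nat.add_le_add_right (card_insert_le _ _) 1) 1).trans ?_
    have := card_le_four (a := d) (b := e) (c := f) (d := g)
    omega
  obtain ⟨x, hx⟩ := exists_notMem (F := F) (A := {a, b, c, d, e, f, g}) (by omega)
  simp only [mem_insert, mem_singleton, not_or] at hx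
  exact ⟨x, hx.1, hx.2.1, hx.2.2.1, hx.2.2.2.1, hx.2.2.2.2.1, hx.2.2.2.2.2.1, hx.2.2.2.2.2.2⟩

/-- closure of connected 4-sets under the pairing -/
theorem KD.mem_of_conn {x : F} {p : F → F} (h : S.KD (univ.erase x) p) {A : Finset F}
    (hx : x ∉ A) (h4 : A.card = 4) (hA : S.Conn A) {y : F} (hy : y ∈ A) : p y ∈ A := by
  obtain ⟨-, -, -, g4, -⟩ := h
  exact (g4 A (fun y hy => mem_erase.mpr ⟨fun e => hx (e ▸ hy), mem_univ _⟩) h4).mp hA y hy

theorem KD.conn {x : F} {p : F → F} (h : S.KD (univ.erase x) p) {A : Finset F}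
    (hx : x ∉ A) (h4 : A.card = 4) (hA : ∀ y ∈ A, p y ∈ A) : S.Conn A := by
  obtain ⟨-, -, -, g4, -⟩ := h
  exact (g4 A (fun y hy => mem_erase.mpr ⟨fun e => hx (e ▸ hy), mem_univ _⟩) h4).mpr hA

theorem KD.pair {x : F} {p : F → F} (h : S.KD (univ.erase x) p) {y : F} (hy : y ≠ x) :
    p y ≠ x ∧ p y ≠ y ∧ p (p y) = y := by
  obtain ⟨-, g2, -, -, -⟩ := h
  obtain ⟨h1, h2, h3⟩ := g2 y (mem_erase.mpr ⟨hy, mem_univ _⟩)
  exact ⟨(mem_erase.mp h1).1, h2, h3⟩

theorem KD.conn_pair {x : F} {p : F → F} (h : S.KD (univ.erase x) p) {a c : F} (ha : a ≠ x)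
    (hc : c ≠ x) (hca : c ≠ a) (hcp : c ≠ p a) : S.Conn {a, p a, c, p c} := by
  obtain ⟨a1, a2, a3⟩ := h.pair ha
  obtain ⟨c1, c2, c3⟩ := h.pair hc
  have n1 : p c ≠ a := fun e => hcp (by rw [← e, c3])
  have n2 : p c ≠ p a := fun e => hca (by rw [← c3, e, a3])
  refine h.conn ?_ (card_four a2.symm hca.symm n1.symm hcp.symm n2.symm c2.symm) ?_
  · simp only [mem_insert, mem_singleton, not_or]
    exact ⟨ha.symm, a1.symm, hc.symm, c1.symm⟩
  · intro y hy
    simp only [mem_insert, mem_singleton] at hy ⊢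
    rcases hy with rfl | rfl | rfl | rfl
    · exact Or.inr (Or.inl rfl)
    · exact Or.inl a3
    · exact Or.inr (Or.inr (Or.inr rfl))
    · exact Or.inr (Or.inr (Or.inl c3))

theorem not_KD (hr : 9 ≤ Fintype.card F) (hK : ∀ k : F, ∃ p, S.KD (univ.erase k) p) : False := by
  choose p hp using hK
  have hF : Nonempty F := Fintype.card_pos_iff.mp (by omega)
  obtain ⟨l⟩ := hF
  obtain ⟨k, hk, -, -⟩ := exists_ne_three (by omega) l l l
  obtain ⟨m1, m2, m3⟩ := (hp k).pair hk.symm
  -- `m = p k l`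
  have key : ∀ x : F, x ≠ k → x ≠ l → x ≠ p k l → p x l = p k l ∧
      S.Conn {l, p k l, k, p k x} := by
    intro x xk xl xm
    obtain ⟨x1, x2, x3⟩ := (hp k).pair xk
    have x4 : p k x ≠ l := fun e => xm (by rw [← e, x3])
    have x5 : p k x ≠ p k l := fun e => xl (by rw [← x3, e, m3])
    obtain ⟨u, uk, ul, um, ux, ux', -, -⟩ := exists_seven (by omega) k l (p k l) x (p k x) k k
    obtain ⟨u1, u2, u3⟩ := (hp k).pair uk
    have u4 : p k u ≠ l := fun e => um (by rw [← e, u3])
    have u5 : p k u ≠ p k l := fun e => ul (by rw [← u3, e, m3])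
    have u6 : p k u ≠ x := fun e => ux' (by rw [← e, u3])
    have u7 : p k u ≠ p k x := fun e => ux (by rw [← u3, e, x3])
    obtain ⟨v, vk, vl, vm, vx, vx', vu, vu'⟩ :=
      exists_seven (by omega) k l (p k l) x (p k x) u (p k u)
    obtain ⟨v1, v2, v3⟩ := (hp k).pair vk
    have v4 : p k v ≠ l := fun e => vm (by rw [← e, v3])
    have v5 : p k v ≠ p k l := fun e => vl (by rw [← v3, e, m3])
    have v6 : p k v ≠ x := fun e => vx' (by rw [← e, v3])
    have v7 : p k v ≠ u := fun e => vu' (by rw [← e, v3])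
    have v8 : p k v ≠ p k u := fun e => vu (by rw [← v3, e, u3])
    have c1 : S.Conn {l, p k l, u, p k u} := (hp k).conn_pair hk.symm uk ul um
    have c2 : S.Conn {l, p k l, v, p k v} := (hp k).conn_pair hk.symm vk vl vm
    have e1 : p x l = p k l :=
      (hp x).pair_eq xl.symm xm.symm ux u6 vx v6 m2.symm ul.symm u4.symm vl.symm v4.symm
        um.symm u5.symm vm.symm v5.symm u2.symm v2.symm vu.symm v7.symm vu'.symm v8.symm c1 c2
    refine ⟨e1, ?_⟩
    obtain ⟨l1, l2, l3⟩ := (hp x).pair xl.symm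
    obtain ⟨y1, y2, y3⟩ := (hp x).pair x2
    -- `p x y = p k y` for `y` outside `{k, l, m, x, x'}`
    have e2 : ∀ y : F, y ≠ k → y ≠ l → y ≠ p k l → y ≠ x → y ≠ p k x → p x y = p k y := by
      intro y yk yl ym yx yx'
      obtain ⟨z1, z2, z3⟩ := (hp k).pair yk
      have z4 : p k y ≠ l := fun e => ym (by rw [← e, z3])
      have z5 : p k y ≠ p k l := fun e => yl (by rw [← z3, e, m3])
      have z6 : p k y ≠ x := fun e => yx' (by rw [← e, z3])
      obtain ⟨w1, w2, w3⟩ := (hp x).pair yx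
      have c3 : S.Conn {l, p k l, y, p k y} := (hp k).conn_pair hk.symm yk yl ym
      have h1 := (hp x).mem_of_conn (A := {l, p k l, y, p k y})
        (by simp only [mem_insert, mem_singleton, not_or]; exact ⟨xl, xm, yx.symm, z6.symm⟩)
        (card_four m2.symm yl.symm z4.symm ym.symm z5.symm z2.symm) c3 (y := y) (by simp)
      simp only [mem_insert, mem_singleton] at h1
      rcases h1 with h1 | h1 | h1 | h1
      · exact absurd (by rw [← w3, h1, e1]) ym
      · exact absurd (by rw [← w3, h1, ← e1, l3]) yl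
      · exact absurd h1 w2
      · exact h1
    -- `p x x' = k`
    have e3 : p x (p k x) = k := by
      by_contra hne
      by_cases g1 : p x (p k x) = l
      · exact x5 (by rw [← y3, g1, e1])
      by_cases g2 : p x (p k x) = p k l
      · exact x4 (by rw [← y3, g2, ← e1, l3])
      have h1 := e2 _ hne g1 g2 y1 y2
      rw [y3] at h1
      obtain ⟨q1, q2, q3⟩ := (hp k).pair hne
      rw [← h1, x3] at q3
      exact y1 q3.symm
    have e4 : p x k = p k x :=
      calc p x k = p x (p x (p k x)) := congrArg (p x) e3.symm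
        _ = p k x := y3
    refine (hp x).conn ?_ (card_four m2.symm hk.symm x4.symm m1 x5.symm x1.symm) ?_
    · simp only [mem_insert, mem_singleton, not_or]
      exact ⟨xl, xm, xk, x2.symm⟩
    · intro y hy
      simp only [mem_insert, mem_singleton] at hy ⊢
      rcases hy with rfl | rfl | rfl | rfl
      · exact Or.inr (Or.inl e1)
      · left
        rw [← e1, l3]
      · exact Or.inr (Or.inr (Or.inr e4))
      · exact Or.inr (Or.inr (Or.inl e3))
  obtain ⟨x, xk, xl, xm, -, -, -, -⟩ := exists_seven (by omega) k l (p k l) k k k k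
  obtain ⟨x1, x2, x3⟩ := (hp k).pair xk
  have x4 : p k x ≠ l := fun e => xm (by rw [← e, x3])
  have x5 : p k x ≠ p k l := fun e => xl (by rw [← x3, e, m3])
  have c1 := (key x xk xl xm).2
  have c2 := (key (p k x) x1 x4 x5).2
  rw [x3] at c2
  obtain ⟨u, uk, ul, um, ux, ux', -, -⟩ := exists_seven (by omega) k l (p k l) x (p k x) k k
  have e1 := (key u uk ul um).1
  obtain ⟨l1, l2, l3⟩ := (hp u).pair ul.symm
  obtain ⟨k1, k2, k3⟩ := (hp u).pair uk.symm
  have h1 := (hp u).mem_of_conn (A := {l, p k l, k, p k x})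
    (by simp only [mem_insert, mem_singleton, not_or]; exact ⟨ul, um, uk, ux'⟩)
    (card_four m2.symm hk.symm x4.symm m1 x5.symm x1.symm) c1 (y := k) (by simp)
  have h2 := (hp u).mem_of_conn (A := {l, p k l, k, x})
    (by simp only [mem_insert, mem_singleton, not_or]; exact ⟨ul, um, uk, ux⟩)
    (card_four m2.symm hk.symm xl.symm m1 xm.symm xk.symm) c2 (y := k) (by simp)
  simp only [mem_insert, mem_singleton] at h1 h2
  have n1 : p u k ≠ l := by
    intro e
    rw [e, e1] at k3
    exact m1 k3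
  have n2 : p u k ≠ p k l := by
    intro e
    rw [e] at k3
    rw [e1] at l3
    exact hk (k3.symm.trans l3)
  rcases h1 with h1 | h1 | h1 | h1
  · exact n1 h1
  · exact n2 h1
  · exact k2 h1
  · rcases h2 with h2 | h2 | h2 | h2
    · exact n1 h2
    · exact n2 h2
    · exact k2 h2
    · exact x2 (h1.symm.trans h2)

theorem card_univ_erase (k : F) : ((univ : Finset F).erase k).card = Fintype.card F - 1 := by
  rw [card_erase_of_mem (mem_univ _), card_univ]

theorem not_KF (hr : 5 ≤ Fintype.card F) (h1 : ∀ k : F, S.KF (univ.erase k)) : False := by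
  have hF : Nonempty F := Fintype.card_pos_iff.mp (by omega)
  obtain ⟨k₀⟩ := hF
  have h5 : Fintype.card F = 5 := by
    have := (h1 k₀).1
    rw [card_univ_erase] at this
    omega
  have h2 := z_const h5 (fun k => (h1 k).2.2.1)
  obtain ⟨a, ha, -, -⟩ := exists_ne_three (by omega) k₀ k₀ k₀
  obtain ⟨b, hb, hba, -⟩ := exists_ne_three (by omega) k₀ a a
  exact hba ((h1 k₀).2.2.2 b (mem_erase.mpr ⟨hb, mem_univ _⟩) a (mem_erase.mpr ⟨ha, mem_univ _⟩)
    (h2 b a))

theorem not_KD4 (hr : 5 ≤ Fintype.card F) (h1 : ∀ k : F, S.KD4 (univ.erase k)) : False := by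
  have hF : Nonempty F := Fintype.card_pos_iff.mp (by omega)
  obtain ⟨k₀⟩ := hF
  have h5 : Fintype.card F = 5 := by
    have := (h1 k₀).1
    rw [card_univ_erase] at this
    omega
  have h2 := z_const h5 (fun k => (h1 k).2.2.1)
  obtain ⟨a, ha, -, -⟩ := exists_ne_three (by omega) k₀ k₀ k₀
  exact (h1 k₀).2.2.2.1 a (mem_erase.mpr ⟨ha, mem_univ _⟩)
    (S.cen_congr (h2 k₀ a) (S.cen_of_notMem (notMem_erase _ _)))

theorem not_KE8 (h1 : ∀ k : F, S.KE8 (univ.erase k)) : IsEmpty F := by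
  by_contra hne
  rw [not_isEmpty_iff] at hne
  obtain ⟨k₀⟩ := hne
  have h9 : Fintype.card F = 9 := by
    have := (h1 k₀).1
    rw [card_univ_erase] at this
    have h0 : 0 < Fintype.card F := Fintype.card_pos_iff.mpr ⟨k₀⟩
    omega
  have mem : ∀ {x y : F}, x ≠ y → x ∈ (univ : Finset F).erase y := fun h =>
    mem_erase.mpr ⟨h, mem_univ _⟩
  obtain ⟨x, hx, -, -⟩ := exists_ne_three (by omega) k₀ k₀ k₀
  obtain ⟨y, hy, hyx, -⟩ := exists_ne_three (by omega) k₀ x x
  obtain ⟨z, hz, hzx, hzy⟩ := exists_ne_three (by omega) k₀ x y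
  obtain ⟨w, hw, h3, h4, h5, h6, -⟩ := (h1 k₀).2 x (mem hx) y (mem hy) z (mem hz) hyx.symm
    hzx.symm hzy.symm
  obtain ⟨w', hw', h3', h4', h5', h6', -⟩ := (h1 w).2 x (mem h3.symm) y (mem h4.symm) z
    (mem h5.symm) hyx.symm hzx.symm hzy.symm
  have hne : w' ≠ w := (mem_erase.mp hw').1
  obtain ⟨u, u1, u2, u3, u4, u5, -, -⟩ := exists_seven (by omega) x y z w w' w w'
  obtain ⟨v, -, -, -, -, -, h7⟩ := (h1 u).2 x (mem u1.symm) y (mem u2.symm) z (mem u3.symm)
    hyx.symm hzx.symm hzy.symm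
  exact hne ((h7 w' (mem u5.symm) h3' h4' h5' h6').trans
    (h7 w (mem u4.symm) h3 h4 h5 h6).symm)

theorem card_KD (hr : 5 ≤ Fintype.card F) (h1 : ∀ k : F, ∃ p, S.KD (univ.erase k) p) :
    Fintype.card F = 7 := by
  by_cases h9 : 9 ≤ Fintype.card F
  · exact (not_KD h9 h1).elim
  · have hF : Nonempty F := Fintype.card_pos_iff.mp (by omega)
    obtain ⟨k₀⟩ := hF
    obtain ⟨p, hp⟩ := h1 k₀
    have h6 := hp.1
    rw [card_univ_erase] at h6
    -- parity: a pairing on a set of 7 points does not exist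
    have h8 : Even ((univ : Finset F).erase k₀).card := even_card_of_pairing hp.2.1
    rw [card_univ_erase] at h8
    obtain ⟨t, ht⟩ := h8
    omega

theorem transport (ht : ∀ k l : F, ∃ σ : Equiv.Perm F, S.IsAut σ ∧ σ k = l) {k₀ : F}
    (P : Finset F → Prop) (hP : ∀ σ : Equiv.Perm F, S.IsAut σ → ∀ B, P B → P (B.map σ.toEmbedding))
    (h : P (univ.erase k₀)) (k : F) : P (univ.erase k) := by
  obtain ⟨σ, hσ, rfl⟩ := ht k₀ k
  rw [← univ_erase_map]
  exact hP σ hσ _ h

/-- **STEP 2** -/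
theorem one (hr : 5 ≤ Fintype.card F) (ht : ∀ k l : F, ∃ σ : Equiv.Perm F, S.IsAut σ ∧ σ k = l)
    (k₀ : F) (hk : S.Kinds (univ.erase k₀)) :
    (∀ k : F, S.KL (univ.erase k)) ∨
      (Fintype.card F = 8 ∧ ∀ k : F, S.KE7 (univ.erase k)) ∨
        (Fintype.card F = 7 ∧ ∀ k : F, ∃ p, S.KD (univ.erase k) p) := by
  rcases hk with h | h | h | h | h | h | h | h | h
  · rw [card_univ_erase] at h; omega
  · rw [card_univ_erase] at h; omega
  · exact Or.inl (transport ht S.KL (fun σ hσ B hB => hB.map hσ) h)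
  · exact (not_KF hr (transport ht S.KF (fun σ hσ B hB => hB.map hσ) h)).elim
  · exact (not_KD4 hr (transport ht S.KD4 (fun σ hσ B hB => hB.map hσ) h)).elim
  · exact (not_KO hr (transport ht (fun B => ∃ p, S.KO B p)
      (fun σ hσ B ⟨p, hB⟩ => ⟨_, hB.map hσ⟩) h)).elim
  · have h1 := transport ht (fun B => ∃ p, S.KD B p) (fun σ hσ B ⟨p, hB⟩ => ⟨_, hB.map hσ⟩) h
    exact Or.inr (Or.inr ⟨card_KD hr h1, h1⟩)
  · have h1 := transport ht S.KE7 (fun σ hσ B hB => hB.map hσ) h
    refine Or.inr (Or.inl ⟨?_, h1⟩)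
    have := (h1 k₀).1
    rw [card_univ_erase] at this
    omega
  · exact ((not_KE8 (transport ht S.KE8 (fun σ hσ B hB => hB.map hσ) h)).false k₀).elim

end Data

end Cfsg.Agent.Cit.TypeDet
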