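import Cfsg.Agent.Cit.TypeDet.Group

/-!
# STEP 1 of #6096 (reducible frames), group side

Everything here is for sets of pairwise commuting members of `Om` (frames as sets).  `Cen Om B` = members of
`Om` commuting with all members of `B`.  `app Om F` = the equivalence relation of STEP 1, `cls F L` the class of
`L`, `TT F L = Cen (F - cls L)` (so `⟨TT F L⟩ = Y_{cls L}`).

* `chn_of_app`, `mem_TT_iff` : for `N ∈ F` outside the class of `L`, `TT F L` is the chain class of `L` in `Cen {N}`;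
* `closed` : if the `TT F L` commute for different classes, then their union is closed under commuting;
* `false_of_red` : so a simple group with connected commuting graph has a connected frame.
-/

set_option autoImplicit false
set_option linter.unusedSectionVars false
set_option linter.unusedVariables false

namespace Cfsg.Agent.Cit.TypeDet.Red

open Subgroup Relation

variable {G : Type*} [Group G]

/-- members of `Om` commuting with all members of `B` -/
def Cen (Om B : Set (Subgroup G)) : Set (Subgroup G) := {L | L ∈ Om ∧ ∀ M ∈ B, cm L M}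

theorem Cen_anti {Om B B' : Set (Subgroup G)} (h : B ⊆ B') : Cen Om B' ⊆ Cen Om B :=
  fun _ hL => ⟨hL.1, fun M hM => hL.2 M (h hM)⟩

/-- a frame (as a set) -/
structure Frm (Om F : Set (Subgroup G)) : Prop where
  sub : F ⊆ Om
  comm : ∀ K ∈ F, ∀ L ∈ F, K ≠ L → cm K L
  max : ∀ L ∈ Om, ∃ M ∈ F, ¬ cm L M

/-- the relation generating `≈` -/
def step (Om F : Set (Subgroup G)) (L M : Subgroup G) : Prop :=
  L ∈ F ∧ M ∈ F ∧ ∃ N ∈ F, L ≠ N ∧ M ≠ N ∧ chn (Cen Om {N}) L M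

/-- `≈` -/
def app (Om F : Set (Subgroup G)) : Subgroup G → Subgroup G → Prop := EqvGen (step Om F)

/-- the class of `L` -/
def cls (Om F : Set (Subgroup G)) (L : Subgroup G) : Set (Subgroup G) := {M | M ∈ F ∧ app Om F L M}

/-- the members of `Om` commuting with `F - cls L` -/
def TT (Om F : Set (Subgroup G)) (L : Subgroup G) : Set (Subgroup G) := Cen Om (F \ cls Om F L)

variable {Om F : Set (Subgroup G)}

theorem app_refl (L : Subgroup G) : app Om F L L := EqvGen.refl L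

theorem app_symm {L M : Subgroup G} (h : app Om F L M) : app Om F M L := EqvGen.symm _ _ h

theorem app_trans {L M N : Subgroup G} (h : app Om F L M) (h' : app Om F M N) : app Om F L N :=
  EqvGen.trans _ _ _ h h'

theorem self_mem_cls {L : Subgroup G} (hL : L ∈ F) : L ∈ cls Om F L := ⟨hL, app_refl L⟩

theorem cls_eq {L M : Subgroup G} (h : app Om F L M) : cls Om F M = cls Om F L := by
  ext x
  exact ⟨fun hx => ⟨hx.1, app_trans h hx.2⟩, fun hx => ⟨hx.1, app_trans (app_symm h) hx.2⟩⟩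

theorem TT_eq {L M : Subgroup G} (h : app Om F L M) : TT Om F M = TT Om F L := by
  rw [TT, TT, cls_eq h]

theorem mem_Cen_single {L N : Subgroup G} : L ∈ Cen Om {N} ↔ L ∈ Om ∧ cm L N := by
  simp [Cen]

namespace Frm

variable (h : Frm Om F)

include h

theorem mem_Cen {L N : Subgroup G} (hL : L ∈ F) (hN : N ∈ F) (hne : L ≠ N) : L ∈ Cen Om {N} :=
  mem_Cen_single.mpr ⟨h.sub hL, h.comm L hL N hN hne⟩

theorem not_cm_self {L : Subgroup G} (hL : L ∈ F) : ¬ cm L L := by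
  intro hc
  obtain ⟨M, hM, hn⟩ := h.max L (h.sub hL)
  by_cases hLM : L = M
  · rw [← hLM] at hn; exact hn hc
  · exact hn (h.comm L hL M hM hLM)

theorem mem_or_of_app {L M : Subgroup G} (ha : app Om F L M) (hL : L ∈ F) : M ∈ F := by
  have key : ∀ {L M : Subgroup G}, app Om F L M → (L ∈ F ↔ M ∈ F) := by
    intro L M ha
    induction ha with
    | rel L M h' => exact ⟨fun _ => h'.2.1, fun _ => h'.1⟩
    | refl L => exact Iff.rfl
    | symm L M _ ih => exact ih.symm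
    | trans L M N _ _ ih1 ih2 => exact ih1.trans ih2
  exact (key ha).mp hL

/-- for `N ∈ F` outside the class of `L`, the elements of a chain from `L` in `Cen {N'}` commute with `N` -/
theorem chn_of_app {L M : Subgroup G} (ha : app Om F L M) (hL : L ∈ F) :
    ∀ N ∈ F, ¬ app Om F L N → chn (Cen Om {N}) L M := by
  induction ha with
  | rel L M h' =>
    obtain ⟨h1, h2, N', hN', hLN', hMN', hch⟩ := h'
    intro N hN hnapp
    by_cases hNN' : N = N'
    · rw [hNN']; exact hch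
    -- all chain elements commute with `N`
    have key : ∀ X, chn (Cen Om {N'}) L X → chn (Cen Om {N}) L X ∧ X ∈ Cen Om {N} := by
      intro X hX
      have hcm : cm X N := by
        by_contra hn
        apply hnapp
        refine EqvGen.rel _ _ ⟨h1, hN, N', hN', hLN', hNN', ?_⟩
        have hXm : X ∈ Cen Om {N'} := by
          rcases ReflTransGen.cases_tail hX with h3 | ⟨Z, -, h3⟩
          · rw [h3]; exact h.mem_Cen h1 hN' hLN'
          · exact h3.2.1
        exact ReflTransGen.tail hX ⟨hXm, h.mem_Cen hN hN' hNN', hn⟩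
      induction hX with
      | refl => exact ⟨ReflTransGen.refl, mem_Cen_single.mpr ⟨h.sub h1, hcm⟩⟩
      | @tail X Z hX1 hX2 ih =>
        have hcmX : cm X N := by
          by_contra hn
          apply hnapp
          refine EqvGen.rel _ _ ⟨h1, hN, N', hN', hLN', hNN', ?_⟩
          exact ReflTransGen.tail hX1 ⟨hX2.1, h.mem_Cen hN hN' hNN', hn⟩
        obtain ⟨c1, c2⟩ := ih hcmX
        have c3 : Z ∈ Cen Om {N} := mem_Cen_single.mpr ⟨hX2.2.1.1, hcm⟩
        exact ⟨c1.tail ⟨c2, c3, hX2.2.2⟩, c3⟩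
    exact (key M hch).1
  | refl L => intro N _ _; exact ReflTransGen.refl
  | symm L M h1 ih =>
    intro N hN hnapp
    have hM : L ∈ F := h.mem_or_of_app (app_symm h1) hL
    exact chn_symm (ih hM N hN (fun h' => hnapp (app_trans (app_symm h1) h')))
  | trans L M P h1 h2 ih1 ih2 =>
    intro N hN hnapp
    have hM : M ∈ F := h.mem_or_of_app h1 hL
    exact (ih1 hL N hN hnapp).trans (ih2 hM N hN (fun h' => hnapp (app_trans h1 h')))

theorem app_of_chn {L M N : Subgroup G} (hL : L ∈ F) (hM : M ∈ F) (hN : N ∈ F) (hLN : L ≠ N)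
    (hMN : M ≠ N) (hc : chn (Cen Om {N}) L M) : app Om F L M :=
  EqvGen.rel _ _ ⟨hL, hM, N, hN, hLN, hMN, hc⟩

/-- **`TT F L` is a chain class of `Cen {N}`** -/
theorem mem_TT_iff {L N M : Subgroup G} (hL : L ∈ F) (hN : N ∈ F) (hnapp : ¬ app Om F L N) :
    M ∈ TT Om F L ↔ M ∈ Cen Om {N} ∧ chn (Cen Om {N}) L M := by
  have hLN : L ≠ N := fun e => hnapp (e ▸ app_refl L)
  constructor
  · intro hM
    have hMN : M ∈ Cen Om {N} :=
      mem_Cen_single.mpr ⟨hM.1, hM.2 N ⟨hN, fun h' => hnapp h'.2⟩⟩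
    refine ⟨hMN, ?_⟩
    obtain ⟨K, hK, hn⟩ := h.max M hM.1
    have hKL : app Om F L K := by
      by_contra hna
      exact hn (hM.2 K ⟨hK, fun h' => hna h'.2⟩)
    have h1 := h.chn_of_app hKL hL N hN hnapp
    have hKN : K ≠ N := fun e => hnapp (e ▸ hKL)
    exact h1.tail ⟨h.mem_Cen hK hN hKN, hMN, fun h' => hn (cm_symm h')⟩
  · rintro ⟨h1, h2⟩
    refine ⟨h1.1, ?_⟩
    rintro P ⟨hP, hPn⟩
    by_cases hPN : P = N
    · rw [hPN]; exact (mem_Cen_single.mp h1).2
    by_contra hn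
    apply hPn
    exact ⟨hP, h.app_of_chn hL hP hN hLN hPN (h2.tail ⟨h1, h.mem_Cen hP hN hPN, hn⟩)⟩

/-- chain elements between class members stay in `TT` -/
theorem chn_TT {L M : Subgroup G} (hL : L ∈ F) (ha : app Om F L M) {N : Subgroup G} (hN : N ∈ F)
    (hnapp : ¬ app Om F L N) : chn (TT Om F L) L M := by
  have h1 := h.chn_of_app ha hL N hN hnapp
  have hLN : L ≠ N := fun e => hnapp (e ▸ app_refl L)
  have key : ∀ X, chn (Cen Om {N}) L X → chn (TT Om F L) L X := by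
    intro X hX
    induction hX with
    | refl => exact ReflTransGen.refl
    | @tail X Z hX1 hX2 ih =>
      refine ih.tail ⟨?_, ?_, hX2.2.2⟩
      · exact (h.mem_TT_iff hL hN hnapp).mpr ⟨hX2.1, hX1⟩
      · exact (h.mem_TT_iff hL hN hnapp).mpr ⟨hX2.2.1, hX1.tail hX2⟩
  exact key M h1

theorem mem_TT_self {L : Subgroup G} (hL : L ∈ F) : L ∈ TT Om F L :=
  ⟨h.sub hL, fun M hM => h.comm L hL M hM.1 (fun e => hM.2 (e ▸ self_mem_cls hL))⟩

/-- three pairwise different classes: the `TT` commute -/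
theorem cm_of_three {L M N X Y : Subgroup G} (hL : L ∈ F) (hM : M ∈ F) (hN : N ∈ F)
    (h1 : ¬ app Om F L M) (h2 : ¬ app Om F L N) (h3 : ¬ app Om F M N) (hX : X ∈ TT Om F L)
    (hY : Y ∈ TT Om F M) : cm X Y := by
  rw [h.mem_TT_iff hL hN h2] at hX
  rw [h.mem_TT_iff hM hN h3] at hY
  refine cm_of_not_chn hX.1 hY.1 hX.2 hY.2 (fun hc => h1 ?_)
  exact h.app_of_chn hL hM hN (fun e => h2 (e ▸ app_refl L)) (fun e => h3 (e ▸ app_refl M)) hc

/-- the (GEN) argument: a member of `Om` commuting with `F - cls L` and with some `K ∈ cls L` commutes with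
`TT F M` -/
theorem cm_of_gen {L M K X Y : Subgroup G} (hL : L ∈ F) (hM : M ∈ F) (h1 : ¬ app Om F L M)
    (hK : K ∈ cls Om F L) (hX : X ∈ TT Om F L) (hXK : cm X K) (hY : Y ∈ TT Om F M) : cm X Y := by
  have hMK : ¬ app Om F M K := fun h' => h1 (app_trans hK.2 (app_symm h'))
  rw [h.mem_TT_iff hM hK.1 hMK] at hY
  have hXC : X ∈ Cen Om {K} := mem_Cen_single.mpr ⟨hX.1, hXK⟩
  by_contra hn
  -- `X` lies in the chain class of `M`
  have h2 : chn (Cen Om {K}) M X := hY.2.tail ⟨hY.1, hXC, fun h' => hn (cm_symm h')⟩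
  have h3 : X ∈ TT Om F M := (h.mem_TT_iff hM hK.1 hMK).mpr ⟨hXC, h2⟩
  obtain ⟨P, hP, hPn⟩ := h.max X hX.1
  by_cases hPL : P ∈ cls Om F L
  · exact hPn (h3.2 P ⟨hP, fun h' => h1 (app_trans hPL.2 (app_symm h'.2))⟩)
  · exact hPn (hX.2 P ⟨hP, hPL⟩)

end Frm

/-! ### Conjugation -/

theorem Cen_cj (hO : ∀ L ∈ Om, ∀ g, cj g L ∈ Om) (g : G) {B : Set (Subgroup G)} {L : Subgroup G} :
    cj g L ∈ Cen Om (cj g '' B) ↔ L ∈ Cen Om B := by
  constructor
  · rintro ⟨h1, h2⟩
    refine ⟨by have := hO _ h1 g⁻¹; rwa [cj_inv_cj] at this, fun M hM => ?_⟩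
    exact cm_cj.mp (h2 _ ⟨M, hM, rfl⟩)
  · rintro ⟨h1, h2⟩
    refine ⟨hO _ h1 g, ?_⟩
    rintro _ ⟨M, hM, rfl⟩
    exact cm_cj.mpr (h2 M hM)

theorem Cen_image (hO : ∀ L ∈ Om, ∀ g, cj g L ∈ Om) (g : G) (B : Set (Subgroup G)) :
    Cen Om (cj g '' B) = cj g '' Cen Om B := by
  ext L
  constructor
  · intro hL
    refine ⟨cj g⁻¹ L, ?_, cj_cj_inv g L⟩
    rw [← Cen_cj hO g, cj_cj_inv]
    exact hL
  · rintro ⟨M, hM, rfl⟩
    exact (Cen_cj hO g).mpr hM

theorem app_cj (hO : ∀ L ∈ Om, ∀ g, cj g L ∈ Om) (g : G) {L M : Subgroup G}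
    (h : app Om F L M) : app Om (cj g '' F) (cj g L) (cj g M) := by
  induction h with
  | rel L M h' =>
    obtain ⟨h1, h2, N, hN, hLN, hMN, hc⟩ := h'
    refine EqvGen.rel _ _ ⟨⟨L, h1, rfl⟩, ⟨M, h2, rfl⟩, cj g N, ⟨N, hN, rfl⟩,
      fun e => hLN (cj_inj.mp e), fun e => hMN (cj_inj.mp e), ?_⟩
    refine chn_cj (fun X hX => ?_) hc
    have := (Cen_cj hO g (B := {N})).mpr hX
    rwa [Set.image_singleton] at this
  | refl L => exact EqvGen.refl _
  | symm L M _ ih => exact EqvGen.symm _ _ ih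
  | trans L M N _ _ ih1 ih2 => exact EqvGen.trans _ _ _ ih1 ih2

theorem cj_image_inv (g : G) (F : Set (Subgroup G)) : cj g⁻¹ '' (cj g '' F) = F := by
  rw [Set.image_image]
  simp [cj_inv_cj]

theorem app_cj_iff (hO : ∀ L ∈ Om, ∀ g, cj g L ∈ Om) (g : G) {L M : Subgroup G} :
    app Om (cj g '' F) (cj g L) (cj g M) ↔ app Om F L M := by
  constructor
  · intro h
    have := app_cj hO g⁻¹ h
    rwa [cj_image_inv, cj_inv_cj, cj_inv_cj] at this
  · exact app_cj hO g

theorem cls_cj (hO : ∀ L ∈ Om, ∀ g, cj g L ∈ Om) (g : G) (L : Subgroup G) :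
    cls Om (cj g '' F) (cj g L) = cj g '' cls Om F L := by
  ext M
  constructor
  · rintro ⟨⟨M', hM', rfl⟩, h2⟩
    exact ⟨M', ⟨hM', (app_cj_iff hO g).mp h2⟩, rfl⟩
  · rintro ⟨M', ⟨hM', h2⟩, rfl⟩
    exact ⟨⟨M', hM', rfl⟩, (app_cj_iff hO g).mpr h2⟩

theorem TT_cj (hO : ∀ L ∈ Om, ∀ g, cj g L ∈ Om) (g : G) (L : Subgroup G) :
    TT Om (cj g '' F) (cj g L) = cj g '' TT Om F L := by
  rw [TT, TT, cls_cj hO, ← Set.image_sdiff (cj_injective' g), Cen_image hO]

/-- the family of all frames: pairwise conjugate, transitive on members, every commuting set lies in one -/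
structure Frames (Om : Set (Subgroup G)) (Fs : Set (Set (Subgroup G))) : Prop where
  conj : ∀ K ∈ Om, ∀ g, cj g K ∈ Om
  frm : ∀ F ∈ Fs, Frm Om F
  trans : ∀ F ∈ Fs, ∀ F' ∈ Fs, ∀ K ∈ F, ∀ L ∈ F', ∃ g : G, cj g '' F = F' ∧ cj g K = L
  ex : ∀ C : Set (Subgroup G), C ⊆ Om → (∀ K ∈ C, ∀ L ∈ C, K ≠ L → cm K L) → ∃ F ∈ Fs, C ⊆ F

variable {Fs : Set (Set (Subgroup G))}

theorem card_cls (h : Frames Om Fs) {F' : Set (Subgroup G)} (hF : F ∈ Fs) (hF' : F' ∈ Fs)
    {L L' : Subgroup G} (hL : L ∈ F) (hL' : L' ∈ F') :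
    (cls Om F' L').ncard = (cls Om F L).ncard ∧ (TT Om F' L').ncard = (TT Om F L).ncard := by
  obtain ⟨g, h1, h2⟩ := h.trans F hF F' hF' L hL L' hL'
  rw [← h1, ← h2, cls_cj h.conj, TT_cj h.conj, Set.ncard_image_of_injective _ (cj_injective' g),
    Set.ncard_image_of_injective _ (cj_injective' g)]
  exact ⟨rfl, rfl⟩

variable [Finite G]

/-- **the union of the `TT` is closed under commuting** -/
theorem closed (h : Frames Om Fs) (hF : F ∈ Fs)
    (hYY : ∀ L ∈ F, ∀ M ∈ F, ¬ app Om F L M → ∀ X ∈ TT Om F L, ∀ Y ∈ TT Om F M, cm X Y)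
    {L X M : Subgroup G} (hL : L ∈ F) (hX : X ∈ TT Om F L) (hM : M ∈ Om) (hXM : cm X M) :
    ∃ K ∈ F, M ∈ TT Om F K := by
  have hf := h.frm F hF
  by_cases hall : ∀ K ∈ F \ cls Om F L, cm M K
  · exact ⟨L, hL, hM, hall⟩
  push Not at hall
  obtain ⟨K, ⟨hK, hKL⟩, hn⟩ := hall
  refine ⟨K, hK, ?_⟩
  have hnapp : ∀ {P : Subgroup G}, P ∈ F → P ∉ cls Om F L → ¬ app Om F P L := fun hP hPL h' =>
    hPL ⟨hP, app_symm h'⟩
  -- the new frame
  obtain ⟨F', hF', hsub⟩ := h.ex ({X} ∪ (F \ cls Om F L)) (by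
    rintro P (hP | hP)
    · rw [hP]; exact hX.1
    · exact hf.sub hP.1) (by
    rintro P (hP | hP) Q (hQ | hQ) hPQ
    · exact absurd (hP.trans hQ.symm) hPQ
    · rw [hP]; exact hX.2 Q hQ
    · rw [hQ]; exact cm_symm (hX.2 P hP)
    · exact hf.comm P hP.1 Q hQ.1 hPQ)
  have hf' := h.frm F' hF'
  have hXF' : X ∈ F' := hsub (Or.inl rfl)
  have hsub' : ∀ {P : Subgroup G}, P ∈ F → P ∉ cls Om F L → P ∈ F' := fun hP hPL =>
    hsub (Or.inr ⟨hP, hPL⟩)
  have hXne : ∀ {P : Subgroup G}, P ∈ F → P ∉ cls Om F L → P ≠ X := by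
    intro P hP hPL e
    have h1 := hX.2 P ⟨hP, hPL⟩
    rw [← e] at h1
    exact hf.not_cm_self hP h1
  have hKF' := hsub' hK hKL
  -- the class of `K`
  have hKcls : ∀ P ∈ cls Om F K, P ∉ cls Om F L := fun P hP hPL =>
    hnapp hK hKL (app_trans hP.2 (app_symm hPL.2))
  have hchn : ∀ P ∈ cls Om F K, chn (Cen Om {X}) K P := by
    intro P hP
    refine chn_mono ?_ (hf.chn_TT hK hP.2 hL (hnapp hK hKL))
    intro Z hZ
    exact mem_Cen_single.mpr ⟨hZ.1, cm_symm (hYY L hL K hK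
      (fun h' => hnapp hK hKL (app_symm h')) X hX Z hZ)⟩
  have hc1 : cls Om F K ⊆ cls Om F' K := by
    intro P hP
    refine ⟨hsub' hP.1 (hKcls P hP), ?_⟩
    exact hf'.app_of_chn hKF' (hsub' hP.1 (hKcls P hP)) hXF' (hXne hK hKL)
      (hXne hP.1 (hKcls P hP)) (hchn P hP)
  obtain ⟨e1, e2⟩ := card_cls h hF hF' hK hKF'
  have hc2 : cls Om F K = cls Om F' K :=
    Set.eq_of_subset_of_ncard_le hc1 e1.le (Set.toFinite _)
  have ht1 : TT Om F K ⊆ TT Om F' K := by
    intro Z hZ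
    refine ⟨hZ.1, ?_⟩
    rintro P ⟨hP, hPn⟩
    rw [← hc2] at hPn
    by_cases hPF : P ∈ F ∧ P ∉ cls Om F L
    · exact hZ.2 P ⟨hPF.1, hPn⟩
    · -- `P ∈ TT F L`
      have hPT : P ∈ TT Om F L := by
        refine ⟨hf'.sub hP, ?_⟩
        rintro Q ⟨hQ, hQL⟩
        refine hf'.comm P hP Q (hsub' hQ hQL) ?_
        rintro rfl
        exact hPF ⟨hQ, hQL⟩
      exact cm_symm (hYY L hL K hK (fun h' => hnapp hK hKL (app_symm h')) P hPT Z hZ)
  have ht2 : TT Om F K = TT Om F' K := Set.eq_of_subset_of_ncard_le ht1 e2.le (Set.toFinite _)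
  -- `X` is outside the class of `K` in `F'`
  have hXapp : ¬ app Om F' K X := by
    intro h'
    have h1 : X ∈ cls Om F' K := ⟨hXF', h'⟩
    rw [← hc2] at h1
    exact hXne h1.1 (hKcls X h1) rfl
  rw [ht2, hf'.mem_TT_iff hKF' hXF' hXapp]
  have hMX : M ∈ Cen Om {X} := mem_Cen_single.mpr ⟨hM, cm_symm hXM⟩
  exact ⟨hMX, ReflTransGen.single ⟨hf'.mem_Cen hKF' hXF' (hXne hK hKL), hMX,
    fun h' => hn (cm_symm h')⟩⟩

/-- **a reducible frame is impossible** in a simple group with connected commuting graph -/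
theorem false_of_red [IsSimpleGroup G] (h : Frames Om Fs) (hF : F ∈ Fs)
    (hconn : ∀ C : Set (Subgroup G), C ⊆ Om → C.Nonempty →
      (∀ K ∈ C, ∀ L ∈ Om, cm K L → L ∈ C) → C = Om)
    (hYY : ∀ L ∈ F, ∀ M ∈ F, ¬ app Om F L M → ∀ X ∈ TT Om F L, ∀ Y ∈ TT Om F M, cm X Y)
    (hred : ∃ L ∈ F, ∃ M ∈ F, ¬ app Om F L M) : False := by
  have hf := h.frm F hF
  obtain ⟨L, hL, M, hM, hLM⟩ := hred
  -- the union
  have hC : {X | ∃ K ∈ F, X ∈ TT Om F K} = Om := by
    apply hconn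
    · rintro X ⟨K, -, hX⟩
      exact hX.1
    · exact ⟨L, L, hL, hf.mem_TT_self hL⟩
    · rintro X ⟨K, hK, hX⟩ P hP hXP
      exact closed h hF hYY hK hX hP hXP
  -- `Y = ⟨TT F L⟩` is normal
  set Y := sSup (TT Om F L) with hY
  have hLY : L ≤ Y := le_sSup (hf.mem_TT_self hL)
  have hnorm : ∀ X ∈ Om, X ≤ normalizer (Y : Set G) := by
    intro X hX
    rw [← hC] at hX
    obtain ⟨K, hK, hXK⟩ := hX
    by_cases hLK : app Om F L K
    · rw [TT_eq hLK] at hXK
      exact (le_sSup hXK).trans le_normalizer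
    · have h1 : cm X Y := by
        refine cm_symm (cm_sSup fun Z hZ => ?_)
        exact hYY L hL K hK hLK Z hZ X hXK
      exact (cm_iff_le_centralizer.mp h1).trans (centralizer_le_normalizer _)
  -- `⟨Om⟩ = G`
  have hgen : sSup Om = ⊤ := by
    have hn : (sSup Om).Normal := by
      refine ⟨fun x hx g => ?_⟩
      have h1 : cj g (sSup Om) ≤ sSup Om := by
        rw [cj_def, Subgroup.map_le_iff_le_comap]
        refine sSup_le fun P hP => ?_
        rw [← Subgroup.map_le_iff_le_comap]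
        exact le_sSup (h.conj P hP g)
      exact h1 (conj_mem_cj hx)
    rcases hn.eq_bot_or_eq_top with h1 | h1
    · exfalso
      have h2 : L ≤ ⊥ := h1 ▸ le_sSup (hf.sub hL)
      apply hf.not_cm_self hL
      intro x hx y hy
      have h3 := h2 hx
      rw [Subgroup.mem_bot] at h3
      rw [h3, one_mul, mul_one]
    · exact h1
  have hYn : Y.Normal := by
    rw [← normalizer_eq_top_iff, eq_top_iff, ← hgen]
    exact sSup_le hnorm
  rcases hYn.eq_bot_or_eq_top with h1 | h1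
  · apply hf.not_cm_self hL
    intro x hx y hy
    have h3 := hLY hx
    rw [h1, Subgroup.mem_bot] at h3
    rw [h3, one_mul, mul_one]
  · -- `M` commutes with `G`
    apply hf.not_cm_self hM
    have h2 : cm Y M := by
      refine cm_sSup fun Z hZ => ?_
      exact hYY L hL M hM hLM Z hZ M (hf.mem_TT_self hM)
    exact cm_mono (by rw [h1]; exact le_top) le_rfl h2

end Cfsg.Agent.Cit.TypeDet.Red
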