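import Cfsg.Agent.Cit.Defs

/-!
# Group theory for pieces with a frame of two members

* `commutator_mem` : commutators of a join of subgroups;
* `exists_kernel` : if an involution `z ∈ N` inverts `V / V₀` then `[z, N]` is trivial on `V / V₀`;
* `mem_of_rank_one` : a normal subgroup of `⟨X, Xn⟩` meeting `X` contains the involutions.
-/

set_option autoImplicit false

namespace Cfsg.Agent.Cit.TypeDet.TwoGrp

open Subgroup

variable {G : Type*} [Group G]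

/-- commutators of a closure -/
theorem commutator_mem {A : Subgroup G} {S : Set G} (hn : ∀ s ∈ S, cj s A = A)
    (h : ∀ s ∈ S, ∀ t ∈ S, s * t * s⁻¹ * t⁻¹ ∈ A) :
    ∀ v ∈ closure S, ∀ w ∈ closure S, v * w * v⁻¹ * w⁻¹ ∈ A := by
  have hcl : closure S ≤ normalizer (A : Set G) := by
    rw [closure_le]
    intro s hs
    exact mem_normalizer_iff_cj.2 (hn s hs)
  have hmem : ∀ g ∈ closure S, ∀ a ∈ A, g * a * g⁻¹ ∈ A := fun g hg a ha =>
    (mem_normalizer_iff.1 (hcl hg) a).1 ha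
  -- first for `w ∈ S`
  have h1 : ∀ t ∈ S, ∀ v ∈ closure S, v * t * v⁻¹ * t⁻¹ ∈ A := by
    intro t ht v hv
    induction hv using closure_induction with
    | mem s hs => exact h s hs t ht
    | one => rw [one_mul, inv_one, mul_one, mul_inv_cancel]; exact one_mem _
    | mul x y hx hy ihx ihy =>
      have e : x * y * t * (x * y)⁻¹ * t⁻¹ = (x * (y * t * y⁻¹ * t⁻¹) * x⁻¹) * (x * t * x⁻¹ * t⁻¹) := by group
      rw [e]
      exact mul_mem (hmem x hx _ ihy) ihx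
    | inv x hx ih =>
      have e : x⁻¹ * t * x⁻¹⁻¹ * t⁻¹ = x⁻¹ * (x * t * x⁻¹ * t⁻¹)⁻¹ * x⁻¹⁻¹ := by group
      rw [e]
      exact hmem _ (inv_mem hx) _ (inv_mem ih)
  intro v hv w hw
  induction hw using closure_induction with
  | mem t ht => exact h1 t ht v hv
  | one =>
    have e : v * 1 * v⁻¹ * (1 : G)⁻¹ = 1 := by group
    rw [e]; exact one_mem _
  | mul x y hx hy ihx ihy =>
    have e : v * (x * y) * v⁻¹ * (x * y)⁻¹ = (v * x * v⁻¹ * x⁻¹) * (x * (v * y * v⁻¹ * y⁻¹) * x⁻¹) := by group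
    rw [e]
    exact mul_mem ihx (hmem x hx _ ihy)
  | inv x hx ih =>
    have e : v * x⁻¹ * v⁻¹ * x⁻¹⁻¹ = x⁻¹ * (v * x * v⁻¹ * x⁻¹)⁻¹ * x⁻¹⁻¹ := by group
    rw [e]
    exact hmem _ (inv_mem hx) _ (inv_mem ih)

/-- an involution inverting `V / V₀` commutes with `N` modulo the kernel on `V / V₀` -/
theorem exists_kernel {V V₀ N : Subgroup G} {z : G} (hV : V₀ ≤ V)
    (hcomm : ∀ v ∈ V, ∀ w ∈ V, v * w * v⁻¹ * w⁻¹ ∈ V₀) (hN : ∀ g ∈ N, ∀ v ∈ V, g * v * g⁻¹ ∈ V)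
    (hN₀ : ∀ g ∈ N, ∀ v ∈ V₀, g * v * g⁻¹ ∈ V₀) (hz : z ∈ N) (hz2 : z * z = 1)
    (hI : ∀ v ∈ V, z * v * z * v ∈ V₀) :
    ∃ K : Subgroup G, K ≤ N ∧ (∀ g ∈ N, ∀ k ∈ K, g * k * g⁻¹ ∈ K) ∧ (∀ u ∈ N, z * u * z * u⁻¹ ∈ K) ∧
      ∀ k ∈ K, ∀ v ∈ V, k * v * k⁻¹ * v⁻¹ ∈ V₀ := by
  have hV₀ : ∀ v ∈ V, ∀ w ∈ V₀, v * w * v⁻¹ ∈ V₀ := by
    intro v hv w hw
    have e : v * w * v⁻¹ = (v * w * v⁻¹ * w⁻¹) * w := by group
    rw [e]
    exact mul_mem (hcomm v hv w (hV hw)) hw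
  let K : Subgroup G :=
    { carrier := {g | g ∈ N ∧ ∀ v ∈ V, g * v * g⁻¹ * v⁻¹ ∈ V₀}
      one_mem' := ⟨one_mem _, fun v _ => by
        have e : 1 * v * (1 : G)⁻¹ * v⁻¹ = 1 := by group
        rw [e]; exact one_mem _⟩
      mul_mem' := by
        rintro g k ⟨hg, hg'⟩ ⟨hk, hk'⟩
        refine ⟨mul_mem hg hk, fun v hv => ?_⟩
        have e : g * k * v * (g * k)⁻¹ * v⁻¹ = (g * (k * v * k⁻¹ * v⁻¹) * g⁻¹) * (g * v * g⁻¹ * v⁻¹) := by group
        rw [e]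
        exact mul_mem (hN₀ g hg _ (hk' v hv)) (hg' v hv)
      inv_mem' := by
        rintro g ⟨hg, hg'⟩
        refine ⟨inv_mem hg, fun v hv => ?_⟩
        have h1 := hg' (g⁻¹ * v * g) (by
          have := hN _ (inv_mem hg) v hv
          rwa [inv_inv] at this)
        have e : g⁻¹ * v * g⁻¹⁻¹ * v⁻¹ = (g * (g⁻¹ * v * g) * g⁻¹ * (g⁻¹ * v * g)⁻¹)⁻¹ := by group
        rw [e]
        exact inv_mem h1 }
  refine ⟨K, fun g hg => hg.1, ?_, ?_, fun k hk => hk.2⟩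
  · rintro g hg k ⟨hk, hk'⟩
    refine ⟨mul_mem (mul_mem hg hk) (inv_mem hg), fun v hv => ?_⟩
    have h1 := hk' (g⁻¹ * v * g) (by
      have := hN _ (inv_mem hg) v hv
      rwa [inv_inv] at this)
    have e : g * k * g⁻¹ * v * (g * k * g⁻¹)⁻¹ * v⁻¹ =
        g * (k * (g⁻¹ * v * g) * k⁻¹ * (g⁻¹ * v * g)⁻¹) * g⁻¹ := by group
    rw [e]
    exact hN₀ g hg _ h1
  · intro u hu
    have hz' : z⁻¹ = z := inv_eq_of_mul_eq_one_left hz2
    refine ⟨mul_mem (mul_mem (mul_mem hz hu) hz) (inv_mem hu), fun v hv => ?_⟩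
    -- `v₁ = u⁻¹ v u`
    have hv1 : u⁻¹ * v * u ∈ V := by
      have := hN _ (inv_mem hu) v hv
      rwa [inv_inv] at this
    have s1 := hI _ hv1
    -- `z v₁ z = s v₁⁻¹`
    have s2 := hN₀ u hu _ s1
    have s3 := hN₀ z hz _ s2
    rw [hz'] at s3
    have s4 := hI v⁻¹ (inv_mem hv)
    have e : z * u * z * u⁻¹ * v * (z * u * z * u⁻¹)⁻¹ * v⁻¹ =
        (z * (u * (z * (u⁻¹ * v * u) * z * (u⁻¹ * v * u)) * u⁻¹) * z) * (z * v⁻¹ * z * v⁻¹) := by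
      have e1 : (z * u * z * u⁻¹)⁻¹ = u * z * u⁻¹ * z := by
        rw [mul_inv_rev, mul_inv_rev, mul_inv_rev, inv_inv, hz']
        group
      rw [e1]
      have e2 : (z * (u * (z * (u⁻¹ * v * u) * z * (u⁻¹ * v * u)) * u⁻¹) * z) * (z * v⁻¹ * z * v⁻¹) =
          z * (u * (z * (u⁻¹ * v * u) * z * (u⁻¹ * v * u)) * u⁻¹) * (z * z) * v⁻¹ * z * v⁻¹ := by group
      rw [e2, hz2, mul_one]
      group
    rw [e]
    exact mul_mem s3 s4

/-- a subgroup of `⟨X, Xn⟩`, normalised by it, containing an element of `X` which is part of a `μ`-map, contains the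
elements `z` with `z ^ 2 = 1` -/
theorem mem_of_rank_one {X Xn K : Subgroup G} {p : ℕ} (hp : p.Prime) (hodd : p ≠ 2) (hX : IsPGroup p Xn)
    (hK : ∀ g ∈ X ⊔ Xn, ∀ k ∈ K, g * k * g⁻¹ ∈ K) {a u v : G} (ha : a ∈ K) (hu : u ∈ Xn) (hv : v ∈ Xn)
    (hmu : cj (u * a * v) Xn = X) {z : G} (hz : z ∈ X ⊔ Xn) (hz2 : z * z = 1) : z ∈ K := by
  have hKn : Xn ≤ normalizer (K : Set G) := by
    intro x hx
    rw [mem_normalizer_iff]
    intro k
    constructor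
    · intro hk; exact hK x (mem_sup_right hx) k hk
    · intro hk
      have := hK x⁻¹ (mem_sup_right (inv_mem hx)) _ hk
      have e : x⁻¹ * (x * k * x⁻¹) * x⁻¹⁻¹ = k := by group
      rwa [e] at this
  have h1 : X ⊔ Xn ≤ Xn ⊔ K := by
    refine sup_le ?_ le_sup_left
    rw [← hmu]
    have hm : u * a * v ∈ Xn ⊔ K :=
      mul_mem (mul_mem (mem_sup_left hu) (mem_sup_right ha)) (mem_sup_left hv)
    rintro _ ⟨x, hx, rfl⟩
    exact mul_mem (mul_mem hm (mem_sup_left hx)) (inv_mem hm)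
  have h2 : z ∈ ((Xn ⊔ K : Subgroup G) : Set G) := h1 hz
  rw [Subgroup.coe_mul_of_left_le_normalizer_right _ _ hKn, Set.mem_mul] at h2
  obtain ⟨x, hx, k, hk, e⟩ := h2
  subst e
  have hk' : x⁻¹ * k * x ∈ K := by
    have := hK x⁻¹ (mem_sup_right (inv_mem hx)) k hk
    rwa [inv_inv] at this
  have hxx : x * x ∈ K := by
    have e : x * x = k⁻¹ * (x⁻¹ * k * x)⁻¹ * (x⁻¹ * k * x * k * (x * x)) := by group
    have e3 : x * x * (x⁻¹ * k * x) * k = 1 := by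
      rw [← hz2]; group
    have e4 : x * x = k⁻¹ * (x⁻¹ * k * x)⁻¹ := by
      have : x * x * ((x⁻¹ * k * x) * k) = 1 := by rw [← mul_assoc]; exact e3
      rw [eq_inv_of_mul_eq_one_left this, mul_inv_rev]
    rw [e4]
    exact mul_mem (inv_mem hk) (inv_mem hk')
  have hx' : x ∈ K := by
    have : Fact p.Prime := ⟨hp⟩
    obtain ⟨m, hm⟩ := hX ⟨x, hx⟩
    have hm' : x ^ p ^ m = 1 := congrArg Subtype.val hm
    obtain ⟨q, hq⟩ := (hp.odd_of_ne_two hodd).pow (n := m)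
    rw [hq, pow_succ, pow_mul, pow_two] at hm'
    have h3 := eq_inv_of_mul_eq_one_right hm'
    rw [h3]
    exact inv_mem (pow_mem hxx q)
  exact mul_mem hx' hk

end Cfsg.Agent.Cit.TypeDet.TwoGrp
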