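import Cfsg.Agent.Nodes.ShortSum
import Cfsg.Agent.Nodes.PairOf
import Cfsg.Agent.Nodes.ClsNorm
import Cfsg.Agent.Cit.TypeDet.TwoGrp

/-!
# Orthogonal classical roots `a, b` with `Z b < X b` in rank two (type `BC₂`)

`X_le_of` : `y₁, y₂, a` the roots with positive product with `a`; a subgroup containing `X a`, `X b`, `X (-b)` contains
`X y₁` and `X y₂`, if `Z b < X b`.
-/

set_option autoImplicit false
set_option linter.unusedSectionVars false
set_option linter.dupNamespace false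

namespace Cfsg.Agent.Cit.TypeDet.TwoBC

open CoxeterSystem Cfsg.Agent.ChevalleyStructure.CoxeterGeom Cfsg.Agent.Tits.Roots Cfsg.Agent.Tits.Core
  Cfsg.Agent.Tits.RootComb Cfsg.Agent.Nodes.Comb Cfsg.Agent.Nodes.Reps Cfsg.Agent.Nodes.BNOf
  Cfsg.Agent.Nodes.RGDLib Cfsg.Agent.Nodes.Chart Cfsg.Agent.Nodes.Coroot
open Subgroup
open scoped commutatorElement

variable {I W Y : Type*} [Fintype I] [DecidableEq I] [Group W] [Fintype W] [Group Y] {M : CoxeterMatrix I}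
  {cs : CoxeterSystem M W} {A : I → I → ℤ} {h : IsCartan M A} {p : ℕ} {T : Subgroup Y} {n : I → Y}
  {X : (I → ℤ) → Subgroup Y} {R : Set (I → ℤ)} {Z : (I → ℤ) → Subgroup Y} {z : (I → ℤ) → Y}
  (C : Cls cs h p T n X R Z z)

include C

/-- the root groups of a rank-one subgroup `⟨X b, X (-b)⟩` acting on the radical of an orthogonal root -/
theorem X_le_of (hp : p.Prime) (hodd : p ≠ 2) {a b y₁ y₂ : I → ℤ} (ha : a ∈ R) (hb : b ∈ R)
    (h1 : IsRoot cs h y₁) (h2 : IsRoot cs h y₂) (hab : form cs h b a = 0)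
    (hP : ∀ w, IsRoot cs h w → (0 < form cs h w a ↔ w = y₁ ∨ w = y₂ ∨ w = a))
    (hb1 : form cs h y₁ b ≠ 0) (hb2 : form cs h y₂ b ≠ 0)
    (h12 : ∀ w, Btwn cs h y₁ y₂ w → w = a) (h1a : ∀ w, ¬ Btwn cs h y₁ a w) (h2a : ∀ w, ¬ Btwn cs h y₂ a w)
    {H : Subgroup Y} (hHa : X a ≤ H) (hHb : X b ≤ H) (hHb' : X (-b) ≤ H) {u : Y} (hu : u ∈ X b) (hu' : u ∉ Z b) :
    X y₁ ≤ H ∧ X y₂ ≤ H := by
  have D := C.rgd
  have hra := C.root a ha
  have hrb := C.root b hb
  have hnb := Cfsg.Agent.Nodes.ClsNorm.neg_mem C hb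
  -- basic non-equalities
  have f1 : 0 < form cs h y₁ a := (hP _ h1).2 (Or.inl rfl)
  have f2 : 0 < form cs h y₂ a := (hP _ h2).2 (Or.inr (Or.inl rfl))
  have fa : 0 < form cs h a a := form_pos cs h hra.ne_zero
  have ne_of : ∀ {x w : I → ℤ}, form cs h x a = 0 → 0 < form cs h w a → x ≠ w ∧ x ≠ -w := by
    intro x w h3 h4
    constructor
    · rintro rfl; omega
    · rintro rfl
      rw [form_neg_left] at h3; omega
  have hy1b := ne_of hab f1
  have hy2b := ne_of hab f2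
  have n12 : ∀ x w, 0 < form cs h x a → 0 < form cs h w a → x ≠ -w := by
    rintro x w h3 h4 rfl
    rw [form_neg_left] at h3; omega
  set z₀ := z b with hz₀
  -- the radical
  set S : Set Y := (X y₁ : Set Y) ∪ X y₂ ∪ X a with hS
  set V := closure S with hV
  have hVy1 : X y₁ ≤ V := fun x hx => subset_closure (Or.inl (Or.inl hx))
  have hVy2 : X y₂ ≤ V := fun x hx => subset_closure (Or.inl (Or.inr hx))
  have hVa : X a ≤ V := fun x hx => subset_closure (Or.inr hx)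
  have hVw : ∀ w, IsRoot cs h w → 0 < form cs h w a → X w ≤ V := by
    intro w hw h3
    rcases (hP w hw).1 h3 with rfl | rfl | rfl
    · exact hVy1
    · exact hVy2
    · exact hVa
  have hbtw : ∀ {x y : I → ℤ} {B : Subgroup Y}, (∀ w, Btwn cs h x y w → X w ≤ B) → btw cs h X x y ≤ B := by
    intro x y B hB
    exact iSup_le fun ⟨w, hw⟩ => hB w hw
  -- `S` as a set of pieces
  have hSc : ∀ s ∈ S, ∃ w, IsRoot cs h w ∧ 0 < form cs h w a ∧ s ∈ X w := by
    rintro s ((hs | hs) | hs)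
    · exact ⟨y₁, h1, f1, hs⟩
    · exact ⟨y₂, h2, f2, hs⟩
    · exact ⟨a, hra, fa, hs⟩
  -- `⟨X b, X (-b)⟩` normalises `V`
  have form_btw : ∀ {x y w : I → ℤ}, form cs h x a = 0 → 0 < form cs h y a → Btwn cs h x y w →
      0 < form cs h w a := by
    rintro x y w h3 h4 ⟨hw, m, c, d, hm, hc, hd, e⟩
    have h5 : m * form cs h w a = d * form cs h y a := by
      rw [← form_smul_left, e, form_add_left, form_smul_left, form_smul_left, h3, mul_zero, zero_add]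
    have h6 : 0 < m * form cs h w a := by rw [h5]; exact mul_pos hd h4
    exact (pos_iff_pos_of_mul_pos h6).1 hm
  have hNV0 : ∀ x, IsRoot cs h x → form cs h x a = 0 → ∀ g ∈ X x, ∀ v ∈ V, g * v * g⁻¹ ∈ V := by
    intro x hx hxa g hg v hv
    induction hv using closure_induction with
    | mem s hs =>
      obtain ⟨w, hw, hwa, hsw⟩ := hSc s hs
      have h3 := D.comm x w hx hw (ne_of hxa hwa).1 (ne_of hxa hwa).2 g hg s hsw
      have h4 : ⁅g, s⁆ ∈ V := hbtw (fun w' hw' => hVw w' hw'.1 (form_btw hxa hwa hw')) h3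
      have e : g * s * g⁻¹ = ⁅g, s⁆ * s := by rw [commutatorElement_def]; group
      rw [e]
      exact mul_mem h4 (subset_closure hs)
    | one => rw [mul_one, mul_inv_cancel]; exact one_mem _
    | mul x y _ _ ihx ihy =>
      have e : g * (x * y) * g⁻¹ = (g * x * g⁻¹) * (g * y * g⁻¹) := by group
      rw [e]; exact mul_mem ihx ihy
    | inv x _ ih =>
      have e : g * x⁻¹ * g⁻¹ = (g * x * g⁻¹)⁻¹ := by group
      rw [e]; exact inv_mem ih
  set N := X b ⊔ X (-b) with hN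
  have hNV : ∀ g ∈ N, ∀ v ∈ V, g * v * g⁻¹ ∈ V := by
    have h3 : ∀ x, IsRoot cs h x → form cs h x a = 0 → X x ≤ normalizer (V : Set Y) := by
      intro x hx hxa g hg
      rw [mem_normalizer_iff]
      intro v
      constructor
      · exact hNV0 x hx hxa g hg v
      · intro hv
        have h4 := hNV0 x hx hxa g⁻¹ (inv_mem hg) _ hv
        have e : g⁻¹ * (g * v * g⁻¹) * g⁻¹⁻¹ = v := by group
        rwa [e] at h4
    have h4 : N ≤ normalizer (V : Set Y) :=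
      sup_le (h3 b hrb hab) (h3 (-b) hrb.neg (by rw [form_neg_left, hab, neg_zero]))
    intro g hg v hv
    exact (mem_normalizer_iff.1 (h4 hg) v).1 hv
  have hNH : N ≤ H := sup_le hHb hHb'
  -- commutators of `V`
  have comm1 : ∀ {x y : I → ℤ}, IsRoot cs h x → IsRoot cs h y → x ≠ y → x ≠ -y → (∀ w, ¬ Btwn cs h x y w) →
      ∀ s ∈ X x, ∀ t ∈ X y, s * t * s⁻¹ * t⁻¹ = 1 := by
    intro x y hx hy h3 h4 h5 s hs t ht
    have h6 := D.comm x y hx hy h3 h4 s hs t ht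
    have h7 : btw cs h X x y ≤ ⊥ := hbtw fun w hw => absurd hw (h5 w)
    have h8 := h7 h6
    rwa [commutatorElement_def, mem_bot] at h8
  have inv_abel : ∀ {y : I → ℤ}, (∀ s ∈ X y, z₀ * s * z₀ = s⁻¹) → ∀ s ∈ X y, ∀ t ∈ X y, s * t * s⁻¹ * t⁻¹ = 1 := by
    intro y hy s hs t ht
    have e1 := hy s hs
    have e2 := hy t ht
    have e3 := hy _ (mul_mem hs ht)
    have hzz := C.z_sq b hb
    have e4 : z₀ * (s * t) * z₀ = (z₀ * s * z₀) * (z₀ * t * z₀) := by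
      calc z₀ * (s * t) * z₀ = z₀ * s * 1 * t * z₀ := by group
        _ = z₀ * s * (z₀ * z₀) * t * z₀ := by rw [hz₀, hzz]
        _ = _ := by group
    rw [e4, e1, e2, mul_inv_rev] at e3
    -- `s⁻¹ t⁻¹ = t⁻¹ s⁻¹`
    have e5 : t * s = s * t := by
      have := congrArg (·⁻¹) e3
      simpa [mul_inv_rev] using this
    calc s * t * s⁻¹ * t⁻¹ = t * s * s⁻¹ * t⁻¹ := by rw [e5]
      _ = 1 := by group
  have zi1 : ∀ s ∈ X y₁, z₀ * s * z₀ = s⁻¹ := C.z_inv b hb y₁ h1 hy1b.1.symm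
    (fun e => hy1b.2 (by rw [e, neg_neg])) hb1
  have zi2 : ∀ s ∈ X y₂, z₀ * s * z₀ = s⁻¹ := C.z_inv b hb y₂ h2 hy2b.1.symm
    (fun e => hy2b.2 (by rw [e, neg_neg])) hb2
  have za : ∀ s ∈ X a, z₀ * s * z₀ = s := by
    intro s hs
    have h3 : Z b ⊔ Z (-b) ≤ centralizer {s} := by
      refine sup_le (fun c hc => ?_) (fun c hc => ?_)
      · rw [mem_centralizer_singleton_iff]
        exact (C.cent b hb a hra (by rw [form_comm, hab]) s hs c hc).symm
      · rw [mem_centralizer_singleton_iff]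
        exact (C.cent (-b) hnb a hra (by rw [form_neg_right, form_comm, hab, neg_zero]) s hs c hc).symm
    have h4 := h3 (C.z_mem b hb)
    rw [mem_centralizer_singleton_iff] at h4
    rw [hz₀, h4, mul_assoc, C.z_sq b hb, mul_one]
  have hzN : z₀ ∈ N := by
    have h3 : Z b ⊔ Z (-b) ≤ N := sup_le ((C.le b hb).trans le_sup_left) ((C.le _ hnb).trans le_sup_right)
    exact h3 (C.z_mem b hb)
  have hzz : z₀ * z₀ = 1 := C.z_sq b hb
  -- commutators lie in `X a`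
  have hcjS : ∀ s ∈ S, cj s (X a) = X a := by
    have key : ∀ g : Y, (∀ x ∈ X a, g * x * g⁻¹ * x⁻¹ = 1) → cj g (X a) = X a := by
      intro g hg
      have h3 : ∀ x ∈ X a, g * x * g⁻¹ = x := fun x hx => mul_inv_eq_one.mp (hg x hx)
      apply le_antisymm
      · rintro _ ⟨x, hx, rfl⟩
        change g * x * g⁻¹ ∈ X a
        rw [h3 x hx]; exact hx
      · intro x hx
        exact ⟨x, hx, h3 x hx⟩
    rintro s ((hs | hs) | hs)
    · exact key s fun x hx => comm1 h1 hra (fun e => (ne_of hab fa).1 (by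
        exfalso
        have h5 := form_pos cs h h1.ne_zero
        have h6 : form cs h y₁ b = 0 := by rw [e, form_comm, hab]
        exact hb1 h6)) (n12 _ _ f1 fa) h1a s hs x hx
    · exact key s fun x hx => comm1 h2 hra (fun e => by
        exact absurd (show form cs h y₂ b = 0 by rw [e, form_comm, hab]) hb2) (n12 _ _ f2 fa) h2a s hs x hx
    · apply le_antisymm
      · rintro _ ⟨x, hx, rfl⟩
        exact mul_mem (mul_mem hs hx) (inv_mem hs)
      · intro x hx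
        refine ⟨s⁻¹ * x * s, mul_mem (mul_mem (inv_mem hs) hx) hs, ?_⟩
        change s * (s⁻¹ * x * s) * s⁻¹ = x
        group
  have hcomS : ∀ s ∈ S, ∀ t ∈ S, s * t * s⁻¹ * t⁻¹ ∈ X a := by
    have k11 := inv_abel zi1
    have k22 := inv_abel zi2
    have k12 : ∀ s ∈ X y₁, ∀ t ∈ X y₂, s * t * s⁻¹ * t⁻¹ ∈ X a := by
      intro s hs t ht
      by_cases e : y₁ = y₂
      · rw [← e] at ht
        rw [k11 s hs t ht]; exact one_mem _
      · have h3 := D.comm y₁ y₂ h1 h2 e (n12 _ _ f1 f2) s hs t ht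
        have h4 : btw cs h X y₁ y₂ ≤ X a := hbtw fun w hw => by rw [h12 w hw]
        have h5 := h4 h3
        rwa [commutatorElement_def] at h5
    have k1a : ∀ s ∈ X y₁, ∀ t ∈ X a, s * t * s⁻¹ * t⁻¹ = 1 := comm1 h1 hra (fun e =>
      absurd (show form cs h y₁ b = 0 by rw [e, form_comm, hab]) hb1) (n12 _ _ f1 fa) h1a
    have k2a : ∀ s ∈ X y₂, ∀ t ∈ X a, s * t * s⁻¹ * t⁻¹ = 1 := comm1 h2 hra (fun e =>
      absurd (show form cs h y₂ b = 0 by rw [e, form_comm, hab]) hb2) (n12 _ _ f2 fa) h2a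
    have sw : ∀ {s t : Y}, t * s * t⁻¹ * s⁻¹ ∈ X a → s * t * s⁻¹ * t⁻¹ ∈ X a := by
      intro s t h3
      have e : s * t * s⁻¹ * t⁻¹ = (t * s * t⁻¹ * s⁻¹)⁻¹ := by group
      rw [e]; exact inv_mem h3
    rintro s ((hs | hs) | hs) t ((ht | ht) | ht)
    · rw [k11 s hs t ht]; exact one_mem _
    · exact k12 s hs t ht
    · rw [k1a s hs t ht]; exact one_mem _
    · exact sw (k12 t ht s hs)
    · rw [k22 s hs t ht]; exact one_mem _
    · rw [k2a s hs t ht]; exact one_mem _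
    · refine sw ?_
      rw [k1a t ht s hs]; exact one_mem _
    · refine sw ?_
      rw [k2a t ht s hs]; exact one_mem _
    · exact mul_mem (mul_mem (mul_mem hs ht) (inv_mem hs)) (inv_mem ht)
  have hcomX := TwoGrp.commutator_mem hcjS hcomS
  set V₀ := V ⊓ H with hV₀
  have hXV₀ : X a ≤ V₀ := le_inf hVa hHa
  have hcomm : ∀ v ∈ V, ∀ w ∈ V, v * w * v⁻¹ * w⁻¹ ∈ V₀ := fun v hv w hw => hXV₀ (hcomX v hv w hw)
  have hV₀n : ∀ v ∈ V, ∀ w ∈ V₀, v * w * v⁻¹ ∈ V₀ := by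
    intro v hv w hw
    have e : v * w * v⁻¹ = (v * w * v⁻¹ * w⁻¹) * w := by group
    rw [e]
    exact mul_mem (hcomm v hv w hw.1) hw
  have hN₀ : ∀ g ∈ N, ∀ v ∈ V₀, g * v * g⁻¹ ∈ V₀ := fun g hg v hv =>
    ⟨hNV g hg v hv.1, mul_mem (mul_mem (hNH hg) hv.2) (H.inv_mem (hNH hg))⟩
  have hI : ∀ v ∈ V, z₀ * v * z₀ * v ∈ V₀ := by
    intro v hv
    induction hv using closure_induction with
    | mem s hs =>
      rcases hs with (hs | hs) | hs
      · rw [zi1 s hs, inv_mul_cancel]; exact one_mem _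
      · rw [zi2 s hs, inv_mul_cancel]; exact one_mem _
      · rw [za s hs]; exact hXV₀ (mul_mem hs hs)
    | one => rw [mul_one, mul_one, hzz]; exact one_mem _
    | mul x y hx hy ihx ihy =>
      have e : z₀ * (x * y) * z₀ * (x * y) =
          (z₀ * x * z₀ * x) * (x⁻¹ * (z₀ * y * z₀ * y) * x⁻¹⁻¹) * (x⁻¹ * y⁻¹ * x⁻¹⁻¹ * y⁻¹⁻¹) := by
        have e1 : z₀ * (x * y) * z₀ * (x * y) = z₀ * x * (z₀ * z₀) * y * z₀ * x * y := by
          rw [hzz]; group
        rw [e1]; group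
      rw [e]
      have hx' : x⁻¹ ∈ V := V.inv_mem hx
      have hy' : y⁻¹ ∈ V := V.inv_mem hy
      exact mul_mem (mul_mem ihx (hV₀n _ hx' _ ihy)) (hcomm _ hx' _ hy')
    | inv x hx ih =>
      have hz' : z₀⁻¹ = z₀ := inv_eq_of_mul_eq_one_left hzz
      have e : z₀ * x⁻¹ * z₀ * x⁻¹ = x * (z₀ * x * z₀ * x)⁻¹ * x⁻¹ := by
        simp only [mul_inv_rev, hz']
        group
      rw [e]
      exact hV₀n x hx _ (inv_mem ih)
  obtain ⟨K, hKN, hKn, hKc, hKt⟩ := TwoGrp.exists_kernel (V := V) (V₀ := V₀) (N := N) (z := z₀) inf_le_left hcomm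
    hNV hN₀ hzN hzz hI
  -- an element of `K ⊓ X b`
  have hzu : z₀ * u * z₀ * u ∈ Z b := C.z_inv_self b hb u hu
  have hc1 : z₀ * u * z₀ * u⁻¹ ∈ X b := by
    have e : z₀ * u * z₀ * u⁻¹ = (z₀ * u * z₀ * u) * u⁻¹ * u⁻¹ := by group
    rw [e]
    exact mul_mem (mul_mem (C.le b hb hzu) (inv_mem hu)) (inv_mem hu)
  have hc2 : z₀ * u * z₀ * u⁻¹ ≠ 1 := by
    intro h3
    have e : u * u = z₀ * u * z₀ * u := by
      have h4 : z₀ * u * z₀ = u := mul_inv_eq_one.mp h3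
      rw [h4]
    exact hu' (Cfsg.Agent.Nodes.ShortSum.mem_of_sq_mem C hp hodd hrb hu (K := Z b) (by rw [e]; exact hzu))
  have hc3 : z₀ * u * z₀ * u⁻¹ ∈ K := hKc u (mem_sup_left hu)
  obtain ⟨u₁, hu₁, v₁, hv₁, hmu⟩ := Cfsg.Agent.Nodes.PairOf.exists_mu D (x := -b) hrb.neg
    (a := z₀ * u * z₀ * u⁻¹) (by rw [neg_neg]; exact hc1) hc2
  have hmu' : cj (u₁ * (z₀ * u * z₀ * u⁻¹) * v₁) (X (-b)) = X b := by
    have h3 : cj (u₁ * (z₀ * u * z₀ * u⁻¹) * v₁) (X (-b)) = X (-b - cpr cs h (-b) (-b) • -b) := hmu _ hrb.neg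
    rw [h3, cpr_self cs h hrb.neg]
    congr 1
    module
  have hzK : z₀ ∈ K := TwoGrp.mem_of_rank_one hp hodd (C.rgd.pgrp' hrb.neg) hKn hc3 hu₁ hv₁ hmu' hzN hzz
  have fin : ∀ v ∈ V, v * v ∈ H := by
    intro v hv
    have h3 := hKt z₀ hzK v hv
    have h4 := hI v hv
    have hz' : z₀⁻¹ = z₀ := inv_eq_of_mul_eq_one_left hzz
    rw [hz'] at h3
    have e : v * v = (z₀ * v * z₀ * v⁻¹)⁻¹ * (z₀ * v * z₀ * v) := by
      group
    rw [e]
    exact (mul_mem (inv_mem h3) h4).2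
  exact ⟨fun v hv => Cfsg.Agent.Nodes.ShortSum.mem_of_sq_mem C hp hodd h1 hv (fin v (hVy1 hv)),
    fun v hv => Cfsg.Agent.Nodes.ShortSum.mem_of_sq_mem C hp hodd h2 hv (fin v (hVy2 hv))⟩

end Cfsg.Agent.Cit.TypeDet.TwoBC
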