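import Cfsg.Agent.Cit.TypeDet.StdFrame
import Cfsg.Agent.Cit.TypeDet.FourRed
import Cfsg.Agent.Cit.TypeDet.TwoGrp
import Cfsg.Agent.Nodes.ShortSum
import Cfsg.Agent.Nodes.PairOf
import Cfsg.Agent.Nodes.StdConn

/-!
# Charts with a frame of two members

`central_of` : if every root `≠ ± a, ± b` is orthogonal to `a` if and only if it is orthogonal to `b`, and `X = Z` on
`± a, ± b`, then `z_a z_b` is central.

`conG_of_le` : the commuting graph on `OmIn Om L` is connected if the group `HH` (stabiliser of a component) contains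
all root groups.  `X_le_HH` : `X x ≤ HH` if `x` is orthogonal to a classical root.
-/

set_option autoImplicit false
set_option linter.unusedSectionVars false
set_option linter.dupNamespace false

namespace Cfsg.Agent.Cit.TypeDet.TwoPiece

open CoxeterSystem Cfsg.Agent.ChevalleyStructure.CoxeterGeom Cfsg.Agent.Tits.Roots Cfsg.Agent.Tits.Core
  Cfsg.Agent.Tits.RootComb Cfsg.Agent.Nodes.Comb Cfsg.Agent.Nodes.Reps Cfsg.Agent.Nodes.BNOf
  Cfsg.Agent.Nodes.RGDLib Cfsg.Agent.Nodes.Chart Cfsg.Agent.Nodes.Coroot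
open Relation Subgroup

section Cls

variable {I W Y : Type*} [Fintype I] [DecidableEq I] [Group W] [Fintype W] [Group Y] {M : CoxeterMatrix I}
  {cs : CoxeterSystem M W} {A : I → I → ℤ} {h : IsCartan M A} {p : ℕ} {T : Subgroup Y} {n : I → Y}
  {X : (I → ℤ) → Subgroup Y} {R : Set (I → ℤ)} {Z : (I → ℤ) → Subgroup Y} {z : (I → ℤ) → Y}
  (C : Cls cs h p T n X R Z z)

include C

theorem comm_orth {x s : I → ℤ} (hx : IsRoot cs h x) (hs : s ∈ R) (h0 : form cs h x s = 0) :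
    cm (X x) (kz Z s) := by
  rw [cm_comm, cm_iff_le_centralizer, kz, sup_le_iff, ← cm_iff_le_centralizer, ← cm_iff_le_centralizer]
  refine ⟨cm_symm fun a ha b hb => C.cent s hs x hx h0.ge a ha b hb, cm_symm fun a ha b hb => ?_⟩
  exact C.cent (-s) (Cfsg.Agent.Nodes.ClsNorm.neg_mem C hs) x hx (by rw [form_neg_right, h0, neg_zero]) a ha b hb

theorem cj_of_orth {x s : I → ℤ} (hx : IsRoot cs h x) (hs : s ∈ R) (h0 : form cs h x s = 0) {g : Y}
    (hg : g ∈ X x) : cj g (kz Z s) = kz Z s := by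
  have h1 := comm_orth C hx hs h0
  have key : ∀ g ∈ X x, cj g (kz Z s) ≤ kz Z s := by
    rintro g hg _ ⟨b, hb, rfl⟩
    change g * b * g⁻¹ ∈ kz Z s
    rw [h1 g hg b hb, mul_inv_cancel_right]
    exact hb
  apply le_antisymm (key g hg)
  have h2 := cj_mono g (key g⁻¹ (inv_mem hg))
  rwa [cj_cj_inv] at h2

end Cls

/-! ### Reachability -/

section Reach

variable {G : Type*} [Group G]

/-- two commuting members of `T` -/
def Ad (T : Set (Subgroup G)) (K J : Subgroup G) : Prop := K ∈ T ∧ J ∈ T ∧ cm K J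

theorem Ad.symm {T : Set (Subgroup G)} {K J : Subgroup G} (h : Ad T K J) : Ad T J K := ⟨h.2.1, h.1, cm_symm h.2.2⟩

theorem reach_symm {T : Set (Subgroup G)} {K J : Subgroup G} (h : ReflTransGen (Ad T) K J) :
    ReflTransGen (Ad T) J K := by
  induction h with
  | refl => exact .refl
  | tail _ h2 ih => exact .head h2.symm ih

theorem reach_cj {T : Set (Subgroup G)} {g : G} (hT : ∀ K ∈ T, cj g K ∈ T) {K J : Subgroup G}
    (h : ReflTransGen (Ad T) K J) : ReflTransGen (Ad T) (cj g K) (cj g J) :=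
  h.lift (fun x => cj g x) fun _ _ h => ⟨hT _ h.1, hT _ h.2.1, cm_cj.mpr h.2.2⟩

theorem conG_of_reach {T : Set (Subgroup G)} (h : ∀ K ∈ T, ∀ J ∈ T, ReflTransGen (Ad T) K J) : Red.ConG T := by
  intro C hC hne hcl
  obtain ⟨K, hK⟩ := hne
  apply Set.Subset.antisymm hC
  intro J hJ
  have h1 := h K (hC hK) J hJ
  induction h1 with
  | refl => exact hK
  | tail _ h2 ih => exact hcl _ (ih h2.1) _ hJ h2.2.2

theorem reach_of_conG {T : Set (Subgroup G)} (h : Red.ConG T) {K : Subgroup G} (hK : K ∈ T) {J : Subgroup G}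
    (hJ : J ∈ T) : ReflTransGen (Ad T) K J := by
  have h1 := h {J | J ∈ T ∧ ReflTransGen (Ad T) K J} (fun _ h => h.1) ⟨K, hK, .refl⟩
    (fun X hX Y hY hXY => ⟨hY, hX.2.tail ⟨hX.1, hY, hXY⟩⟩)
  have h2 : J ∈ {J | J ∈ T ∧ ReflTransGen (Ad T) K J} := by rw [h1]; exact hJ
  exact h2.2

variable {Om : Set (Subgroup G)} {L : Subgroup G}

theorem cj_mem_OmIn (hO : ∀ K ∈ Om, ∀ g, cj g K ∈ Om) {g : G} (hg : g ∈ L) {K : Subgroup G} (hK : K ∈ OmIn Om L) :
    cj g K ∈ OmIn Om L := by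
  refine ⟨hO K hK.1 g, ?_⟩
  rintro _ ⟨x, hx, rfl⟩
  exact mul_mem (mul_mem hg (hK.2 hx)) (inv_mem hg)

/-- the stabiliser in `L` of the component of `K₀` -/
def HH (hO : ∀ K ∈ Om, ∀ g, cj g K ∈ Om) (L K₀ : Subgroup G) : Subgroup G where
  carrier := {g | g ∈ L ∧ ReflTransGen (Ad (OmIn Om L)) K₀ (cj g K₀)}
  one_mem' := ⟨one_mem _, by rw [cj_one]⟩
  mul_mem' := by
    rintro g k ⟨hg, hg'⟩ ⟨hk, hk'⟩
    refine ⟨mul_mem hg hk, ?_⟩
    rw [cj_mul]
    exact hg'.trans (reach_cj (fun K hK => cj_mem_OmIn hO hg hK) hk')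
  inv_mem' := by
    rintro g ⟨hg, hg'⟩
    refine ⟨inv_mem hg, ?_⟩
    have h1 := reach_cj (fun K hK => cj_mem_OmIn hO (inv_mem hg) hK) hg'
    rw [cj_inv_cj] at h1
    exact reach_symm h1

theorem mem_HH_of {hO : ∀ K ∈ Om, ∀ g, cj g K ∈ Om} {K₀ K : Subgroup G} {g : G} (hg : g ∈ L)
    (h1 : ReflTransGen (Ad (OmIn Om L)) K₀ K) (h2 : ReflTransGen (Ad (OmIn Om L)) K₀ (cj g K)) :
    g ∈ HH hO L K₀ := by
  have h3 := reach_cj (fun K hK => cj_mem_OmIn hO hg hK) h1
  exact ⟨hg, h2.trans (reach_symm h3)⟩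

variable {p : ℕ} (c : Chart Om p L)

/-- `X x` stabilises the component if `x` is orthogonal to a classical root in it -/
theorem X_le_HH {hO : ∀ K ∈ Om, ∀ g, cj g K ∈ Om} {K₀ : Subgroup G} {x s : c.I → ℤ} (hx : IsRoot c.cs c.h x)
    (hs : s ∈ c.R) (h0 : form c.cs c.h x s = 0) (h1 : ReflTransGen (Ad (OmIn Om L)) K₀ (kz c.Z s)) :
    c.X x ≤ HH hO L K₀ := by
  intro g hg
  refine mem_HH_of (c.gen.le (X_le_G1 hx hg)) h1 ?_
  rw [cj_of_orth c.cls hx hs h0 hg]
  exact h1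

/-- **connectedness** : the group `HH` contains all root groups -/
theorem conG_of_le {hO : ∀ K ∈ Om, ∀ g, cj g K ∈ Om} {r₀ : c.I → ℤ}
    (hR : ∀ r ∈ c.R, ReflTransGen (Ad (OmIn Om L)) (kz c.Z r₀) (kz c.Z r))
    (hX : ∀ x, IsRoot c.cs c.h x → c.X x ≤ HH hO L (kz c.Z r₀)) : Red.ConG (OmIn Om L) := by
  have hL : L ≤ HH hO L (kz c.Z r₀) := by
    have h1 : G1 c.cs c.h c.X ≤ HH hO L (kz c.Z r₀) := iSup_le fun x => hX x.1 x.2
    exact c.gen.ge.trans h1
  have key : ∀ K ∈ OmIn Om L, ReflTransGen (Ad (OmIn Om L)) (kz c.Z r₀) K := by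
    rintro K ⟨hK, hKL⟩
    obtain ⟨r, hr, g, hg, rfl⟩ := c.om_conj K hK hKL
    exact (hL hg).2.trans (reach_cj (fun K hK => cj_mem_OmIn hO hg hK) (hR r hr))
  exact conG_of_reach fun K hK J hJ => (reach_symm (key K hK)).trans (key J hJ)

/-- **connectedness** : every root is orthogonal to a classical root -/
theorem conG_of_orth (hO : ∀ K ∈ Om, ∀ g, cj g K ∈ Om) {r₀ : c.I → ℤ}
    (hR : ∀ r ∈ c.R, ReflTransGen (fun r s => r ∈ c.R ∧ s ∈ c.R ∧ form c.cs c.h r s = 0) r₀ r)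
    (hX : ∀ x, IsRoot c.cs c.h x → ∃ s ∈ c.R, form c.cs c.h x s = 0) : Red.ConG (OmIn Om L) := by
  have h1 : ∀ r ∈ c.R, ReflTransGen (Ad (OmIn Om L)) (kz c.Z r₀) (kz c.Z r) := fun r hr =>
    (hR r hr).lift (kz c.Z) fun a b ⟨ha, hb, hab⟩ => ⟨kz_mem c ha, kz_mem c hb, cm_kz c.cls ha hb hab⟩
  refine conG_of_le (hO := hO) c h1 fun x hx => ?_
  obtain ⟨s, hs, h0⟩ := hX x hx
  exact X_le_HH c hx hs h0 (h1 s hs)

end Reach

/-! ### Central products of involutions -/

section Central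

variable {G : Type*} [Group G] [Finite G] {Om : Set (Subgroup G)} {p : ℕ} {L : Subgroup G}

/-- **`z_a z_b` is central** -/
theorem central_of (hyp : Hyp Om) (c : Chart Om p L) {a b : c.I → ℤ} (ha : a ∈ c.R) (hb : b ∈ c.R)
    (hab : form c.cs c.h a b = 0) (hXa : c.X a = c.Z a) (hXa' : c.X (-a) = c.Z (-a)) (hXb : c.X b = c.Z b)
    (hXb' : c.X (-b) = c.Z (-b))
    (hiff : ∀ x, IsRoot c.cs c.h x → x ≠ a → x ≠ -a → x ≠ b → x ≠ -b →
      (form c.cs c.h x a = 0 ↔ form c.cs c.h x b = 0)) :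
    ∀ x ∈ L, x * (zz (kz c.Z a) * zz (kz c.Z b)) = zz (kz c.Z a) * zz (kz c.Z b) * x := by
  have C := c.cls
  have hKa := (kz_mem c ha).1
  have hKb := (kz_mem c hb).1
  have hba : form c.cs c.h b a = 0 := by rw [form_comm]; exact hab
  have hcab := cm_kz C ha hb hab
  have ca : ∀ g ∈ kz c.Z a, g * zz (kz c.Z a) = zz (kz c.Z a) * g := fun g hg =>
    mem_centralizer_singleton_iff.mp (hyp.le_centralizer hKa hg)
  have cb : ∀ g ∈ kz c.Z b, g * zz (kz c.Z b) = zz (kz c.Z b) * g := fun g hg =>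
    mem_centralizer_singleton_iff.mp (hyp.le_centralizer hKb hg)
  have ca' : ∀ g ∈ kz c.Z a, g * zz (kz c.Z b) = zz (kz c.Z b) * g := fun g hg =>
    hcab g hg _ (hyp.zz_mem hKb)
  have cb' : ∀ g ∈ kz c.Z b, g * zz (kz c.Z a) = zz (kz c.Z a) * g := fun g hg =>
    cm_symm hcab g hg _ (hyp.zz_mem hKa)
  have main : ∀ {g : G}, g * zz (kz c.Z a) = zz (kz c.Z a) * g → g * zz (kz c.Z b) = zz (kz c.Z b) * g →
      g * (zz (kz c.Z a) * zz (kz c.Z b)) = zz (kz c.Z a) * zz (kz c.Z b) * g := by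
    intro g h1 h2
    rw [← mul_assoc, h1, mul_assoc, h2, mul_assoc]
  have key : ∀ x, IsRoot c.cs c.h x → c.X x ≤ centralizer {zz (kz c.Z a) * zz (kz c.Z b)} := by
    intro x hx g hg
    rw [mem_centralizer_singleton_iff]
    by_cases e1 : x = a
    · have h1 : g ∈ kz c.Z a := by
        rw [e1, hXa] at hg
        exact (le_sup_left : c.Z a ≤ kz c.Z a) hg
      exact main (ca g h1) (ca' g h1)
    by_cases e2 : x = -a
    · have h1 : g ∈ kz c.Z a := by
        rw [e2, hXa'] at hg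
        exact (le_sup_right : c.Z (-a) ≤ kz c.Z a) hg
      exact main (ca g h1) (ca' g h1)
    by_cases e3 : x = b
    · have h1 : g ∈ kz c.Z b := by
        rw [e3, hXb] at hg
        exact (le_sup_left : c.Z b ≤ kz c.Z b) hg
      exact main (cb' g h1) (cb g h1)
    by_cases e4 : x = -b
    · have h1 : g ∈ kz c.Z b := by
        rw [e4, hXb'] at hg
        exact (le_sup_right : c.Z (-b) ≤ kz c.Z b) hg
      exact main (cb' g h1) (cb g h1)
    by_cases h0 : form c.cs c.h x a = 0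
    · have h0' := (hiff x hx e1 e2 e3 e4).1 h0
      exact main (comm_orth C hx ha h0 g hg _ (hyp.zz_mem hKa)) (comm_orth C hx hb h0' g hg _ (hyp.zz_mem hKb))
    · have h0' : form c.cs c.h x b ≠ 0 := fun h => h0 ((hiff x hx e1 e2 e3 e4).2 h)
      have za : zz (kz c.Z a) = c.z a :=
        Cfsg.Agent.Nodes.StdConn.zz_eq hyp c ha (Cfsg.Agent.Nodes.StdConn.z_ne_one C c.prime c.odd ha hx e1 e2 h0)
      have zb : zz (kz c.Z b) = c.z b :=
        Cfsg.Agent.Nodes.StdConn.zz_eq hyp c hb (Cfsg.Agent.Nodes.StdConn.z_ne_one C c.prime c.odd hb hx e3 e4 h0')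
      have i1 := C.z_inv a ha x hx e1 e2 h0
      have i2 := C.z_inv b hb x hx e3 e4 h0' g hg
      have i3 := i1 g⁻¹ (inv_mem hg)
      have sa := C.z_sq a ha
      have sb := C.z_sq b hb
      rw [za, zb]
      -- `z_a (z_b g z_b) z_a = g`
      rw [inv_inv, ← i2] at i3
      have e5 : c.z a * c.z b * g * (c.z b * c.z a) = g := by
        calc c.z a * c.z b * g * (c.z b * c.z a) = c.z a * (c.z b * g * c.z b) * c.z a := by group
          _ = g := i3
      have comm_ab : c.z b * c.z a = c.z a * c.z b := by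
        have := ca' _ (hyp.zz_mem hKa)
        rw [za, zb] at this
        exact this.symm
      have e6 : c.z a * c.z b * (c.z a * c.z b) = 1 := by
        calc c.z a * c.z b * (c.z a * c.z b) = c.z a * (c.z b * c.z a) * c.z b := by group
          _ = c.z a * (c.z a * c.z b) * c.z b := by rw [comm_ab]
          _ = (c.z a * c.z a) * (c.z b * c.z b) := by group
          _ = 1 := by rw [sa, sb, mul_one]
      calc g * (c.z a * c.z b) = (c.z a * c.z b * g * (c.z b * c.z a)) * (c.z a * c.z b) := by rw [e5]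
        _ = c.z a * c.z b * g * ((c.z b * c.z a) * (c.z a * c.z b)) := by group
        _ = c.z a * c.z b * g := by rw [comm_ab, e6, mul_one]
  have hL : L ≤ centralizer {zz (kz c.Z a) * zz (kz c.Z b)} := by
    have h1 : G1 c.cs c.h c.X ≤ centralizer {zz (kz c.Z a) * zz (kz c.Z b)} := iSup_le fun x => key x.1 x.2
    exact c.gen.ge.trans h1
  exact fun x hx => mem_centralizer_singleton_iff.mp (hL hx)

end Central

end Cfsg.Agent.Cit.TypeDet.TwoPiece
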