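import Cfsg.Agent.Cit.TypeDet.TwoPiece
import Cfsg.Agent.Cit.TypeDet.TwoBC
import Cfsg.Agent.Nodes.TyStd
import Cfsg.Agent.Nodes.KindC
import Cfsg.Agent.Nodes.RKindsBC

/-!
# Charts of type `C 2` with `Z r < X r`

`conG_C2` : the commuting graph on `OmIn Om L` is connected (`L` of type `SU₅`).
-/

set_option autoImplicit false
set_option linter.unusedSectionVars false
set_option linter.dupNamespace false

namespace Cfsg.Agent.Cit.TypeDet.TwoPieceC

open CoxeterSystem Cfsg.Agent.ChevalleyStructure.CoxeterGeom Cfsg.Agent.Tits.Roots Cfsg.Agent.Tits.Core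
  Cfsg.Agent.Tits.RootComb Cfsg.Agent.Nodes.Comb Cfsg.Agent.Nodes.Reps Cfsg.Agent.Nodes.BNOf
  Cfsg.Agent.Nodes.RGDLib Cfsg.Agent.Nodes.Chart Cfsg.Agent.Nodes.Coroot Cfsg.Agent.Nodes.TypeC
  Cfsg.Agent.Nodes.TypeCForm Cfsg.Agent.Nodes.KindBC Cfsg.Agent.Nodes.TyStd Cfsg.Agent.Nodes
open Subgroup Relation Cfsg.Agent.Cit.TypeDet.TwoPiece

/-! ### The roots of type `C 2` -/

section Comb

variable {W : Type*} [Group W] [Fintype W] (cs : CoxeterSystem (CoxeterMatrix.B 2) W)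

theorem form_pos_iff {x r : Fin 2 → ℤ} (hr : IsRoot cs (isCartan 2) r) :
    0 < form cs (isCartan 2) x r ↔ 0 < ip (ee x) (ee r) := by
  have h1 := form_nonneg_iff cs (x := x) hr
  have h2 := form_eq_zero_iff cs (x := x) hr
  constructor
  · intro h
    rcases (h1.1 h.le).lt_or_eq with h3 | h3
    · exact h3
    · exact absurd (h2.2 h3.symm) h.ne'
  · intro h
    rcases (h1.2 h.le).lt_or_eq with h3 | h3
    · exact h3
    · exact absurd (h2.1 h3.symm) h.ne'

theorem fst_eq_or {a b : Fin 2 × Bool} (h : a.1 ≠ b.1) (k : Fin 2) : k = a.1 ∨ k = b.1 := by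
  obtain ⟨a, s⟩ := a
  obtain ⟨b, t⟩ := b
  simp only at h ⊢
  omega

/-- a signed index of `Fin 2` is `± a` or `± b` -/
theorem cases {a b : Fin 2 × Bool} (h : a.1 ≠ b.1) (c : Fin 2 × Bool) : c = a ∨ c = ng a ∨ c = b ∨ c = ng b := by
  obtain ⟨c, u⟩ := c
  obtain ⟨a, s⟩ := a
  obtain ⟨b, t⟩ := b
  simp only [ng, Prod.mk.injEq]
  rcases fst_eq_or (a := (a, s)) (b := (b, t)) h c with h1 | h1 <;> cases u <;> cases s <;> cases t <;>
    simp_all

variable {cs}

/-- the coordinates of the roots not orthogonal to `2ε_a` and on the positive side -/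
theorem pos_iff {a b : Fin 2 × Bool} (h : a.1 ≠ b.1) {w : Fin 2 → ℤ} (hw : IsRoot cs (isCartan 2) w) :
    0 < form cs (isCartan 2) w (rt a a) ↔ w = rt a b ∨ w = rt a (ng b) ∨ w = rt a a := by
  rw [form_pos_iff cs (isRoot_rt cs (Or.inr rfl)), ee_rt, ip_add_wt]
  have haa := sn_mul_self a
  have hbb := sn_mul_self b
  constructor
  · intro h0
    obtain ⟨c, d, hcd, rfl⟩ := exists_rt hw
    rw [ee_rt, Pi.add_apply] at h0
    have hval : ∀ e : Fin 2 × Bool, wt e a.1 * sn a = if e = a then 1 else if e = ng a then -1 else 0 := by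
      intro e
      rcases cases h e with rfl | rfl | rfl | rfl
      · rw [wt_apply_self, if_pos rfl, haa]
      · have e1 : wt (ng a) a.1 = sn (ng a) := wt_apply_self (ng a)
        have e2 : ng a ≠ a := by
          intro e3
          have := congrArg Prod.snd e3
          simp at this
        rw [e1, if_neg e2, if_pos rfl, sn_ng, neg_mul, haa]
      · rw [wt_apply_ne h, if_neg (fun e3 => h (by rw [e3])), if_neg (fun e3 => h (by rw [e3, ng_fst])), zero_mul]
      · rw [wt_apply_ne (by rw [ng_fst]; exact h), if_neg (fun e3 => h (by rw [← e3, ng_fst])),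
          if_neg (fun e3 => h (by have := congrArg Prod.fst e3; simpa using this.symm)), zero_mul]
    have h1 : 0 < wt c a.1 * sn a + wt d a.1 * sn a := by linarith
    rw [hval, hval] at h1
    have hna : ng a ≠ a := by
      intro e3
      have := congrArg Prod.snd e3
      simp at this
    have hcase : c = a ∨ d = a := by
      by_contra hcon
      push Not at hcon
      rw [if_neg hcon.1, if_neg hcon.2] at h1
      split_ifs at h1 <;> norm_num at h1
    have key : ∀ d : Fin 2 × Bool, Ok a d → rt a d = rt a b ∨ rt a d = rt a (ng b) ∨ rt a d = rt a a := by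
      intro d hd
      rcases cases h d with rfl | rfl | rfl | rfl
      · exact Or.inr (Or.inr rfl)
      · exfalso
        rcases hd with h3 | h3
        · exact h3 rfl
        · exact hna h3.symm
      · exact Or.inl rfl
      · exact Or.inr (Or.inl rfl)
    rcases hcase with rfl | rfl
    · exact key d hcd
    · rw [rt_comm]
      exact key c hcd.symm
  · rintro (rfl | rfl | rfl)
    · rw [ee_rt, Pi.add_apply, wt_apply_self, wt_apply_ne h, add_zero, haa]; norm_num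
    · rw [ee_rt, Pi.add_apply, wt_apply_self, wt_apply_ne (by rw [ng_fst]; exact h), add_zero, haa]; norm_num
    · rw [ee_rt, Pi.add_apply, wt_apply_self, add_mul, haa]; norm_num

/-- coordinates with respect to `a`, `b` -/
theorem ip_btwn {x y w : Fin 2 → ℤ} {m c d : ℤ} (e : m • w = c • x + d • y) (v : Fin 2 → ℤ) :
    m * ip (ee w) v = c * ip (ee x) v + d * ip (ee y) v := by
  rw [← ip_smul_left, ← ee_smul, e, ee_add, ip_add_left, ee_smul, ee_smul, ip_smul_left, ip_smul_left]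

theorem ip_rt_left {a b : Fin 2 × Bool} (h : a.1 ≠ b.1) :
    ip (ee (rt a b)) (wt a) = 1 ∧ ip (ee (rt a b)) (wt b) = 1 ∧ ip (ee (rt a (ng b))) (wt a) = 1 ∧
      ip (ee (rt a (ng b))) (wt b) = -1 ∧ ip (ee (rt a a)) (wt a) = 2 ∧ ip (ee (rt a a)) (wt b) = 0 := by
  have h1 := ip_wt_self a
  have h2 := ip_wt_self b
  have h3 := ip_wt_ne h
  have h4 : ip (wt b) (wt a) = 0 := ip_wt_ne (a := b) (b := a) h.symm
  have h5 := ip_wt_ng b
  have h6 : ip (wt (ng b)) (wt a) = 0 := ip_wt_ne (a := ng b) (b := a) (by rw [ng_fst]; exact h.symm)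
  simp only [ee_rt, ip_add_left]
  omega

theorem btwn_short {a b : Fin 2 × Bool} (h : a.1 ≠ b.1) {w : Fin 2 → ℤ}
    (hw : Btwn cs (isCartan 2) (rt a b) (rt a (ng b)) w) : w = rt a a := by
  obtain ⟨hr, m, c, d, hm, hc, hd, e⟩ := hw
  obtain ⟨i1, i2, i3, i4, i5, i6⟩ := ip_rt_left h
  have e1 := ip_btwn e (wt a)
  have e2 := ip_btwn e (wt b)
  rw [i1, i3] at e1
  rw [i2, i4] at e2
  have h0 : 0 < form cs (isCartan 2) w (rt a a) := by
    rw [form_pos_iff cs (isRoot_rt cs (Or.inr rfl)), ee_rt, ip_add_right]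
    have h1 : 0 < m * ip (ee w) (wt a) := by rw [e1]; omega
    have h2 := (pos_iff_pos_of_mul_pos h1).1 hm
    omega
  rcases (pos_iff h hr).1 h0 with rfl | rfl | rfl
  · rw [i1] at e1
    rw [i2] at e2
    omega
  · rw [i3] at e1
    rw [i4] at e2
    omega
  · rfl

theorem not_btwn_long {a b : Fin 2 × Bool} (h : a.1 ≠ b.1) (w : Fin 2 → ℤ) :
    ¬ Btwn cs (isCartan 2) (rt a b) (rt a a) w := by
  rintro ⟨hr, m, c, d, hm, hc, hd, e⟩
  obtain ⟨i1, i2, i3, i4, i5, i6⟩ := ip_rt_left h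
  have e1 := ip_btwn e (wt a)
  have e2 := ip_btwn e (wt b)
  rw [i1, i5] at e1
  rw [i2, i6] at e2
  have h0 : 0 < form cs (isCartan 2) w (rt a a) := by
    rw [form_pos_iff cs (isRoot_rt cs (Or.inr rfl)), ee_rt, ip_add_right]
    have h1 : 0 < m * ip (ee w) (wt a) := by rw [e1]; omega
    have h2 := (pos_iff_pos_of_mul_pos h1).1 hm
    omega
  rcases (pos_iff h hr).1 h0 with rfl | rfl | rfl
  · rw [i1] at e1
    rw [i2] at e2
    omega
  · rw [i3] at e1
    rw [i4] at e2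
    omega
  · rw [i5] at e1
    rw [i6] at e2
    omega

/-- **the short root groups** -/
theorem X_le_short {Y : Type*} [Group Y] {p : ℕ} {T : Subgroup Y} {ν : Fin 2 → Y} {X Z : (Fin 2 → ℤ) → Subgroup Y}
    {z : (Fin 2 → ℤ) → Y} (C : Cls cs (isCartan 2) p T ν X (RC 2) Z z) (hp : p.Prime) (hodd : p ≠ 2)
    {a b : Fin 2 × Bool} (h : a.1 ≠ b.1) {H : Subgroup Y} (hHa : X (rt a a) ≤ H) (hHb : X (rt b b) ≤ H)
    (hHb' : X (-rt b b) ≤ H) (hne : X (rt b b) ≠ Z (rt b b)) : X (rt a b) ≤ H ∧ X (rt a (ng b)) ≤ H := by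
  have hb : rt b b ∈ RC 2 := rt_mem_RC b
  obtain ⟨u, hu, hu'⟩ : ∃ u ∈ X (rt b b), u ∉ Z (rt b b) := by
    by_contra hcon
    push Not at hcon
    exact hne (le_antisymm (fun u hu => hcon u hu) (C.le _ hb))
  obtain ⟨i1, i2, i3, i4, i5, i6⟩ := ip_rt_left h
  have hnb : a.1 ≠ (ng b).1 := by rw [ng_fst]; exact h
  have hf : ∀ x, form cs (isCartan 2) x (rt b b) = 0 ↔ ip (ee x) (wt b) = 0 := by
    intro x
    rw [form_eq_zero_iff cs (isRoot_rt cs (Or.inr rfl)), ee_rt, ip_add_right]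
    omega
  refine TwoBC.X_le_of C hp hodd (rt_mem_RC a) hb (isRoot_rt cs (Or.inl h)) (isRoot_rt cs (Or.inl hnb)) ?_
    (fun w hw => pos_iff h hw) ?_ ?_ (fun w hw => btwn_short h hw) (not_btwn_long h) (not_btwn_long hnb) hHa hHb
    hHb' hu hu'
  · rw [form_comm, hf]; exact i6
  · rw [Ne, hf]; omega
  · rw [Ne, hf]; omega

end Comb

/-! ### The chart -/

section Chart

variable {G : Type*} [Group G] {Om : Set (Subgroup G)} {p : ℕ} {L : Subgroup G}

/-- `X r ≠ Z r` does not depend on the classical root `r` -/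
theorem ne_of_ne (c : Chart Om p L) (hne : ∃ r ∈ c.R, c.X r ≠ c.Z r) : ∀ r ∈ c.R, c.X r ≠ c.Z r := by
  obtain ⟨r, hr, hr'⟩ := hne
  intro y hy h3
  apply hr'
  obtain ⟨w, rfl⟩ := c.trans y hy r hr
  obtain ⟨k, hk⟩ := exists_rp c.cs c.cls.rgd.nsys w
  rw [← c.cls.rgd.conj_rp hk (c.cls.root y hy), ← Cfsg.Agent.Nodes.ClsNorm.conj_Z c.cls hk hy, h3]

theorem ne_reindex (c : Chart Om p L) {J W' : Type} [Fintype J] [DecidableEq J] [Group W'] [Fintype W']
    {M' : CoxeterMatrix J} {A' : J → J → ℤ} (e : c.I ≃ J)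
    (hM : ∀ i j, c.M i j = M' (e i) (e j)) (hA : ∀ i j, c.A i j = A' (e i) (e j)) (cs' : CoxeterSystem M' W')
    (h' : IsCartan M' A') {R' : Set (J → ℤ)} (hroot : ∀ r ∈ R', IsRoot cs' h' r)
    (hact' : ∀ r ∈ R', ∀ w, rep cs' h' w r ∈ R') (hsr : ∀ i, sr i ∈ c.R ↔ sr (e i) ∈ R')
    (htrans : ∀ r ∈ R', ∀ s ∈ R', ∃ w, s = rep cs' h' w r) (hne : ∃ r ∈ c.R, c.X r ≠ c.Z r) :
    ∃ r ∈ (reindex c e hM hA cs' h' hroot hact' hsr htrans).R, (reindex c e hM hA cs' h' hroot hact' hsr htrans).X r ≠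
      (reindex c e hM hA cs' h' hroot hact' hsr htrans).Z r := by
  obtain ⟨r, hr, hr'⟩ := hne
  have e1 : (fun i => (fun j => r (e.symm j)) (e i)) = r := by funext i; simp
  have e2 : IsRoot cs' h' (fun j => r (e.symm j)) := by
    rw [← isRoot_comp_iff (cs := c.cs) (h := c.h) e hM hA cs' h', e1]
    exact c.cls.root r hr
  have e3 : (fun j => r (e.symm j)) ∈ R' := by
    rw [← mem_R_iff (cs := c.cs) (h := c.h) e hM hA cs' h' c.cls.act hact' hsr e2, e1]
    exact hr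
  refine ⟨fun j => r (e.symm j), e3, ?_⟩
  · change c.X (fun i => (fun j => r (e.symm j)) (e i)) ≠ c.Z (fun i => (fun j => r (e.symm j)) (e i))
    rw [e1]
    exact hr'

/-- orthogonality of the long roots -/
theorem form_long {W : Type*} [Group W] [Fintype W] (cs : CoxeterSystem (CoxeterMatrix.B 2) W) {a b : Fin 2 × Bool}
    (hab : a.1 ≠ b.1) : form cs (isCartan 2) (rt a a) (rt b b) = 0 := by
  rw [form_eq_zero_iff cs (isRoot_rt cs (Or.inr rfl)), ee_rt b b, ip_add_right, (ip_rt_left hab).2.2.2.2.2]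
  norm_num

/-- a long root -/
def r0 : Fin 2 → ℤ := rt ((0 : Fin 2), true) (0, true)

theorem reach_long {W : Type*} [Group W] [Fintype W] (cs : CoxeterSystem (CoxeterMatrix.B 2) W) :
    ∀ r ∈ RC 2, ReflTransGen (fun r s => r ∈ RC 2 ∧ s ∈ RC 2 ∧ form cs (isCartan 2) r s = 0)
      r0 r := by
  intro r hr
  obtain ⟨a, rfl⟩ := mem_RC.1 hr
  by_cases ha : (0 : Fin 2) = a.1
  · have hba : ((1 : Fin 2), true).1 ≠ a.1 := by rw [← ha]; decide
    exact (ReflTransGen.single ⟨rt_mem_RC _, rt_mem_RC _,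
      form_long cs (a := ((0 : Fin 2), true)) (b := ((1 : Fin 2), true)) (by decide)⟩).tail
      ⟨rt_mem_RC _, rt_mem_RC _, form_long cs hba⟩
  · exact ReflTransGen.single ⟨rt_mem_RC _, rt_mem_RC _, form_long cs (a := ((0 : Fin 2), true)) ha⟩

/-- **type `C 2`, `Z r < X r`** -/
theorem conG_C2 (hO : ∀ K ∈ Om, ∀ g, cj g K ∈ Om) (c : Chart Om p L) (h : c.IsTy (.C 2))
    (hne : ∃ r ∈ c.R, c.X r ≠ c.Z r) : Red.ConG (OmIn Om L) := by
  let cs' : CoxeterSystem (CoxeterMatrix.B 2) (CoxeterMatrix.B 2).Group := (CoxeterMatrix.B 2).toCoxeterSystem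
  have hf : Finite (CoxeterMatrix.B 2).Group := finite_of_isTy c h cs'
  let _ : Fintype (CoxeterMatrix.B 2).Group := Fintype.ofFinite _
  obtain ⟨e, hM, hA, hR, h1⟩ := exists_chart_of_isTy c h (W' := (CoxeterMatrix.B 2).Group) cs' (R' := RC 2)
    (fun r hr => root_RC cs' hr) (fun r hr w => act_RC cs' hr w) (fun i => RKindsBC.sr_mem_RC) (trans_RC cs')
  have hne' := ne_of_ne _ (ne_reindex c e hM hA cs' (Ty.C 2).isCartan (fun r hr => root_RC cs' hr)
    (fun r hr w => act_RC cs' hr w) hR (trans_RC cs') hne)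
  let c' := reindex c e hM hA cs' (Ty.C 2).isCartan (fun r hr => root_RC cs' hr)
    (fun r hr w => act_RC cs' hr w) hR (trans_RC cs')
  have C : Cls cs' (isCartan 2) p c'.T c'.n c'.X (RC 2) c'.Z c'.z := c'.cls
  have hXZ : ∀ y ∈ RC 2, c'.X y ≠ c'.Z y := hne'
  have hR'' : ∀ r ∈ c'.R, ReflTransGen (Ad (OmIn Om L)) (kz c'.Z r0) (kz c'.Z r) :=
    fun r hr => (reach_long cs' r hr).lift (kz c'.Z) fun a b ⟨ha, hb, hab⟩ =>
      ⟨kz_mem c' ha, kz_mem c' hb, cm_kz c'.cls ha hb hab⟩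
  have hex : ∀ a : Fin 2 × Bool, ∃ b : Fin 2 × Bool, a.1 ≠ b.1 := by decide
  have hlong : ∀ a : Fin 2 × Bool, c'.X (rt a a) ≤ TwoPiece.HH hO L (kz c'.Z r0) := by
    intro a
    obtain ⟨b, hab⟩ := hex a
    exact TwoPiece.X_le_HH c' (isRoot_rt cs' (Or.inr rfl)) (rt_mem_RC b) (form_long cs' hab) (hR'' _ (rt_mem_RC b))
  refine TwoPiece.conG_of_le (hO := hO) c' hR'' ?_
  intro x hx
  obtain ⟨a, b, hab, e0⟩ := exists_rt (cs := cs') (x := x) hx
  subst e0
  rcases hab with hab | rfl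
  · refine (X_le_short C c.prime c.odd hab (hlong a) (hlong b) ?_ (hXZ _ (rt_mem_RC b))).1
    rw [← rt_ng]
    exact hlong (ng b)
  · exact hlong a

end Chart

end Cfsg.Agent.Cit.TypeDet.TwoPieceC
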